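/-
Geometric positions of a subgroup of an orthogonal group in even dimension.
-/
import Cfsg.Prelude.Def_GeometricClasses

set_option autoImplicit false

namespace CfsgLib.Techniques.AschEven

open Cfsg
open scoped MatrixGroups

variable {F : Type*} [Field F] {ι : Type} [Fintype ι] [DecidableEq ι]

/-- A subgroup of the isometry group of `q` in dimension `2 * m` lies in a geometric stabiliser. -/
inductive InEvenGeometric [Fintype F] (q : QuadraticForm F (ι → F)) (m : ℕ) (H : Subgroup (GL ι F)) : Prop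
  | singular (W : Submodule F (ι → F)) (h0 : W ≠ ⊥) (hs : Geo.IsTotallySingularQuad ⇑q W)
      (hle : H ≤ Geo.subspaceStabilizer W)
  | nondeg (W : Submodule F (ι → F)) (h0 : W ≠ ⊥) (h1 : W ≠ ⊤)
      (hnd : Geo.IsNondegenerateOn (QuadraticMap.polar ⇑q) W) (hle : H ≤ Geo.subspaceStabilizer W)
  | point (v : ι → F) (h2 : (2 : F) = 0) (hv : q v ≠ 0)
      (hle : H ≤ Geo.subspaceStabilizer (Submodule.span F {v}))
  | blocks (t k : ℕ) (D : Fin t → Submodule F (ι → F)) (hD : Geo.IsOrthogonalMDecomposition ⇑q k D)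
      (hirr : Geo.ActsIrreducibly (Geo.matrixSet H)) (hle : H ≤ Geo.decompositionStabilizer D)
  | pair (D : Fin 2 → Submodule F (ι → F)) (hD : Geo.IsMDecomposition m D)
      (hs : ∀ i, Geo.IsTotallySingularQuad ⇑q (D i)) (hirr : Geo.ActsIrreducibly (Geo.matrixSet H))
      (hle : H ≤ Geo.decompositionStabilizer D)
  | fieldSA (r : ℕ) (K : Subalgebra F (Matrix ι ι F)) (hr : r.Prime) (hne : r ≠ m)
      (hK : Geo.IsFieldSubalgebra r K) (hsa : Geo.IsSelfAdjointFor (QuadraticMap.polar ⇑q) K)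
      (hle : H ≤ Geo.subalgebraNormalizer K)
  | fieldU (K : Subalgebra F (Matrix ι ι F)) (hK : Geo.IsFieldSubalgebra 2 K)
      (hac : Geo.IsAdjointClosedFor (QuadraticMap.polar ⇑q) K)
      (hnsa : ¬ Geo.IsSelfAdjointFor (QuadraticMap.polar ⇑q) K)
      (hsim : ∀ k ∈ K, ∃ c : F, ∀ v, q (Matrix.mulVec k v) = c * q v) (hle : H ≤ Geo.subalgebraNormalizer K)
  | tensorSym (a b : ℕ) (e : ι ≃ Fin a × Fin b) (P : GL ι F) (G₁ : Matrix (Fin a) (Fin a) F)
      (G₂ : Matrix (Fin b) (Fin b) F) (ha : 3 ≤ a) (hab : a ≤ b) (h2 : (2 : F) ≠ 0)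
      (hd₁ : G₁.det ≠ 0) (hd₂ : G₂.det ≠ 0) (hs₁ : G₁.transpose = G₁) (hs₂ : G₂.transpose = G₂)
      (hG : Geo.gramMatrix (fun x y => QuadraticMap.polar ⇑q ((P : Matrix ι ι F).mulVec (x ∘ e))
        ((P : Matrix ι ι F).mulVec (y ∘ e))) = Matrix.kronecker G₁ G₂)
      (hirr : Geo.ActsIrreducibly (Geo.matrixSet H))
      (hle : H ≤ Geo.tensorProductSubgroup a b e P)
  | tensorAlt (b : ℕ) (e : ι ≃ Fin 2 × Fin b) (P : GL ι F) (f₁ : (Fin 2 → F) → (Fin 2 → F) → F)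
      (f₂ : (Fin b → F) → (Fin b → F) → F) (hs₁ : Geo.IsSymplecticForm f₁) (hs₂ : Geo.IsSymplecticForm f₂)
      (hf : Geo.IsTensorFormStructure id (QuadraticMap.polar ⇑q) f₁ f₂ e P)
      (hz : ∀ (x₁ : Fin 2 → F) (x₂ : Fin b → F),
        q (Matrix.mulVec (P : Matrix ι ι F) ((fun a : Fin 2 × Fin b => x₁ a.1 * x₂ a.2) ∘ e)) = 0)
      (hle : H ≤ Geo.tensorProductSubgroup 2 b e P)
  | subfield (F₀ : Subfield F) (r : ℕ) (P : GL ι F) (ζ : F) (hr : r.Prime)
      (hcard : Fintype.card F = Nat.card F₀ ^ r) (hζ : ζ ≠ 0)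
      (hP : Geo.IsQuadFormRationalStructure (fun v => ζ * q v) F₀ P) (hle : H ≤ Geo.subfieldSubgroup F₀ P)
  | eight (h8 : Fintype.card ι = 8) (hplus : Geo.IsPlusTypeOn ⇑q ⊤)

end CfsgLib.Techniques.AschEven
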