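/-
Maximal totally singular subspaces: extension, parity, and forms admitting a quadratic field of similarities.
-/
import Cfsg.Agent.Lib.Classical22.OrthParity
import Cfsg.Agent.Lib.Classical.Witt
import Cfsg.Agent.Lib.Techniques.AschOmega.Members

set_option autoImplicit false

namespace CfsgLib.Techniques.AschEven

open Matrix CfsgLib.Classical CfsgLib.Classical22
open CfsgLib.Techniques.AschOmega (omega_le_isometry map_isometry)
open scoped MatrixGroups

variable {F : Type*} [Field F] [Fintype F] {ι : Type} [Fintype ι] [DecidableEq ι] {q : QuadraticForm F (ι → F)}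

omit [Fintype F] in
theorem finrank_fun : Module.finrank F (ι → F) = Fintype.card ι := Module.finrank_pi F

omit [Fintype F] [DecidableEq ι] in
theorem exists_inj_le {A B : Submodule F (ι → F)} (h : Module.finrank F A ≤ Module.finrank F B) :
    ∃ φ : A →ₗ[F] B, Function.Injective φ := by
  let bA := Module.finBasis F A
  let bB := Module.finBasis F B
  refine ⟨bA.constr F fun i => bB (Fin.castLE h i), (injective_iff_map_eq_zero _).2 fun x hx => ?_⟩
  rw [Module.Basis.constr_apply_fintype] at hx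
  have h0 := Fintype.linearIndependent_iff.1 (bB.linearIndependent.comp _ (Fin.castLE_injective h)) _ hx
  exact bA.forall_coord_eq_zero_iff.1 fun i => by simpa using h0 i

omit [Fintype F] in
/-- In a plus space every totally singular subspace extends to one of half the dimension. -/
theorem exists_ts_max (hQ : PolarNondeg q) (hplus : Cfsg.Geo.IsPlusTypeOn ⇑q ⊤) {W : Submodule F (ι → F)}
    (hW : ∀ w ∈ W, q w = 0) :
    ∃ U : Submodule F (ι → F), W ≤ U ∧ (∀ u ∈ U, q u = 0) ∧ 2 * Module.finrank F U = Fintype.card ι := by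
  obtain ⟨U₀, -, hU₀, hd⟩ := hplus
  rw [finrank_top, finrank_fun] at hd
  have h2 := two_mul_finrank_singular q hQ hW
  rw [finrank_fun] at h2
  obtain ⟨φ, hφ⟩ := exists_inj_le (A := W) (B := U₀) (by omega)
  obtain ⟨g, hg, hgW⟩ := witt_quad q hQ W (U₀.subtype.comp φ) (U₀.injective_subtype.comp hφ)
    fun a => (hU₀ _ (φ a).2).trans (hW a a.2).symm
  refine ⟨U₀.map g.symm.toLinearMap, fun w hw => ⟨g w, ?_, g.symm_apply_apply w⟩, ?_, ?_⟩
  · rw [SetLike.mem_coe, hgW ⟨w, hw⟩]
    exact (φ ⟨w, hw⟩).2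
  · rintro _ ⟨u, hu, rfl⟩
    rw [← hU₀ u hu]
    conv_rhs => rw [← g.apply_symm_apply u]
    exact (hg _).symm
  · rw [LinearEquiv.finrank_map_eq, hd]

omit [Fintype F] in
/-- A totally singular subspace with no singular vectors outside it in its perp is of half dimension in a plus
space. -/
theorem two_mul_finrank_of_maximal (hQ : PolarNondeg q) (hplus : Cfsg.Geo.IsPlusTypeOn ⇑q ⊤)
    {W : Submodule F (ι → F)} (hW : ∀ w ∈ W, q w = 0) (hmax : ∀ v ∈ qPerp q W, q v = 0 → v ∈ W) :
    2 * Module.finrank F W = Fintype.card ι := by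
  obtain ⟨U, hWU, hU, hd⟩ := exists_ts_max hQ hplus hW
  have : U ≤ W := fun u hu => hmax u ((mem_qPerp q).2 fun w hw => polar_zero_of_singular q hU (hWU hw) hu) (hU u hu)
  rw [← hd, le_antisymm hWU this]

theorem exists_qHom (hQ : PolarNondeg q) (hn : 5 ≤ Fintype.card ι) {h : GL ι F}
    (hh : h ∈ Cfsg.Geo.omegaGL ⇑q) : ∃ g ∈ eichGroup q, qHom q g = h := by
  rw [omegaGL_eq_map q hQ hn] at hh
  exact hh

/-- An element of `omegaGL` fixing a totally singular subspace of dimension `m - 1` fixes any maximal one above it. -/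
theorem fixes_max (hQ : PolarNondeg q) {m : ℕ} (hm : 3 ≤ m) (hn : Fintype.card ι = 2 * m)
    {U W : Submodule F (ι → F)} (hU : ∀ u ∈ U, q u = 0) (hUd : Module.finrank F U = m) (hWU : W ≤ U)
    (hWd : m ≤ Module.finrank F W + 1) {h : GL ι F} (hh : h ∈ Cfsg.Geo.omegaGL ⇑q)
    (hW : h ∈ Cfsg.Geo.subspaceStabilizer W) : h ∈ Cfsg.Geo.subspaceStabilizer U := by
  obtain ⟨g, hg, rfl⟩ := exists_qHom hQ (by omega) hh
  have hgW : g ∈ qStab q W := by rw [← comap_subspaceStabilizer]; exact hW
  have hle : W ≤ U ⊓ U.map g.1.toLinearMap := fun w hw =>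
    ⟨hWU hw, (g⁻¹).1 w, hWU (apply_mem_of_qStab q (inv_mem hgW) hw), qApply_inv_self q g w⟩
  have heq := map_eq_of_codim_le_one q hQ hm (finrank_fun.trans hn) hUd hU hg
    (hWd.trans (Nat.add_le_add_right (Submodule.finrank_mono hle) 1))
  have : g ∈ qStab q U := mem_qStab_of_maps q fun v hv => heq.le ⟨v, hv, rfl⟩
  rwa [← comap_subspaceStabilizer] at this

/-- The commutator subgroup does not exchange complementary maximal totally singular subspaces in dimension twice an
odd number. -/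
theorem not_swap (hQ : PolarNondeg q) {m : ℕ} (hm : 3 ≤ m) (hodd : Odd m) (hn : Fintype.card ι = 2 * m)
    {U U' : Submodule F (ι → F)} (hU : ∀ u ∈ U, q u = 0) (hUd : Module.finrank F U = m) (hd : U ⊓ U' = ⊥)
    {h : GL ι F} (hh : h ∈ Cfsg.Geo.omegaGL ⇑q) : U.map (Matrix.toLin' (h : Matrix ι ι F)) ≠ U' := by
  intro hmap
  obtain ⟨g, hg, rfl⟩ := exists_qHom hQ (by omega) hh
  rw [toLin'_qHom] at hmap
  rw [eichGroup_eq_commutator q hQ (by rw [finrank_fun]; omega)] at hg
  have he := even_codim_map q hQ (finrank_fun.trans hn) hUd hU hg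
  rw [hmap, hd, finrank_bot, Nat.sub_zero] at he
  exact Nat.not_even_iff_odd.2 hodd he

omit [Fintype F] in
/-- A form of plus type with a quadratic field of similarities has Witt index divisible by two. -/
theorem even_of_similarity_field [Finite F] (hQ : PolarNondeg q) (hplus : Cfsg.Geo.IsPlusTypeOn ⇑q ⊤) {m : ℕ}
    (hn : Fintype.card ι = 2 * m) {x : Matrix ι ι F}
    (hx : ∀ v, ∀ c : F, v ≠ (0 : ι → F) → x *ᵥ v ≠ c • v) {a b : F} (hxx : x * x = a • x + b • 1)
    (hsing : ∀ v, q v = 0 → q (x *ᵥ v) = 0 ∧ QuadraticMap.polar q v (x *ᵥ v) = 0)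
    {adj : Matrix ι ι F} (hadj : ∀ u v, QuadraticMap.polar q (x *ᵥ u) v = QuadraticMap.polar q u (adj *ᵥ v))
    (hadj' : ∃ c : F, adj = c • 1 - x ∨ adj = c • 1 + x) : Even m := by
  classical
  have : Finite (ι → F) := Module.finite_of_finite F
  have : Finite (Submodule F (ι → F)) := Finite.of_injective _ SetLike.coe_injective
  obtain ⟨W, hW⟩ := (Set.toFinite {W : Submodule F (ι → F) |
    (∀ w ∈ W, q w = 0) ∧ (∀ w ∈ W, x *ᵥ w ∈ W) ∧ Even (Module.finrank F W)}).exists_maximal
    ⟨⊥, fun w hw => by rw [(Submodule.mem_bot F).1 hw, map_zero], fun w hw => by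
      rw [(Submodule.mem_bot F).1 hw, mulVec_zero]; exact Submodule.zero_mem _, by simp⟩
  obtain ⟨hWs, hWx, hWe⟩ := hW.prop
  suffices hmax : ∀ v ∈ qPerp q W, q v = 0 → v ∈ W by
    have := two_mul_finrank_of_maximal hQ hplus hWs hmax
    rwa [show m = Module.finrank F W by omega]
  intro v hv hQv
  by_contra hvW
  obtain ⟨L, hL⟩ : ∃ L, L = Submodule.span F {v, x *ᵥ v} := ⟨_, rfl⟩
  have hmemL : ∀ l ∈ L, ∃ s t : F, s • v + t • (x *ᵥ v) = l := fun l hl =>
    Submodule.mem_span_pair.1 (hL ▸ hl)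
  obtain ⟨hQx, hBx⟩ := hsing v hQv
  have hLs : ∀ l ∈ L, q l = 0 := fun l hl => by
    obtain ⟨s, t, rfl⟩ := hmemL l hl
    simp [quad_add, quad_smul, hQv, hQx, hBx]
  have hxperp : x *ᵥ v ∈ qPerp q W := (mem_qPerp q).2 fun w hw => by
    rw [QuadraticMap.polar_comm, hadj]
    obtain ⟨c, hc⟩ := hadj'
    have h1 : QuadraticMap.polar q v w = 0 := (QuadraticMap.polar_comm q v w).trans ((mem_qPerp q).1 hv w hw)
    have h3 : QuadraticMap.polar q v (x *ᵥ w) = 0 :=
      (QuadraticMap.polar_comm q _ _).trans ((mem_qPerp q).1 hv _ (hWx w hw))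
    rcases hc with rfl | rfl <;>
      simp [sub_mulVec, add_mulVec, Matrix.smul_mulVec, QuadraticMap.polar_sub_right, QuadraticMap.polar_add_right,
        QuadraticMap.polar_smul_right, h1, h3]
  have hLperp : L ≤ qPerp q W := by
    rw [hL]
    exact Submodule.span_le.2 (by rintro y (rfl | rfl) <;> assumption)
  have hxL : ∀ l ∈ L, x *ᵥ l ∈ L := fun l hl => by
    obtain ⟨s, t, rfl⟩ := hmemL l hl
    rw [hL, mulVec_add, mulVec_smul, mulVec_smul, mulVec_mulVec, hxx, add_mulVec, Matrix.smul_mulVec, Matrix.smul_mulVec,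
      one_mulVec]
    exact Submodule.mem_span_pair.2 ⟨t * b, s + t * a, by module⟩
  have hinter : L ⊓ W = ⊥ := by
    rw [eq_bot_iff]
    rintro l ⟨hlL, hlW⟩
    obtain ⟨s, t, rfl⟩ := hmemL l hlL
    rw [Submodule.mem_bot]
    by_contra h0
    -- the image and the vector span the pair
    apply hvW
    have hl2 : x *ᵥ (s • v + t • (x *ᵥ v)) = (t * b) • v + (s + t * a) • (x *ᵥ v) := by
      rw [mulVec_add, mulVec_smul, mulVec_smul, mulVec_mulVec, hxx, add_mulVec, Matrix.smul_mulVec, Matrix.smul_mulVec,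
        one_mulVec]
      module
    have hl2W := hl2 ▸ hWx _ hlW
    have hd : s * (s + t * a) - t * (t * b) ≠ 0 := by
      intro hd
      by_cases ht : t = 0
      · subst ht
        exact h0 (by rw [(mul_self_eq_zero).1 (by linear_combination hd : s * s = 0)]; simp)
      · refine hx _ ((s + t * a) / t) h0 ?_
        rw [hl2, smul_add, smul_smul, smul_smul]
        congr 2
        · field_simp; linear_combination -hd
        · field_simp
    have h1 := W.sub_mem (W.smul_mem (s + t * a) hlW) (W.smul_mem t hl2W)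
    rw [show (s + t * a) • (s • v + t • (x *ᵥ v)) - t • ((t * b) • v + (s + t * a) • (x *ᵥ v)) =
      (s * (s + t * a) - t * (t * b)) • v by module] at h1
    exact (Submodule.smul_mem_iff _ hd).1 h1
  have hLd : Module.finrank F L = 2 := by
    have hv0 : v ≠ 0 := fun h => hvW (h ▸ W.zero_mem)
    have hli : LinearIndependent F ![v, x *ᵥ v] := (LinearIndependent.pair_iff' hv0).2 fun c h => hx v c hv0 h.symm
    have h := finrank_span_eq_card hli
    rwa [Fintype.card_fin, Matrix.range_cons_cons_empty, ← hL] at h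
  have hbig : L ⊔ W ≤ W := hW.le_of_ge ⟨fun y hy => ?_, fun y hy => ?_, ?_⟩ le_sup_right
  · exact hvW (hbig (Submodule.mem_sup_left (hL ▸ Submodule.subset_span (by simp))))
  · obtain ⟨l, hl, w, hw, rfl⟩ := Submodule.mem_sup.1 hy
    rw [quad_add, hLs l hl, hWs w hw, QuadraticMap.polar_comm, (mem_qPerp q).1 (hLperp hl) w hw]
    simp
  · obtain ⟨l, hl, w, hw, rfl⟩ := Submodule.mem_sup.1 hy
    rw [mulVec_add]
    exact Submodule.add_mem_sup (hxL l hl) (hWx w hw)
  · have h := Submodule.finrank_sup_add_finrank_inf_eq L W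
    rw [hinter, finrank_bot, hLd] at h
    obtain ⟨r, hr⟩ := hWe
    exact ⟨r + 1, by omega⟩

end CfsgLib.Techniques.AschEven
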