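/-
An invariant commutative algebra closed under adjoints gives an imprimitive or field member.
-/
import Cfsg.Agent.Lib.Techniques.AschEven.Class
import Cfsg.Agent.Lib.Techniques.AschEven.Witt
import Cfsg.Agent.Lib.Techniques.AschOmega.Adjoint
import Cfsg.Agent.Lib.Aschbacher.Simple
import Mathlib.FieldTheory.Finite.GaloisField

set_option autoImplicit false

namespace CfsgLib.Techniques.AschEven

open Matrix Module CfsgLib.Classical CfsgLib.Classical22 CfsgLib.Techniques.AschOmega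
open CfsgLib.Aschbacher (cj cj_apply cj_inv_self cj_self_inv cj_mul_self InvBy IdemSystem IdemFamily idemSystem_or_field)
open scoped MatrixGroups

variable {F : Type*} [Field F] {ι : Type} [Fintype ι] [DecidableEq ι] {q : QuadraticForm F (ι → F)}

theorem adjM_cj (hQ : PolarNondeg q) {h : GL ι F} (hh : h ∈ Cfsg.isometryGroup F ⇑q) (X : Matrix ι ι F) :
    adjM q (cj h X) = cj h (adjM q X) := by
  rw [cj_apply, cj_apply, adjM_mul hQ, adjM_mul hQ, adjM_isometry hQ hh,
    adjM_isometry hQ (inv_mem hh), inv_inv, mul_assoc]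

theorem adjM_pow (hQ : PolarNondeg q) (X : Matrix ι ι F) (n : ℕ) : adjM q (X ^ n) = adjM q X ^ n := by
  induction n with
  | zero => simpa using adjM_smul_one hQ (1 : F)
  | succ n ih => rw [pow_succ, adjM_mul hQ, ih, ← pow_succ']

theorem selfAdjointFor_iff (hQ : PolarNondeg q) {K : Subalgebra F (Matrix ι ι F)} :
    Cfsg.Geo.IsSelfAdjointFor (QuadraticMap.polar ⇑q) K ↔ ∀ x ∈ K, adjM q x = x := by
  refine ⟨fun h x hx => Matrix.ext_of_mulVec_single fun i => ?_, fun h x hx u v => by rw [polar_adjM hQ, h x hx]⟩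
  refine sub_eq_zero.1 (hQ _ fun u => ?_)
  rw [QuadraticMap.polar_comm, QuadraticMap.polar_sub_right, ← polar_adjM hQ, h x hx, sub_self]

theorem adjointClosed (hQ : PolarNondeg q) {K : Subalgebra F (Matrix ι ι F)} (h : ∀ x ∈ K, adjM q x ∈ K) :
    Cfsg.Geo.IsAdjointClosedFor (QuadraticMap.polar ⇑q) K :=
  fun x hx => ⟨_, h x hx, fun u v => polar_adjM hQ x u v⟩

variable [Fintype F]

/-- A non-zero vector killed by two quadratically homogeneous additive functions. -/
theorem exists_common_zero (hn : 3 ≤ Fintype.card ι) {D₁ D₂ : (ι → F) → F} (a₁ : ∀ u v, D₁ (u + v) = D₁ u + D₁ v)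
    (a₂ : ∀ u v, D₂ (u + v) = D₂ u + D₂ v) : ∃ v, v ≠ 0 ∧ D₁ v = 0 ∧ D₂ v = 0 := by
  classical
  by_contra hno
  push Not at hno
  let f : (ι → F) →+ F × F :=
    AddMonoidHom.mk' (fun v => (D₁ v, D₂ v)) fun u v => by rw [a₁, a₂]; rfl
  have hinj : Function.Injective f := (injective_iff_map_eq_zero f).2 fun v hv => by
    by_contra h0
    exact hno v h0 (congrArg Prod.fst hv) (congrArg Prod.snd hv)
  have h := Fintype.card_le_of_injective f hinj
  rw [Fintype.card_fun, Fintype.card_prod, ← sq] at h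
  have := (Nat.pow_le_pow_iff_right Fintype.one_lt_card).1 h
  omega

theorem quad_zero_of_irr {H : Subgroup (GL ι F)} (hirr : AschPrime.Irr H) (hn : 3 ≤ Fintype.card ι)
    {D₁ D₂ : (ι → F) → F} (a₁ : ∀ u v, D₁ (u + v) = D₁ u + D₁ v) (a₂ : ∀ u v, D₂ (u + v) = D₂ u + D₂ v)
    (s₁ : ∀ (c : F) v, D₁ (c • v) = c * c * D₁ v) (s₂ : ∀ (c : F) v, D₂ (c • v) = c * c * D₂ v)
    (hinv : ∀ h ∈ H, ∀ v, D₁ v = 0 → D₂ v = 0 →
      D₁ ((h : Matrix ι ι F) *ᵥ v) = 0 ∧ D₂ ((h : Matrix ι ι F) *ᵥ v) = 0) :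
    ∀ v, D₁ v = 0 ∧ D₂ v = 0 := by
  let W : Submodule F (ι → F) :=
    { carrier := {v | D₁ v = 0 ∧ D₂ v = 0}
      zero_mem' := ⟨by simpa using s₁ 0 0, by simpa using s₂ 0 0⟩
      add_mem' := fun {u v} hu hv => ⟨by rw [a₁, hu.1, hv.1, add_zero], by rw [a₂, hu.2, hv.2, add_zero]⟩
      smul_mem' := fun c v hv => ⟨by rw [s₁, hv.1, mul_zero], by rw [s₂, hv.2, mul_zero]⟩ }
  obtain ⟨v, hv0, hv⟩ := exists_common_zero hn a₁ a₂
  rcases (AschPrime.irr_iff H).mp hirr W (fun h hh w hw => hinv h hh w hw.1 hw.2) with h | h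
  · exact absurd ((Submodule.mem_bot F).1 (h ▸ (hv : v ∈ W))) hv0
  · exact fun w => (h ▸ Submodule.mem_top : w ∈ W)

/-- An automorphism of order two of a field of matrices forces even degree. -/
theorem even_degree [Nonempty ι] {f : ℕ} {A : Subalgebra F (Matrix ι ι F)} (hA : Cfsg.Geo.IsFieldSubalgebra f A)
    {σ : Matrix ι ι F → Matrix ι ι F} (hmem : ∀ x ∈ A, σ x ∈ A) (hadd : ∀ x y, σ (x + y) = σ x + σ y)
    (hmul : ∀ x y, σ (x * y) = σ y * σ x) (hsc : ∀ c : F, σ (c • 1) = c • 1) (hinv : ∀ x, σ (σ x) = x)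
    (hne : ∃ x ∈ A, σ x ≠ x) : Even f := by
  classical
  let _ : CommRing A := { (inferInstance : Ring A) with mul_comm := fun a b => Subtype.ext (hA.comm _ a.2 _ b.2) }
  have hfield : IsField A := ⟨⟨0, 1, fun h => zero_ne_one (α := Matrix ι ι F) (congrArg Subtype.val h)⟩, mul_comm,
    fun {a} ha => by
      obtain ⟨y, hy, hay⟩ := hA.inv a a.2 fun h => ha (Subtype.ext h)
      exact ⟨⟨y, hy⟩, Subtype.ext hay⟩⟩
  let _ : Field A := hfield.toField
  have : Finite (Matrix ι ι F) := Module.finite_of_finite F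
  have : Finite A := Subtype.finite
  have : FiniteDimensional F A := Module.Finite.of_finite
  let φ : A ≃ₐ[F] A := AlgEquiv.ofRingEquiv (f :=
    { toFun := fun a => ⟨σ a, hmem _ a.2⟩
      invFun := fun a => ⟨σ a, hmem _ a.2⟩
      left_inv := fun a => Subtype.ext (hinv _)
      right_inv := fun a => Subtype.ext (hinv _)
      map_mul' := fun a b => Subtype.ext ((hmul _ _).trans (hA.comm _ (hmem _ b.2) _ (hmem _ a.2)))
      map_add' := fun a b => Subtype.ext (hadd _ _) }) fun c => Subtype.ext (by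
    show σ (algebraMap F (Matrix ι ι F) c) = _
    rw [Algebra.algebraMap_eq_smul_one, hsc]
    simp [Algebra.algebraMap_eq_smul_one])
  have hφ : orderOf φ = 2 := by
    refine orderOf_eq_prime (AlgEquiv.ext fun a => Subtype.ext (hinv _)) fun h => ?_
    obtain ⟨x, hx, hxne⟩ := hne
    exact hxne (congrArg Subtype.val (AlgEquiv.congr_fun h ⟨x, hx⟩))
  have h := orderOf_dvd_natCard φ
  rw [hφ, IsGalois.card_aut_eq_finrank, hA.finrank_eq] at h
  exact even_iff_two_dvd.2 h

variable {m : ℕ} {H : Subgroup (GL ι F)}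

/-- An invariant field closed under adjoints. -/
theorem toral_field (hQ : PolarNondeg q) (hn : Fintype.card ι = 2 * m) (hm : 3 ≤ m)
    (hirr : AschPrime.Irr H) (hiso : H ≤ Cfsg.isometryGroup F ⇑q) {A : Subalgebra F (Matrix ι ι F)}
    (hinv : InvBy H A) (hadj : ∀ x ∈ A, adjM q x ∈ A) {f : ℕ} (hf : 1 < f) (hA : Cfsg.Geo.IsFieldSubalgebra f A) :
    InEvenGeometric q m H ∨ (Odd m ∧ (∀ x ∈ A, adjM q x = x) ∧ ∃ K, Cfsg.Geo.IsFieldSubalgebra m K ∧
      Cfsg.Geo.IsSelfAdjointFor (QuadraticMap.polar ⇑q) K ∧ H ≤ Cfsg.Geo.subalgebraNormalizer K) := by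
  classical
  have : Nonempty ι := Fintype.card_pos_iff.mp (by omega)
  by_cases hsa : ∀ x ∈ A, adjM q x = x
  · obtain ⟨K, hKA, hK, -, hKc⟩ := CfsgLib.Aschbacher.exists_subfield_degree hA f.minFac_dvd
    have hr := Nat.minFac_prime (show f ≠ 1 by omega)
    have hle : H ≤ Cfsg.Geo.subalgebraNormalizer K :=
      CfsgLib.Aschbacher.mem_subalgebraNormalizer fun h hh X hX => hKc h (hinv h hh) X hX
    have hKsa := (selfAdjointFor_iff hQ).2 fun x hx => hsa x (hKA hx)
    by_cases hrm : f.minFac = m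
    · exact Or.inr ⟨hrm ▸ hr.odd_of_ne_two (by omega), hsa, K, hrm ▸ hK, hKsa, hle⟩
    · exact Or.inl (.fieldSA _ K hr hrm hK hKsa hle)
  left
  push Not at hsa
  obtain ⟨K, hKA, hK, hKmem, hKc⟩ := CfsgLib.Aschbacher.exists_subfield_degree hA (r := 2) (even_iff_two_dvd.1
    (even_degree hA hadj (adjM_add (q := q)) (adjM_mul hQ) (adjM_smul_one hQ) (adjM_adjM hQ) hsa))
  have hle : H ≤ Cfsg.Geo.subalgebraNormalizer K :=
    CfsgLib.Aschbacher.mem_subalgebraNormalizer fun h hh X hX => hKc h (hinv h hh) X hX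
  have hKadj : ∀ x ∈ K, adjM q x ∈ K := fun x hx => by
    obtain ⟨h1, h2⟩ := (hKmem x).1 hx
    exact (hKmem _).2 ⟨hadj x h1, by rw [← adjM_pow hQ, h2]⟩
  by_cases hKsa : Cfsg.Geo.IsSelfAdjointFor (QuadraticMap.polar ⇑q) K
  · exact .fieldSA 2 K Nat.prime_two (by omega) hK hKsa hle
  refine .fieldU K hK (adjointClosed hQ hKadj) hKsa ?_ hle
  rw [selfAdjointFor_iff hQ] at hKsa
  push Not at hKsa
  obtain ⟨x, hxK, hxne⟩ := hKsa
  have hxs : ∀ c : F, x ≠ c • 1 := fun c hc => hxne (by rw [hc, adjM_smul_one hQ])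
  have hli : LinearIndependent F ![(1 : K), ⟨x, hxK⟩] := by
    refine (LinearIndependent.pair_iff' one_ne_zero).2 fun c hc => hxs c ?_
    simpa using (congrArg Subtype.val hc).symm
  have hspan : ∀ y ∈ K, ∃ a b : F, y = a • 1 + b • x := by
    intro y hy
    have hsp := hli.span_eq_top_of_card_eq_finrank (by rw [hK.finrank_eq]; rfl)
    have hy' : (⟨y, hy⟩ : K) ∈ Submodule.span F (Set.range ![(1 : K), ⟨x, hxK⟩]) := hsp ▸ Submodule.mem_top
    rw [Matrix.range_cons_cons_empty] at hy'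
    obtain ⟨a, b, hab⟩ := Submodule.mem_span_pair.1 hy'
    exact ⟨a, b, by simpa using (congrArg Subtype.val hab).symm⟩
  have hfixed : ∀ y ∈ K, adjM q y = y → ∃ c : F, y = c • 1 := by
    intro y hy hyy
    obtain ⟨a, b, rfl⟩ := hspan y hy
    by_cases hb : b = 0
    · exact ⟨a, by rw [hb, zero_smul, add_zero]⟩
    refine absurd ?_ hxne
    have hbx : adjM q (b • x) = b • adjM q x := by simp only [adjM, transpose_smul, Matrix.mul_smul, Matrix.smul_mul]
    rw [adjM_add, adjM_smul_one hQ, hbx, add_right_inj] at hyy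
    exact smul_right_injective _ hb hyy
  obtain ⟨x', hx'⟩ : ∃ x', x' = adjM q x := ⟨_, rfl⟩
  have hx'K : x' ∈ K := hx' ▸ hKadj x hxK
  obtain ⟨s, hs⟩ := hfixed (x + x') (K.add_mem hxK hx'K) (by
    rw [hx', adjM_add, adjM_adjM hQ, add_comm])
  obtain ⟨N, hN⟩ := hfixed (x' * x) (K.mul_mem hx'K hxK) (by
    rw [hx', adjM_mul hQ, adjM_adjM hQ])
  have hx's : x' = s • 1 - x := by rw [← hs, add_sub_cancel_left]
  have hxx : x * x = s • x - N • 1 := by
    rw [← hN, hx's, sub_mul, Matrix.smul_mul, one_mul, sub_sub_cancel]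
  let D₁ : (ι → F) → F := fun v => QuadraticMap.polar q v (x *ᵥ v) - s * q v
  let D₂ : (ι → F) → F := fun v => q (x *ᵥ v) - N * q v
  have hB : ∀ u v, QuadraticMap.polar q v (x *ᵥ u) = s * QuadraticMap.polar q u v - QuadraticMap.polar q u (x *ᵥ v) := by
    intro u v
    rw [QuadraticMap.polar_comm, polar_adjM hQ, ← hx', hx's, sub_mulVec, Matrix.smul_mulVec, one_mulVec,
      QuadraticMap.polar_sub_right, QuadraticMap.polar_smul_right, smul_eq_mul]
  have hBB : ∀ u v, QuadraticMap.polar q (x *ᵥ u) (x *ᵥ v) = N * QuadraticMap.polar q u v := fun u v => by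
    rw [polar_adjM hQ, ← hx', mulVec_mulVec, hN, Matrix.smul_mulVec, one_mulVec, QuadraticMap.polar_smul_right,
      smul_eq_mul]
  have key : ∀ v, D₁ v = 0 ∧ D₂ v = 0 := by
    refine quad_zero_of_irr hirr (by omega) (fun u v => ?_) (fun u v => ?_) (fun c v => ?_) (fun c v => ?_)
      fun h hh v h1 h2 => ?_
    · simp only [D₁, mulVec_add, QuadraticMap.polar_add_left, QuadraticMap.polar_add_right, quad_add]
      linear_combination hB u v
    · simp only [D₂, mulVec_add, quad_add, hBB]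
      ring
    · simp only [D₁, mulVec_smul, QuadraticMap.polar_smul_left, QuadraticMap.polar_smul_right, quad_smul, smul_eq_mul]
      ring
    · simp only [D₂, mulVec_smul, quad_smul]
      ring
    obtain ⟨y, hy⟩ : ∃ y, y = cj h⁻¹ x := ⟨_, rfl⟩
    have hyK : y ∈ K := hy ▸ hKc _ (hinv h⁻¹ (H.inv_mem hh)) x hxK
    have hconj : x *ᵥ ((h : Matrix ι ι F) *ᵥ v) = (h : Matrix ι ι F) *ᵥ (y *ᵥ v) := by
      simp [hy, cj_apply, mulVec_mulVec, ← mul_assoc]
    have hyy : (y - x) * (y - x') = 0 := by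
      have h1 : y * y = s • y - N • 1 := by rw [hy, ← map_mul, hxx, map_sub, map_smul, map_smul, map_one]
      have h2 : y * x' = s • y - y * x := by rw [hx's, mul_sub, Matrix.mul_smul, mul_one]
      rw [sub_mul, mul_sub, mul_sub, h1, h2, hK.comm x hxK y hyK, hK.comm x hxK x' hx'K, hN]
      abel
    have hy2 : y = x ∨ y = x' := by
      by_cases h0 : y = x
      · exact Or.inl h0
      right
      obtain ⟨z, hz, hzy⟩ := hK.inv _ (K.sub_mem hyK hxK) (sub_ne_zero.2 h0)
      rw [hK.comm _ (K.sub_mem hyK hxK) z hz] at hzy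
      have h1 := congrArg (z * ·) hyy
      simp only [← mul_assoc, hzy, one_mul, mul_zero] at h1
      exact sub_eq_zero.1 h1
    have hhq : ∀ w, q ((h : Matrix ι ι F) *ᵥ w) = q w := fun w => map_isometry (hiso hh) w
    simp only [D₁, D₂] at h1 h2 ⊢
    rw [hconj, polar_isometry (hiso hh), hhq, hhq]
    rcases hy2 with rfl | h0
    · exact ⟨h1, h2⟩
    · rw [h0, hx's, sub_mulVec, Matrix.smul_mulVec, one_mulVec]
      have e1 : QuadraticMap.polar q v (s • v - x *ᵥ v) = 2 * (s * q v) - QuadraticMap.polar q v (x *ᵥ v) := by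
        rw [QuadraticMap.polar_sub_right, QuadraticMap.polar_smul_right, quad_polar_self, smul_eq_mul]; ring
      have e2 : q (s • v - x *ᵥ v) = s * s * q v + q (x *ᵥ v) - s * QuadraticMap.polar q v (x *ᵥ v) := by
        rw [sub_eq_add_neg, quad_add, quad_smul, ← neg_one_smul F (x *ᵥ v), quad_smul, QuadraticMap.polar_smul_left,
          QuadraticMap.polar_smul_right, smul_eq_mul, smul_eq_mul]
        ring
      exact ⟨by rw [e1]; linear_combination -h1, by rw [e2]; linear_combination h2 - s * h1⟩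
  intro k hk
  obtain ⟨a, b, rfl⟩ := hspan k hk
  refine ⟨a * a + a * b * s + b * b * N, fun v => ?_⟩
  obtain ⟨h1, h2⟩ := key v
  simp only [D₁, D₂] at h1 h2
  rw [add_mulVec, Matrix.smul_mulVec, Matrix.smul_mulVec, one_mulVec, quad_add, quad_smul, quad_smul,
    QuadraticMap.polar_smul_left, QuadraticMap.polar_smul_right, smul_eq_mul, smul_eq_mul]
  linear_combination (a * b) * h1 + (b * b) * h2

/-- An invariant system of idempotents closed under adjoints. -/
theorem toral_idem (hQ : PolarNondeg q) (hn : Fintype.card ι = 2 * m) (hm : 3 ≤ m)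
    (hirr : AschPrime.Irr H) (hiso : H ≤ Cfsg.isometryGroup F ⇑q) {A : Subalgebra F (Matrix ι ι F)}
    (hadj : ∀ x ∈ A, adjM q x ∈ A) (hcomm : ∀ x ∈ A, ∀ y ∈ A, x * y = y * x) {t : ℕ} {e : Fin t → Matrix ι ι F}
    (he : IdemSystem H A t e) : InEvenGeometric q m H := by
  classical
  have : Nonempty ι := Fintype.card_pos_iff.mp (by omega)
  have ht := he.two_le
  let i₀ : Fin t := ⟨0, by omega⟩
  obtain ⟨k, hk⟩ : ∃ k, k = finrank F (IdemFamily.space e i₀) := ⟨_, rfl⟩
  have hD : Cfsg.Geo.IsMDecomposition k (IdemFamily.space e) := hk ▸ he.family.isMDecomposition i₀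
  have hst : H ≤ Cfsg.Geo.decompositionStabilizer (IdemFamily.space e) := he.family.le_decompositionStabilizer
  have hτex : ∀ i, ∃ j, adjM q (e i) = e j := by
    intro i
    have hid : adjM q (e i) * adjM q (e i) = adjM q (e i) := by rw [← adjM_mul hQ, he.mul, if_pos rfl]
    obtain ⟨j, hj⟩ := he.complete _ (hadj _ (he.mem i)) hid
      (fun h => he.ne_zero i (by rw [← adjM_adjM hQ (e i), h, adjM_zero])) fun g hg hgg => by
      rcases he.atom i _ (hadj g hg) (by rw [← adjM_mul hQ, hgg]) with h | h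
      · left
        have h1 := congrArg (adjM q) h
        rw [adjM_mul hQ, adjM_adjM hQ, hcomm _ hg _ (hadj _ (he.mem i))] at h1
        exact h1
      · right
        have h1 := congrArg (adjM q) h
        rw [adjM_mul hQ, adjM_adjM hQ, adjM_zero, hcomm _ hg _ (hadj _ (he.mem i))] at h1
        exact h1
    exact ⟨j, hj.symm⟩
  choose τ hτ using hτex
  have hττ : ∀ i, τ (τ i) = i := fun i => he.inj (by rw [← hτ, ← hτ, adjM_adjM hQ])
  have hadjh : ∀ {h : GL ι F}, h ∈ H → ∀ {i j}, cj h (e i) = e j → cj h (e (τ i)) = e (τ j) := by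
    intro h hh i j hij
    rw [← hτ i, ← adjM_cj hQ (hiso hh), hij, hτ]
  have hfixall : (∀ i, τ i = i) ∨ ∀ i, τ i ≠ i := by
    by_cases h : ∀ i, τ i ≠ i
    · exact Or.inr h
    push Not at h
    obtain ⟨i, hi⟩ := h
    refine Or.inl fun j => ?_
    obtain ⟨g, hg, hgij⟩ := he.trans i j
    exact he.inj (by rw [← hadjh hg hgij, hi, hgij])
  have hmem : ∀ i v, v ∈ IdemFamily.space e i ↔ e i *ᵥ v = v := fun i v => he.family.mem_space
  have horth : ∀ i j, j ≠ τ i → ∀ u ∈ IdemFamily.space e i, ∀ v ∈ IdemFamily.space e j,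
      QuadraticMap.polar q u v = 0 := by
    intro i j hij u hu v hv
    rw [← (hmem i u).1 hu, polar_adjM hQ, hτ, ← (hmem j v).1 hv, mulVec_mulVec, he.mul, if_neg (Ne.symm hij),
      zero_mulVec, QuadraticMap.polar_zero_right]
  rcases hfixall with hfix | hfree
  · refine .blocks t k _ ⟨⟨hD, fun i w hw hw0 => ?_, fun i j hij => horth i j (by rw [hfix]; exact Ne.symm hij)⟩,
      fun i j => ?_⟩ hirr hst
    · obtain ⟨y, hy, hwy⟩ : ∃ y ∈ IdemFamily.space e i, QuadraticMap.polar q w y ≠ 0 := by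
        by_contra hno
        push Not at hno
        refine hw0 (hQ w fun y => ?_)
        rw [← (hmem i w).1 hw, polar_adjM hQ, hτ, hfix]
        exact hno _ ⟨y, Matrix.toLin'_apply _ _⟩
      exact ⟨⟨y, hy, by rwa [QuadraticMap.polar_comm]⟩, ⟨y, hy, hwy⟩⟩
    · obtain ⟨g, hg, hgij⟩ := he.trans i j
      refine ⟨(Submodule.equivMapOfInjective _ (AschPrime.toLin'_injective_of_gl g) _).trans
        (LinearEquiv.ofEq _ _ (IdemFamily.map_space g hgij)), fun w => ?_⟩
      exact (congrArg q (Matrix.toLin'_apply _ _)).trans (map_isometry (hiso hg) _)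
  by_cases ht2 : t = 2
  · subst ht2
    have hkm : k = m := by
      have h := Submodule.finrank_sup_add_finrank_inf_eq (IdemFamily.space e 0) (IdemFamily.space e 1)
      have h0 : IdemFamily.space e 0 ⊓ IdemFamily.space e 1 = ⊥ :=
        disjoint_iff.1 (hD.indep.pairwiseDisjoint (show (0 : Fin 2) ≠ 1 by decide))
      have h1 : IdemFamily.space e 0 ⊔ IdemFamily.space e 1 = ⊤ := by
        rw [← hD.iSup_eq_top]
        refine le_antisymm (sup_le (le_iSup _ 0) (le_iSup _ 1)) (iSup_le fun i => ?_)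
        fin_cases i
        · exact le_sup_left
        · exact le_sup_right
      rw [h0, h1, finrank_top, finrank_bot, finrank_fun, hD.finrank_eq, hD.finrank_eq] at h
      omega
    subst hkm
    have hself : ∀ i u v, QuadraticMap.polar q (e i *ᵥ u) (e i *ᵥ v) = 0 := fun i u v => by
      rw [polar_adjM hQ, hτ, mulVec_mulVec, he.mul, if_neg (hfree i), zero_mulVec, QuadraticMap.polar_zero_right]
    have key : ∀ v, q (e 0 *ᵥ v) = 0 ∧ q (e 1 *ᵥ v) = 0 := by
      refine quad_zero_of_irr hirr (by omega) (fun u v => ?_) (fun u v => ?_) (fun c v => ?_) (fun c v => ?_)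
        fun h hh v h1 h2 => ?_
      · rw [mulVec_add, quad_add, hself, add_zero]
      · rw [mulVec_add, quad_add, hself, add_zero]
      · rw [mulVec_smul, quad_smul]
      · rw [mulVec_smul, quad_smul]
      obtain ⟨σ, hσ⟩ := he.perm h⁻¹ (H.inv_mem hh)
      have hconj : ∀ i, e i *ᵥ ((h : Matrix ι ι F) *ᵥ v) = (h : Matrix ι ι F) *ᵥ (e (σ i) *ᵥ v) := fun i => by
        rw [← hσ i]
        simp [cj_apply, mulVec_mulVec, ← mul_assoc]
      have hall : ∀ i, q (e i *ᵥ v) = 0 := Fin.forall_fin_two.2 ⟨h1, h2⟩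
      simp only [hconj, map_isometry (hiso hh)]
      exact ⟨hall _, hall _⟩
    refine .pair _ hD (fun i v hv => ?_) hirr hst
    rw [← (hmem i v).1 hv]
    fin_cases i
    · exact (key v).1
    · exact (key v).2
  -- orbits of the adjoint on the idempotents
  obtain ⟨R, hR⟩ : ∃ R : Finset (Fin t), R = Finset.univ.filter fun i => i < τ i := ⟨_, rfl⟩
  let E : Fin R.card → Fin t := fun a => (R.equivFin.symm a : Fin t)
  have hE : ∀ a, E a < τ (E a) := fun a => by
    exact (Finset.mem_filter.1 (hR.le (R.equivFin.symm a).2)).2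
  have hEinj : Function.Injective E := fun a b h => R.equivFin.symm.injective (Subtype.ext h)
  have hEsurj : ∀ i, ∃ a, i = E a ∨ i = τ (E a) := by
    intro i
    rcases lt_trichotomy i (τ i) with h | h | h
    · exact ⟨R.equivFin ⟨i, by rw [hR]; simp [h]⟩, Or.inl (by simp [E])⟩
    · exact absurd h.symm (hfree i)
    · exact ⟨R.equivFin ⟨τ i, by rw [hR]; simp [hττ, h]⟩, Or.inr (by simp [E, hττ])⟩
  have hEτ : ∀ a b, E a ≠ τ (E b) := by
    intro a b hab
    have h1 := hE a
    rw [hab, hττ] at h1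
    exact lt_asymm h1 (hE b)
  let D' : Fin R.card → Submodule F (ι → F) := fun a => IdemFamily.space e (E a) ⊔ IdemFamily.space e (τ (E a))
  have horth' : ∀ a b, a ≠ b → ∀ u ∈ D' a, ∀ v ∈ D' b, QuadraticMap.polar q u v = 0 := by
    intro a b hab u hu v hv
    obtain ⟨u₁, hu₁, u₂, hu₂, rfl⟩ := Submodule.mem_sup.1 hu
    obtain ⟨v₁, hv₁, v₂, hv₂, rfl⟩ := Submodule.mem_sup.1 hv
    have hne : E a ≠ E b := fun h => hab (hEinj h)
    simp only [QuadraticMap.polar_add_left, QuadraticMap.polar_add_right,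
      horth _ _ (hEτ b a) u₁ hu₁ v₁ hv₁,
      horth _ _ (fun h => hne (by simpa [hττ] using (congrArg τ h).symm)) u₁ hu₁ v₂ hv₂,
      horth _ _ (fun h => hne (by simpa [hττ] using h.symm)) u₂ hu₂ v₁ hv₁,
      horth _ _ (fun h => hEτ a b (by simpa [hττ] using h.symm)) u₂ hu₂ v₂ hv₂, add_zero]
  have htop : iSup D' = ⊤ := by
    rw [eq_top_iff, ← hD.iSup_eq_top]
    refine iSup_le fun i => ?_
    obtain ⟨a, rfl | rfl⟩ := hEsurj i
    · exact le_iSup_of_le a le_sup_left
    · exact le_iSup_of_le a le_sup_right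
  have hnd : ∀ a, Cfsg.Geo.IsNondegenerateOn (QuadraticMap.polar ⇑q) (D' a) := by
    intro a w hw hw0
    obtain ⟨y, hy, hwy⟩ : ∃ y ∈ D' a, QuadraticMap.polar q w y ≠ 0 := by
      by_contra hno
      push Not at hno
      refine hw0 (hQ w fun y => ?_)
      have hy : y ∈ iSup D' := htop.symm ▸ Submodule.mem_top
      induction hy using Submodule.iSup_induction' with
      | mem b z hz =>
        by_cases hb : a = b
        · subst hb; exact hno z hz
        · exact horth' a b hb w hw z hz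
      | zero => exact QuadraticMap.polar_zero_right _ _
      | add y z _ _ h1 h2 => rw [QuadraticMap.polar_add_right, h1, h2, add_zero]
    exact ⟨⟨y, hy, by rwa [QuadraticMap.polar_comm]⟩, ⟨y, hy, hwy⟩⟩
  have hmapD : ∀ (h : GL ι F), h ∈ H → ∀ a, ∃ b,
      (D' a).map (Matrix.toLin' (h : Matrix ι ι F)) = D' b := by
    intro h hh a
    obtain ⟨σ, hσ⟩ := he.perm h hh
    obtain ⟨b, hb⟩ := hEsurj (σ (E a))
    refine ⟨b, ?_⟩
    rw [show D' a = _ from rfl, Submodule.map_sup, IdemFamily.map_space h (hσ (E a)),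
      IdemFamily.map_space h (hadjh hh (hσ (E a)))]
    rcases hb with hb | hb <;> rw [hb]
    rw [hττ, sup_comm]
  have hDdim : ∀ a, finrank F (D' a) = k + k := by
    intro a
    have h := Submodule.finrank_sup_add_finrank_inf_eq (IdemFamily.space e (E a)) (IdemFamily.space e (τ (E a)))
    rw [disjoint_iff.1 (hD.indep.pairwiseDisjoint (Ne.symm (hfree (E a)))), finrank_bot, hD.finrank_eq,
      hD.finrank_eq, add_zero] at h
    exact h
  have hRcard : 2 ≤ R.card := by
    by_contra hlt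
    have hsub : ∀ i : Fin t, ∀ a b : Fin R.card, a = b := fun _ a b => Fin.ext (by omega)
    obtain ⟨a, ha⟩ := hEsurj i₀
    have hall : ∀ i, i = E a ∨ i = τ (E a) := fun i => by
      obtain ⟨b, hb⟩ := hEsurj i
      rwa [hsub i b a] at hb
    have hc : (Finset.univ : Finset (Fin t)).card ≤ ({E a, τ (E a)} : Finset (Fin t)).card :=
      Finset.card_le_card fun i _ => by simpa using hall i
    have h2 := Finset.card_le_two (a := E a) (b := τ (E a))
    rw [Finset.card_univ, Fintype.card_fin] at hc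
    omega
  have hindep : iSupIndep D' := by
    intro a
    rw [Submodule.disjoint_def]
    intro v hv hv'
    by_contra h0
    obtain ⟨⟨y, hy, -⟩, ⟨z, hz, hvz⟩⟩ := hnd a v hv h0
    have hle : (⨆ (b) (_ : b ≠ a), D' b) ≤ qPerp q (Submodule.span F {z}) :=
      iSup₂_le fun b hb w hw => (mem_qPerp_singleton q).2 (horth' a b (Ne.symm hb) z hz w hw)
    exact hvz ((QuadraticMap.polar_comm q v z).trans ((mem_qPerp_singleton q).1 (hle hv')))
  refine .blocks R.card (k + k) D' ⟨⟨⟨hRcard, by have := hD.pos; omega, hDdim, hindep, htop⟩, hnd, horth'⟩,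
    fun a b => ?_⟩ hirr fun h hh => ?_
  · obtain ⟨g, hg, hgab⟩ := he.trans (E a) (E b)
    have hmap : (D' a).map (Matrix.toLin' (g : Matrix ι ι F)) = D' b := by
      rw [show D' a = _ from rfl, Submodule.map_sup, IdemFamily.map_space g hgab,
        IdemFamily.map_space g (hadjh hg hgab)]
    refine ⟨(Submodule.equivMapOfInjective _ (AschPrime.toLin'_injective_of_gl g) _).trans
      (LinearEquiv.ofEq _ _ hmap), fun w => ?_⟩
    exact (congrArg q (Matrix.toLin'_apply _ _)).trans (map_isometry (hiso hg) _)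
  · choose σ hσ using hmapD h hh
    have hinj : Function.Injective σ := fun a b hab => by
      by_contra hne
      have h1 : D' a = D' b := Submodule.map_injective_of_injective (AschPrime.toLin'_injective_of_gl h)
        (by rw [hσ, hσ, hab])
      have h2 : D' a ⊓ D' b = ⊥ := disjoint_iff.1 (hindep.pairwiseDisjoint hne)
      rw [← h1, inf_idem] at h2
      have := hDdim a
      rw [h2, finrank_bot] at this
      have := hD.pos
      omega
    exact ⟨Equiv.ofBijective σ (Finite.injective_iff_bijective.mp hinj), hσ⟩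

/-- An invariant commutative algebra closed under adjoints. -/
theorem toral (hQ : PolarNondeg q) (hn : Fintype.card ι = 2 * m) (hm : 3 ≤ m)
    (hirr : AschPrime.Irr H) (hiso : H ≤ Cfsg.isometryGroup F ⇑q) {A : Subalgebra F (Matrix ι ι F)}
    (hinv : InvBy H A) (hcomm : ∀ x ∈ A, ∀ y ∈ A, x * y = y * x) (hadj : ∀ x ∈ A, adjM q x ∈ A)
    (hns : ∃ x ∈ A, ∀ c : F, x ≠ c • 1) :
    InEvenGeometric q m H ∨ (Odd m ∧ (∀ x ∈ A, adjM q x = x) ∧ ∃ K, Cfsg.Geo.IsFieldSubalgebra m K ∧
      Cfsg.Geo.IsSelfAdjointFor (QuadraticMap.polar ⇑q) K ∧ H ≤ Cfsg.Geo.subalgebraNormalizer K) := by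
  classical
  have : Nonempty ι := Fintype.card_pos_iff.mp (by omega)
  rcases idemSystem_or_field hirr hinv hcomm with ⟨t, e, he⟩ | hf
  · exact Or.inl (toral_idem hQ hn hm hirr hiso hadj hcomm he)
  refine toral_field hQ hn hm hirr hiso hinv hadj (f := finrank F A) ?_ ⟨hcomm, hf, rfl⟩
  by_contra hle
  obtain ⟨x, hx, hxs⟩ := hns
  obtain ⟨c, hc⟩ := (finrank_le_one_iff (K := F) (V := A)).mp (not_lt.mp hle)
  obtain ⟨a, ha⟩ := hc ⟨x, hx⟩
  obtain ⟨b, hb⟩ := hc 1
  have hb0 : b ≠ 0 := by rintro rfl; rw [zero_smul] at hb; exact one_ne_zero hb.symm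
  refine hxs (a / b) ?_
  have h1 := congrArg Subtype.val ha
  have h2 := congrArg Subtype.val hb
  simp only [SetLike.val_smul, OneMemClass.coe_one] at h1 h2
  rw [← h1, ← h2, smul_smul, div_mul_cancel₀ a hb0]

end CfsgLib.Techniques.AschEven
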