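/-
A self-adjoint field of half the dimension carries an invariant commutative algebra that is not self-adjoint.
-/
import Cfsg.Agent.Lib.Techniques.AschEven.Toral

set_option autoImplicit false

namespace CfsgLib.Techniques.AschEven

open Matrix Module CfsgLib.Classical CfsgLib.Classical22 CfsgLib.Techniques.AschOmega
open CfsgLib.Aschbacher (cj cj_apply InvBy)
open scoped MatrixGroups

variable {F : Type*} [Field F] [Fintype F] {ι : Type} [Fintype ι] [DecidableEq ι] {q : QuadraticForm F (ι → F)}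

/-- The matrices commuting with `K` whose bilinear form restricts to `c` times the quadratic form. -/
def refining (q : QuadraticForm F (ι → F)) (K : Subalgebra F (Matrix ι ι F)) (c : F) : Set (Matrix ι ι F) :=
  {x | (∀ k ∈ K, x * k = k * x) ∧ ∀ v, QuadraticMap.polar q v (x *ᵥ v) = c * q v}

omit [Fintype F] in
theorem adjM_refining (hQ : PolarNondeg q) {K : Subalgebra F (Matrix ι ι F)} {c : F} {x : Matrix ι ι F}
    (hx : x ∈ refining q K c) : adjM q x = c • 1 - x := by
  refine Matrix.ext_of_mulVec_single fun i => sub_eq_zero.1 (hQ _ fun u => ?_)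
  generalize (Pi.single i 1 : ι → F) = v
  have h1 := hx.2 (u + v)
  simp only [mulVec_add, QuadraticMap.polar_add_left, QuadraticMap.polar_add_right, quad_add] at h1
  rw [QuadraticMap.polar_comm, QuadraticMap.polar_sub_right, ← polar_adjM hQ, sub_mulVec, Matrix.smul_mulVec,
    one_mulVec, QuadraticMap.polar_sub_right, QuadraticMap.polar_smul_right, smul_eq_mul,
    QuadraticMap.polar_comm q (x *ᵥ u) v]
  linear_combination h1 - hx.2 u - hx.2 v

/-- An additive function on a finite field vanishing on the squares is zero. -/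
theorem sq_vanish {L : Type*} [Field L] [Finite L] {M : Type*} [AddCommGroup M] (f : L →+ M)
    (hf : ∀ l, f (l * l) = 0) : ∀ y, f y = 0 := by
  intro y
  by_cases h2 : (2 : L) = 0
  · have : CharP L 2 := CharTwo.of_one_ne_zero_of_two_eq_zero one_ne_zero h2
    obtain ⟨r, rfl⟩ := FiniteField.isSquare_of_char_two (ringChar.eq L 2) y
    exact hf r
  · obtain ⟨z, hz⟩ : ∃ z, z = y / 2 := ⟨_, rfl⟩
    have hy : y = (z + 1) * (z + 1) - z * z - 1 * 1 := by rw [hz]; field_simp; ring
    rw [hy, map_sub, map_sub, hf, hf, hf, sub_zero, sub_zero]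

theorem half_field (hQ : PolarNondeg q) {m : ℕ} (hn : Fintype.card ι = 2 * m) (hm : 3 ≤ m)
    {H : Subgroup (GL ι F)} (hirr : AschPrime.Irr H) (hiso : H ≤ Cfsg.isometryGroup F ⇑q)
    {K : Subalgebra F (Matrix ι ι F)} (hK : Cfsg.Geo.IsFieldSubalgebra m K)
    (hsa : Cfsg.Geo.IsSelfAdjointFor (QuadraticMap.polar ⇑q) K) (hle : H ≤ Cfsg.Geo.subalgebraNormalizer K) :
    InEvenGeometric q m H := by
  classical
  have : Nonempty ι := Fintype.card_pos_iff.mp (by omega)
  let _ : CommRing K := { (inferInstance : Ring K) with mul_comm := fun a b => Subtype.ext (hK.comm _ a.2 _ b.2) }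
  have hfield : IsField K := ⟨⟨0, 1, fun h => zero_ne_one (α := Matrix ι ι F) (congrArg Subtype.val h)⟩, mul_comm,
    fun {a} ha => by
      obtain ⟨y, hy, hay⟩ := hK.inv a a.2 fun h => ha (Subtype.ext h)
      exact ⟨⟨y, hy⟩, Subtype.ext hay⟩⟩
  let _ : Field K := hfield.toField
  have : Finite (Matrix ι ι F) := Module.finite_of_finite F
  have : Finite K := Subtype.finite
  have : Fintype K := Fintype.ofFinite _
  have : FiniteDimensional F K := Module.Finite.of_finite
  have hKd : finrank F K = m := hK.finrank_eq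
  have hinj : ∀ (k : K) (v : ι → F), (k : Matrix ι ι F) *ᵥ v = 0 → k = 0 ∨ v = 0 := fun k v h => by
    by_cases hk : k = 0
    · exact Or.inl hk
    obtain ⟨y, hy, hky⟩ := hK.inv _ k.2 fun e => hk (Subtype.ext e)
    refine Or.inr ?_
    rw [hK.comm _ k.2 y hy] at hky
    rw [← one_mulVec v, ← hky, ← mulVec_mulVec, h, mulVec_zero]
  -- coordinates over the field
  obtain ⟨e₁, he₁⟩ := exists_ne (0 : ι → F)
  let L : K →ₗ[F] (ι → F) :=
    { toFun := fun k => (k : Matrix ι ι F) *ᵥ e₁
      map_add' := fun a b => by simp [add_mulVec]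
      map_smul' := fun c a => by simp [Matrix.smul_mulVec] }
  obtain ⟨e₂, he₂⟩ : ∃ e₂, ∀ k : K, (k : Matrix ι ι F) *ᵥ e₁ ≠ e₂ := by
    by_contra hno
    push Not at hno
    have h := LinearMap.finrank_range_le L
    rw [LinearMap.range_eq_top.2 fun v => hno v, finrank_top, finrank_fun, hKd] at h
    omega
  let T₀ : (K × K) →ₗ[F] (ι → F) :=
    { toFun := fun p => (p.1 : Matrix ι ι F) *ᵥ e₁ + (p.2 : Matrix ι ι F) *ᵥ e₂
      map_add' := fun a b => by simp only [Prod.fst_add, Prod.snd_add, AddMemClass.coe_add, add_mulVec]; abel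
      map_smul' := fun c a => by simp [Matrix.smul_mulVec, smul_add] }
  have hT₀ : Function.Injective T₀ := (injective_iff_map_eq_zero T₀).2 fun p hp => by
    have hp2 : p.2 = 0 := by
      by_contra h0
      obtain ⟨y, hy⟩ := hfield.mul_inv_cancel h0
      refine he₂ (-(y * p.1)) ?_
      have h := congrArg ((y : Matrix ι ι F) *ᵥ ·) hp
      have hy' : (y : Matrix ι ι F) * (p.2 : Matrix ι ι F) = 1 := by
        rw [← hK.comm _ p.2.2 _ y.2]; exact congrArg Subtype.val hy
      simp only [T₀, LinearMap.coe_mk, AddHom.coe_mk, mulVec_add, mulVec_mulVec, hy', one_mulVec, mulVec_zero] at h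
      rw [NegMemClass.coe_neg, MulMemClass.coe_mul, neg_mulVec]
      exact neg_eq_of_add_eq_zero_right h
    have hp1 : (p.1 : Matrix ι ι F) *ᵥ e₁ = 0 := by
      simpa [T₀, hp2] using hp
    exact Prod.ext ((hinj _ _ hp1).resolve_right he₁) hp2
  let T : (K × K) ≃ₗ[F] (ι → F) := LinearEquiv.ofBijective T₀ ⟨hT₀, (LinearMap.injective_iff_surjective_of_finrank_eq_finrank
    (by rw [Module.finrank_prod, hKd, finrank_fun, hn, two_mul])).1 hT₀⟩
  have hTmul : ∀ (k : K) p, T (k * p.1, k * p.2) = (k : Matrix ι ι F) *ᵥ T p := fun k p => by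
    change T₀ _ = (k : Matrix ι ι F) *ᵥ T₀ p
    simp [T₀, mulVec_add, mulVec_mulVec]
  -- matrices of maps linear over the field
  have hmat : ∀ f : (K × K) →ₗ[F] (K × K), (∀ (k : K) p, f (k * p.1, k * p.2) = (k * (f p).1, k * (f p).2)) →
      ∃ x : Matrix ι ι F, (∀ k ∈ K, x * k = k * x) ∧ ∀ p, x *ᵥ T p = T (f p) := by
    intro f hf
    have hx : ∀ p, LinearMap.toMatrix' (T.toLinearMap ∘ₗ f ∘ₗ T.symm.toLinearMap) *ᵥ T p = T (f p) :=
      fun p => by simp
    refine ⟨LinearMap.toMatrix' (T.toLinearMap ∘ₗ f ∘ₗ T.symm.toLinearMap), fun k hk => ?_, hx⟩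
    refine Matrix.ext_of_mulVec_single fun i => ?_
    obtain ⟨p, hp⟩ := T.surjective (Pi.single i 1)
    simp only [← hp, ← mulVec_mulVec]
    rw [show k *ᵥ T p = T (⟨k, hk⟩ * p.1, ⟨k, hk⟩ * p.2) from (hTmul ⟨k, hk⟩ p).symm, hx, hx, hf, hTmul]
  -- the alternating refinements
  have hS0 : ∀ x ∈ refining q K 0, ∀ v, ∀ y : K,
      QuadraticMap.polar q ((y : Matrix ι ι F) *ᵥ v) (x *ᵥ v) = 0 := by
    intro x hx v
    refine sq_vanish (AddMonoidHom.mk' (fun y : K => QuadraticMap.polar q ((y : Matrix ι ι F) *ᵥ v) (x *ᵥ v))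
      fun a b => by simp [add_mulVec, QuadraticMap.polar_add_left]) fun l => ?_
    have h := hx.2 ((l : Matrix ι ι F) *ᵥ v)
    rw [zero_mul, mulVec_mulVec, hx.1 _ l.2, ← mulVec_mulVec, ← hsa _ l.2] at h
    simpa [mulVec_mulVec] using h
  let S : Submodule F (Matrix ι ι F) :=
    { carrier := refining q K 0
      zero_mem' := ⟨fun k _ => by rw [zero_mul, mul_zero], fun v => by simp⟩
      add_mem' := fun {a b} ha hb => ⟨fun k hk => by rw [add_mul, mul_add, ha.1 k hk, hb.1 k hk], fun v => by
        simp [add_mulVec, QuadraticMap.polar_add_right, ha.2, hb.2]⟩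
      smul_mem' := fun c a ha => ⟨fun k hk => by rw [Matrix.smul_mul, Matrix.mul_smul, ha.1 k hk], fun v => by
        simp [Matrix.smul_mulVec, QuadraticMap.polar_smul_right, ha.2]⟩ }
  have hSd : finrank F S ≤ m := by
    let φ : S →ₗ[F] (K →ₗ[F] F) :=
      { toFun := fun x =>
          { toFun := fun l => QuadraticMap.polar q ((l : Matrix ι ι F) *ᵥ e₁) ((x : Matrix ι ι F) *ᵥ e₂)
            map_add' := fun a b => by simp [add_mulVec, QuadraticMap.polar_add_left]
            map_smul' := fun c a => by simp [Matrix.smul_mulVec, QuadraticMap.polar_smul_left] }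
        map_add' := fun a b => LinearMap.ext fun l => by simp [add_mulVec, QuadraticMap.polar_add_right]
        map_smul' := fun c a => LinearMap.ext fun l => by simp [Matrix.smul_mulVec, QuadraticMap.polar_smul_right] }
    have hφ : Function.Injective φ := (injective_iff_map_eq_zero φ).2 fun x hx => by
      have hskew := adjM_refining hQ x.2
      rw [zero_smul, zero_sub] at hskew
      have hxe : ∀ p : K × K, QuadraticMap.polar q (T p) ((x : Matrix ι ι F) *ᵥ e₂) = 0 ∧
          QuadraticMap.polar q (T p) ((x : Matrix ι ι F) *ᵥ e₁) = 0 := by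
        intro p
        have h1 : ∀ l : K, QuadraticMap.polar q ((l : Matrix ι ι F) *ᵥ e₁) ((x : Matrix ι ι F) *ᵥ e₂) = 0 :=
          fun l => LinearMap.congr_fun hx l
        have h2 : ∀ l : K, QuadraticMap.polar q ((l : Matrix ι ι F) *ᵥ e₂) ((x : Matrix ι ι F) *ᵥ e₁) = 0 := by
          intro l
          rw [QuadraticMap.polar_comm, polar_adjM hQ, hskew, neg_mulVec, QuadraticMap.polar_neg_right,
            mulVec_mulVec, x.2.1 _ l.2, ← mulVec_mulVec, ← hsa _ l.2, h1, neg_zero]
        change QuadraticMap.polar q (T₀ p) _ = 0 ∧ QuadraticMap.polar q (T₀ p) _ = 0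
        simp [T₀, QuadraticMap.polar_add_left, h1, h2, hS0 _ x.2]
      refine Subtype.ext (Matrix.ext_of_mulVec_single fun i => ?_)
      obtain ⟨p, hp⟩ := T.surjective (Pi.single i 1)
      rw [← hp, ZeroMemClass.coe_zero, zero_mulVec]
      refine hQ _ fun u => ?_
      obtain ⟨p', rfl⟩ := T.surjective u
      rw [QuadraticMap.polar_comm]
      change QuadraticMap.polar q (T p') ((x : Matrix ι ι F) *ᵥ T₀ p) = 0
      simp only [T₀, LinearMap.coe_mk, AddHom.coe_mk, mulVec_add, mulVec_mulVec, x.2.1 _ p.1.2, x.2.1 _ p.2.2]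
      rw [← mulVec_mulVec, ← mulVec_mulVec, QuadraticMap.polar_add_right, ← hsa _ p.1.2, ← hsa _ p.2.2,
        ← hTmul, ← hTmul, (hxe _).1, (hxe _).2, add_zero]
    have h := LinearMap.finrank_le_finrank_of_injective hφ
    rwa [Module.finrank_linearMap, hKd, Module.finrank_self, mul_one] at h
  have hline : ∀ x ∈ refining q K 0, x ≠ 0 → ∀ y ∈ refining q K 0, ∃ k ∈ K, y = k * x := by
    intro x hx hx0 y hy
    let M : K →ₗ[F] S :=
      { toFun := fun k => ⟨(k : Matrix ι ι F) * x, fun l hl => by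
            rw [mul_assoc, hx.1 l hl, ← mul_assoc, hK.comm _ k.2 l hl, mul_assoc], fun v => by
            rw [zero_mul, ← mulVec_mulVec, ← hsa _ k.2]
            exact hS0 x hx v k⟩
        map_add' := fun a b => Subtype.ext (by simp [add_mul])
        map_smul' := fun c a => Subtype.ext (by simp) }
    have hM : Function.Injective M := (injective_iff_map_eq_zero M).2 fun k hk => by
      by_contra h0
      obtain ⟨z, hz⟩ := hfield.mul_inv_cancel h0
      refine hx0 ?_
      have h := congrArg ((z : Matrix ι ι F) * ·) (congrArg Subtype.val hk)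
      have hz' : (z : Matrix ι ι F) * (k : Matrix ι ι F) = 1 := by
        rw [← hK.comm _ k.2 _ z.2]; exact congrArg Subtype.val hz
      simpa [M, ← mul_assoc, hz'] using h
    have hsurj := (LinearMap.injective_iff_surjective_of_finrank_eq_finrank
      (le_antisymm (LinearMap.finrank_le_finrank_of_injective hM) (hKd.symm ▸ hSd))).1 hM
    obtain ⟨k, hk⟩ := hsurj ⟨y, hy⟩
    exact ⟨k, k.2, (congrArg Subtype.val hk).symm⟩
  -- the algebra
  suffices h : ∃ c x, x ∈ refining q K c ∧ adjM q x ≠ x ∧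
      ∀ y ∈ refining q K c, ∀ z ∈ refining q K c, y * z = z * y by
    obtain ⟨c, x, hx, hxne, hcomm⟩ := h
    obtain ⟨A, hA⟩ : ∃ A, A = Algebra.adjoin F ((K : Set (Matrix ι ι F)) ∪ refining q K c) := ⟨_, rfl⟩
    have hKA : ∀ k ∈ K, k ∈ A := fun k hk => hA ▸ Algebra.subset_adjoin (Or.inl hk)
    have hXA : ∀ k ∈ refining q K c, k ∈ A := fun k hk => hA ▸ Algebra.subset_adjoin (Or.inr hk)
    have hgen : ∀ a ∈ (K : Set (Matrix ι ι F)) ∪ refining q K c, ∀ b ∈ (K : Set (Matrix ι ι F)) ∪ refining q K c,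
        a * b = b * a := by
      rintro a (ha | ha) b (hb | hb)
      · exact hK.comm a ha b hb
      · exact (hb.1 a ha).symm
      · exact ha.1 b hb
      · exact hcomm a ha b hb
    have hc1 : A ≤ Subalgebra.centralizer F ((K : Set (Matrix ι ι F)) ∪ refining q K c) :=
      hA ▸ Algebra.adjoin_le fun a ha => (Subalgebra.mem_centralizer_iff F).2 fun b hb => hgen b hb a ha
    have hc2 : A ≤ Subalgebra.centralizer F (A : Set (Matrix ι ι F)) :=
      hA.le.trans (Algebra.adjoin_le fun a ha => (Subalgebra.mem_centralizer_iff F).2 fun b hb =>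
        ((Subalgebra.mem_centralizer_iff F).1 (hc1 hb) a ha).symm)
    have hinv : InvBy H A := by
      intro h hh y hy
      rw [hA] at hy
      refine Algebra.adjoin_induction (p := fun r _ => cj h r ∈ A) ?_ ?_ ?_ ?_ hy
      · rintro r (hr | hr)
        · exact hKA _ ((cj_apply h r).symm ▸ (hle hh r).1 hr)
        · refine hXA _ ⟨fun k hk => ?_, fun v => ?_⟩
          · have hk' := (hle (H.inv_mem hh) k).1 hk
            rw [inv_inv] at hk'
            have e := congrArg (cj h) (hr.1 _ hk')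
            rw [map_mul, map_mul] at e
            simpa [cj_apply, mul_assoc] using e
          · rw [cj_apply, ← mulVec_mulVec, ← mulVec_mulVec]
            have hv : (h : Matrix ι ι F) *ᵥ (((h⁻¹ : GL ι F) : Matrix ι ι F) *ᵥ v) = v := by
              rw [mulVec_mulVec, Units.mul_inv, one_mulVec]
            conv_lhs => arg 2; rw [← hv]
            rw [polar_isometry (hiso hh), hr.2, map_isometry (hiso (H.inv_mem hh))]
      · intro r
        rw [AlgEquiv.commutes]
        exact A.algebraMap_mem r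
      · intro a b _ _ ha hb
        rw [map_add]
        exact A.add_mem ha hb
      · intro a b _ _ ha hb
        rw [map_mul]
        exact A.mul_mem ha hb
    have hadj : ∀ y ∈ A, adjM q y ∈ A := by
      intro y hy
      rw [hA] at hy
      refine Algebra.adjoin_induction (p := fun r _ => adjM q r ∈ A) ?_ ?_ ?_ ?_ hy
      · rintro r (hr | hr)
        · rw [(selfAdjointFor_iff hQ).1 hsa r hr]; exact hKA r hr
        · rw [adjM_refining hQ hr]; exact A.sub_mem (A.smul_mem A.one_mem c) (hXA r hr)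
      · intro r
        rw [Algebra.algebraMap_eq_smul_one, adjM_smul_one hQ]
        exact A.smul_mem A.one_mem r
      · intro a b _ _ ha hb
        rw [adjM_add]
        exact A.add_mem ha hb
      · intro a b _ _ ha hb
        rw [adjM_mul hQ]
        exact A.mul_mem hb ha
    rcases toral hQ hn hm hirr hiso hinv (fun a ha b hb => ((Subalgebra.mem_centralizer_iff F).1 (hc2 hb) a ha))
      hadj ⟨x, hXA x hx, fun a ha => hxne (by rw [ha, adjM_smul_one hQ])⟩ with h | h
    · exact h
    · exact absurd (h.2.1 x (hXA x hx)) hxne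
  by_cases h2 : (2 : F) = 0
  swap
  · -- a skew matrix
    obtain ⟨x, hxK, hxne⟩ : ∃ x : Matrix ι ι F, (∀ k ∈ K, x * k = k * x) ∧ adjM q x ≠ x := by
      by_contra hno
      push Not at hno
      obtain ⟨π, hπK, hπ⟩ := hmat (LinearMap.inl F K K ∘ₗ LinearMap.fst F K K) fun k p => by simp
      obtain ⟨N, hNK, hN⟩ := hmat (LinearMap.inl F K K ∘ₗ LinearMap.snd F K K) fun k p => by simp
      have h1 := hno (π * N) fun k hk => by rw [mul_assoc, hNK k hk, ← mul_assoc, hπK k hk, mul_assoc]
      rw [adjM_mul hQ, hno π hπK, hno N hNK] at h1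
      have h3 := congrArg (fun X : Matrix ι ι F => X *ᵥ T (0, 1)) h1
      simp only [← mulVec_mulVec, hπ, hN] at h3
      have h4 := congrArg Prod.fst (T.injective h3)
      simp at h4
    obtain ⟨z, hz⟩ : ∃ z, z = x - adjM q x := ⟨_, rfl⟩
    have hz0 : z ≠ 0 := hz ▸ sub_ne_zero.2 (Ne.symm hxne)
    have hzz : z ∈ refining q K 0 := by
      refine ⟨fun k hk => ?_, fun v => ?_⟩
      · have h1 := congrArg (adjM q) (hxK k hk)
        rw [adjM_mul hQ, adjM_mul hQ, (selfAdjointFor_iff hQ).1 hsa k hk] at h1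
        rw [hz, sub_mul, mul_sub, hxK k hk, h1]
      · rw [zero_mul, hz, sub_mulVec, QuadraticMap.polar_sub_right, ← polar_adjM hQ, QuadraticMap.polar_comm,
          sub_self]
    refine ⟨0, z, hzz, fun h => hz0 ?_, fun a ha b hb => ?_⟩
    · rw [adjM_refining hQ hzz, zero_smul, zero_sub, neg_eq_iff_add_eq_zero, ← two_smul F] at h
      exact (smul_eq_zero.1 h).resolve_left h2
    · obtain ⟨k, hk, rfl⟩ := hline z hzz hz0 a ha
      obtain ⟨l, hl, rfl⟩ := hline z hzz hz0 b hb
      calc k * z * (l * z) = k * (z * l) * z := by simp only [mul_assoc]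
        _ = (l * k) * z * z := by rw [hzz.1 l hl, ← mul_assoc, hK.comm k hk l hl]
        _ = l * (k * z) * z := by simp only [mul_assoc]
        _ = l * z * (k * z) := by rw [show l * z * (k * z) = l * (z * k) * z by simp only [mul_assoc], hzz.1 k hk]
  -- characteristic two
  have : CharP F 2 := CharTwo.of_one_ne_zero_of_two_eq_zero one_ne_zero h2
  have h2K : (2 : K) = 0 := by
    rw [← map_ofNat (algebraMap F K) 2, h2, map_zero]
  have h1S : (1 : Matrix ι ι F) ∈ refining q K 0 :=
    ⟨fun k _ => by rw [one_mul, mul_one], fun v => by rw [one_mulVec, quad_polar_self, h2]⟩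
  have halt : ∀ v, ∀ k l : K, QuadraticMap.polar q ((k : Matrix ι ι F) *ᵥ v) ((l : Matrix ι ι F) *ᵥ v) = 0 := by
    intro v k l
    rw [← hsa _ l.2, mulVec_mulVec]
    have h := hS0 1 h1S v (l * k)
    rwa [one_mulVec] at h
  let ψ : K →ₗ[F] F :=
    { toFun := fun k => QuadraticMap.polar q ((k : Matrix ι ι F) *ᵥ e₁) e₂
      map_add' := fun a b => by simp [add_mulVec, QuadraticMap.polar_add_left]
      map_smul' := fun c a => by simp [Matrix.smul_mulVec, QuadraticMap.polar_smul_left] }
  have hψ : ∀ k l : K, QuadraticMap.polar q ((k : Matrix ι ι F) *ᵥ e₁) ((l : Matrix ι ι F) *ᵥ e₂) = ψ (k * l) := by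
    intro k l
    rw [← hsa _ l.2, mulVec_mulVec, hK.comm _ l.2 _ k.2]
    rfl
  have hψ0 : ∀ k : K, (∀ l, ψ (k * l) = 0) → k = 0 := fun k hk => by
    refine (hinj k e₁ (hQ _ fun u => ?_)).resolve_right he₁
    obtain ⟨p, rfl⟩ := T.surjective u
    change QuadraticMap.polar q _ (T₀ p) = 0
    simp [T₀, QuadraticMap.polar_add_right, halt, hψ, hk]
  -- representing a semilinear quadratic function
  have hrep : ∀ v : ι → F, ∃ α : K, ∀ k : K, q ((k : Matrix ι ι F) *ᵥ v) = ψ (α * (k * k)) := by
    intro v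
    let β := Module.finBasis F K
    have hext : ∀ f g : K → F, (∀ a b, f (a + b) = f a + f b) → (∀ a b, g (a + b) = g a + g b) →
        (∀ (c : F) a, f (c • a) = c * c * f a) → (∀ (c : F) a, g (c • a) = c * c * g a) →
        (∀ i, f (β i) = g (β i)) → ∀ a, f a = g a := by
      intro f g fa ga fs gs hfg a
      have ha : a ∈ Submodule.span F (Set.range β) := β.span_eq.symm ▸ Submodule.mem_top
      induction ha using Submodule.span_induction with
      | mem x hx => obtain ⟨i, rfl⟩ := hx; exact hfg i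
      | zero =>
        have e1 := fs 0 0
        have e2 := gs 0 0
        simp at e1 e2
        rw [e1, e2]
      | add x y _ _ hx hy => rw [fa, ga, hx, hy]
      | smul c x _ hx => rw [fs, gs, hx]
    have hqa : ∀ a b : K, q (((a + b : K) : Matrix ι ι F) *ᵥ v) =
        q ((a : Matrix ι ι F) *ᵥ v) + q ((b : Matrix ι ι F) *ᵥ v) := fun a b => by
      rw [AddMemClass.coe_add, add_mulVec, quad_add, halt, add_zero]
    have hψa : ∀ α a b : K, ψ (α * ((a + b) * (a + b))) = ψ (α * (a * a)) + ψ (α * (b * b)) := fun α a b => by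
      rw [← map_add]
      congr 1
      linear_combination (α * a * b) * h2K
    have hqs : ∀ (c : F) (a : K), q (((c • a : K) : Matrix ι ι F) *ᵥ v) = c * c * q ((a : Matrix ι ι F) *ᵥ v) :=
      fun c a => by rw [SetLike.val_smul, Matrix.smul_mulVec, quad_smul]
    have hψs : ∀ (α : K) (c : F) (a : K), ψ (α * ((c • a) * (c • a))) = c * c * ψ (α * (a * a)) := fun α c a => by
      rw [smul_mul_smul_comm, mul_smul_comm, map_smul, smul_eq_mul]
    let Φ : K → (Fin (finrank F K) → F) := fun α i => ψ (α * (β i * β i))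
    have hΦ : Function.Injective Φ := by
      intro a b hab
      refine sub_eq_zero.1 (hψ0 _ fun l => ?_)
      obtain ⟨r, rfl⟩ : IsSquare l := by
        have : CharP K 2 := CharTwo.of_one_ne_zero_of_two_eq_zero one_ne_zero h2K
        exact FiniteField.isSquare_of_char_two (ringChar.eq K 2) l
      rw [sub_mul, map_sub, sub_eq_zero]
      exact hext (fun r => ψ (a * (r * r))) (fun r => ψ (b * (r * r))) (hψa a) (hψa b) (hψs a) (hψs b)
        (fun i => congrFun hab i) r
    obtain ⟨α, hα⟩ := ((Fintype.bijective_iff_injective_and_card Φ).2 ⟨hΦ, by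
      rw [Fintype.card_fun, Fintype.card_fin]; exact Module.card_eq_pow_finrank⟩).2
      fun i => q ((β i : Matrix ι ι F) *ᵥ v)
    exact ⟨α, hext _ _ hqa (hψa α) hqs (hψs α) fun i => (congrFun hα i).symm⟩
  obtain ⟨α, hα⟩ := hrep e₁
  obtain ⟨γ, hγ⟩ := hrep e₂
  let f : (K × K) →ₗ[F] (K × K) :=
    { toFun := fun p => (p.1 + γ * p.2, α * p.1)
      map_add' := fun a b => Prod.ext (by simp [mul_add]; abel) (by simp [mul_add])
      map_smul' := fun c a => Prod.ext (by simp [smul_add]) (by simp) }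
  obtain ⟨x, hxK, hx⟩ := hmat f fun k p => by simp [f, mul_add, mul_left_comm]
  have hxr : x ∈ refining q K 1 := by
    refine ⟨hxK, fun v => ?_⟩
    obtain ⟨p, rfl⟩ := T.surjective v
    rw [hx, one_mul]
    change QuadraticMap.polar q (T₀ p) (T₀ _) = q (T₀ p)
    simp only [T₀, f, LinearMap.coe_mk, AddHom.coe_mk, quad_add, QuadraticMap.polar_add_left,
      QuadraticMap.polar_add_right]
    rw [QuadraticMap.polar_comm q (_ *ᵥ e₂) (_ *ᵥ e₁)]
    simp only [halt, hψ, hα, hγ, add_mul, map_add]
    ring_nf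
  refine ⟨1, x, hxr, fun h => ?_, fun a ha b hb => ?_⟩
  · rw [adjM_refining hQ hxr, one_smul, sub_eq_iff_eq_add, ← two_smul F, h2, zero_smul] at h
    exact one_ne_zero h
  · have hd : b - a ∈ refining q K 0 := ⟨fun k hk => by rw [sub_mul, mul_sub, ha.1 k hk, hb.1 k hk], fun v => by
      rw [sub_mulVec, QuadraticMap.polar_sub_right, ha.2, hb.2, sub_self, zero_mul]⟩
    obtain ⟨k, hk, hbk⟩ := hline 1 h1S one_ne_zero _ hd
    rw [sub_eq_iff_eq_add, mul_one] at hbk
    rw [hbk, mul_add, add_mul, ha.1 k hk]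

end CfsgLib.Techniques.AschEven
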