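/-
Signs of non-degenerate subspaces of a quadratic space and of orthogonal sums of them.
-/
import Cfsg.Agent.Lib.Classical22.OrthTypeEmbed
import Cfsg.Agent.Lib.Classical22.OrthMaxMove
import Cfsg.Agent.Lib.Classical22.OrthTypeBridge
import Cfsg.Agent.Lib.Classical.SymBilin

set_option autoImplicit false

namespace CfsgLib.Techniques.AschEven

open CfsgLib.Classical CfsgLib.Classical22 CfsgLib.Classical22.OrthType Module

universe u

variable {F : Type u} [Field F] [Fintype F] {ι : Type} [Fintype ι] [DecidableEq ι]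
  (q : QuadraticForm F (ι → F))

/-- The sign of the form on a subspace. -/
def SgOn (W : Submodule F (ι → F)) (ε : ℤ) : Prop := Sg (res q W) ε

variable {q}

theorem polarNondeg_res {W : Submodule F (ι → F)} (hW : NdOn q W) : PolarNondeg (res q W) := polarNondeg_comp q hW

theorem isometric_iff {A B : Submodule F (ι → F)} :
    Cfsg.Geo.AreIsometricFor ⇑q A B ↔ Isom (res q A) (res q B) := Iff.rfl

theorem sgOn_cases {W : Submodule F (ι → F)} (hW : NdOn q W) (he : Even (finrank F W)) :
    ∃ ε : ℤ, (ε = 1 ∨ ε = -1) ∧ SgOn q W ε :=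
  sg_cases (polarNondeg_res hW) he

theorem SgOn.of_isometric {A B : Submodule F (ι → F)} {ε : ℤ} (h : Cfsg.Geo.AreIsometricFor ⇑q A B)
    (hA : SgOn q A ε) : SgOn q B ε :=
  Sg.congr (isometric_iff.1 h) hA

theorem plusTypeOn_iff {W : Submodule F (ι → F)} (hW : NdOn q W) (he : Even (finrank F W)) :
    Cfsg.Geo.IsPlusTypeOn ⇑q W ↔ SgOn q W 1 := by
  rw [SgOn, sg_one_iff (polarNondeg_res hW) he]
  constructor
  · rintro ⟨U, hUW, hU, hd⟩
    refine ⟨U.comap W.subtype, fun u hu => hU _ hu, ?_⟩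
    rw [(Submodule.comapSubtypeEquivOfLe hUW).finrank_eq, hd]
  · rintro ⟨U, hU, hd⟩
    refine ⟨U.map W.subtype, Submodule.map_subtype_le _ _, ?_, ?_⟩
    · rintro _ ⟨u, hu, rfl⟩
      exact hU u hu
    · rw [Submodule.finrank_map_subtype_eq, hd]

theorem not_plusTypeOn_iff {W : Submodule F (ι → F)} (hW : NdOn q W) (he : Even (finrank F W)) :
    ¬ Cfsg.Geo.IsPlusTypeOn ⇑q W ↔ SgOn q W (-1) := by
  rw [plusTypeOn_iff hW he]
  constructor
  · intro h
    obtain ⟨ε, hε, hs⟩ := sgOn_cases hW he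
    rcases hε with rfl | rfl
    · exact absurd hs h
    · exact hs
  · exact fun h h' => absurd (sg_unique h h') (by norm_num)

theorem ndOn_top (hQ : PolarNondeg q) : NdOn q (⊤ : Submodule F (ι → F)) := fun x _ h =>
  hQ x fun y => h y Submodule.mem_top

theorem isom_res_top : Isom (res q (⊤ : Submodule F (ι → F))) q :=
  ⟨Submodule.topEquiv, fun _ => rfl⟩

/-- An orthogonal sum of two non-degenerate subspaces. -/
theorem sup_orth {A B : Submodule F (ι → F)} (hA : NdOn q A) (hB : NdOn q B)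
    (h : ∀ a ∈ A, ∀ b ∈ B, QuadraticMap.polar q a b = 0) :
    NdOn q (A ⊔ B) ∧ finrank F ↥(A ⊔ B) = finrank F A + finrank F B ∧
      Isom ((res q A).prod (res q B)) (res q (A ⊔ B)) := by
  have hd : A ⊓ B = ⊥ := by
    rw [eq_bot_iff]
    rintro x ⟨hxA, hxB⟩
    exact (Submodule.mem_bot F).2 (hA x hxA fun y hy => (QuadraticMap.polar_comm q x y).trans (h y hy x hxB))
  refine ⟨fun x hx hx0 => ?_, ?_, ?_⟩
  · obtain ⟨a, ha, b, hb, rfl⟩ := Submodule.mem_sup.1 hx
    have ha0 : a = 0 := hA a ha fun y hy => by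
      have h1 := hx0 y (Submodule.mem_sup_left hy)
      rwa [QuadraticMap.polar_add_left, QuadraticMap.polar_comm q b y, h y hy b hb, add_zero] at h1
    have hb0 : b = 0 := hB b hb fun y hy => by
      have h1 := hx0 y (Submodule.mem_sup_right hy)
      rwa [QuadraticMap.polar_add_left, h a ha y hy, zero_add] at h1
    rw [ha0, hb0, add_zero]
  · have := Submodule.finrank_sup_add_finrank_inf_eq A B
    rw [hd, finrank_bot] at this
    omega
  · let T : (A × B) →ₗ[F] ↥(A ⊔ B) :=
      (Submodule.inclusion le_sup_left).coprod (Submodule.inclusion le_sup_right)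
    have hT : ∀ x, (T x : ι → F) = (x.1 : ι → F) + (x.2 : ι → F) := fun x => rfl
    have hbij : Function.Bijective T := by
      refine ⟨(injective_iff_map_eq_zero T).2 fun x hx => ?_, fun y => ?_⟩
      · have h1 : (x.1 : ι → F) + (x.2 : ι → F) = 0 := by rw [← hT, hx]; rfl
        have h2 : (x.1 : ι → F) ∈ A ⊓ B := ⟨x.1.2, by
          rw [eq_neg_of_add_eq_zero_left h1]
          exact B.neg_mem x.2.2⟩
        rw [hd, Submodule.mem_bot] at h2
        rw [h2, zero_add] at h1
        exact Prod.ext (Subtype.ext h2) (Subtype.ext h1)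
      · obtain ⟨a, ha, b, hb, hab⟩ := Submodule.mem_sup.1 y.2
        exact ⟨(⟨a, ha⟩, ⟨b, hb⟩), Subtype.ext hab⟩
    refine ⟨LinearEquiv.ofBijective T hbij, fun x => ?_⟩
    change q (T x : ι → F) = q (x.1 : ι → F) + q (x.2 : ι → F)
    rw [hT, quad_add, h _ x.1.2 _ x.2.2, add_zero]

theorem SgOn.sup {A B : Submodule F (ι → F)} (hA : NdOn q A) (hB : NdOn q B)
    (h : ∀ a ∈ A, ∀ b ∈ B, QuadraticMap.polar q a b = 0) {ε ε' : ℤ} (hε : SgOn q A ε) (hε' : SgOn q B ε') :
    SgOn q (A ⊔ B) (ε * ε') :=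
  Sg.congr (sup_orth hA hB h).2.2 (Sg.prod hε hε')

/-- An orthogonal sum of finitely many non-degenerate subspaces. -/
theorem sgOn_finset {κ : Type} [DecidableEq κ] {D : κ → Submodule F (ι → F)}
    (ho : ∀ i j, i ≠ j → ∀ a ∈ D i, ∀ b ∈ D j, QuadraticMap.polar q a b = 0) (hn : ∀ i, NdOn q (D i))
    {ε : κ → ℤ} (hε : ∀ i, SgOn q (D i) (ε i)) (s : Finset κ) :
    NdOn q (⨆ i ∈ s, D i) ∧ SgOn q (⨆ i ∈ s, D i) (∏ i ∈ s, ε i) := by
  induction s using Finset.induction with
  | empty =>
    have h0 : (⨆ i ∈ (∅ : Finset κ), D i) = ⊥ := by simp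
    rw [h0, Finset.prod_empty]
    exact ⟨fun x hx _ => (Submodule.mem_bot F).1 hx, sg_subsingleton _ (finrank_bot F (ι → F))⟩
  | insert a s ha ih =>
    rw [Finset.iSup_insert, Finset.prod_insert ha]
    have horth : ∀ x ∈ D a, ∀ y ∈ ⨆ i ∈ s, D i, QuadraticMap.polar q x y = 0 := by
      intro x hx y hy
      have hle : (⨆ i ∈ s, D i) ≤ qPerp q (Submodule.span F {x}) :=
        iSup₂_le fun i hi z hz => (mem_qPerp_singleton q).2 (ho a i (fun e => ha (e ▸ hi)) x hx z hz)
      exact (mem_qPerp_singleton q).1 (hle hy)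
    exact ⟨(sup_orth (hn a) ih.1 horth).1, SgOn.sup (hn a) ih.1 horth (hε a) ih.2⟩

/-- An orthogonal decomposition of the whole space. -/
theorem sg_iSup {κ : Type} [Fintype κ] [DecidableEq κ] {D : κ → Submodule F (ι → F)}
    (ho : ∀ i j, i ≠ j → ∀ a ∈ D i, ∀ b ∈ D j, QuadraticMap.polar q a b = 0) (hn : ∀ i, NdOn q (D i))
    (htop : iSup D = ⊤) {ε : κ → ℤ} (hε : ∀ i, SgOn q (D i) (ε i)) : Sg q (∏ i, ε i) := by
  have h := (sgOn_finset ho hn hε Finset.univ).2
  rw [show (⨆ i ∈ (Finset.univ : Finset κ), D i) = ⊤ by rw [← htop]; simp] at h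
  exact Sg.congr isom_res_top h

/-- Two odd-dimensional spaces: the sign of the sum detects isometry. -/
theorem odd_pair (h2 : (2 : F) ≠ 0) {A B : Submodule F (ι → F)} (hA : NdOn q A) (hB : NdOn q B)
    (h : ∀ a ∈ A, ∀ b ∈ B, QuadraticMap.polar q a b = 0) (hdim : finrank F A = finrank F B)
    (hodd : Odd (finrank F A)) {ε : ℤ} (hε : SgOn q (A ⊔ B) ε) :
    Cfsg.Geo.AreIsometricFor ⇑q A B ↔ (ε = 1 ↔ IsSquare (-1 : F)) := by
  classical
  obtain ⟨k, hk⟩ := hodd
  obtain ⟨a, ha, hAi⟩ := exists_plus_line h2 (polarNondeg_res hA) hk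
  obtain ⟨b, hb, hBi⟩ := exists_plus_line h2 (polarNondeg_res hB) (hdim.symm.trans hk)
  -- the sign of two lines
  have hline : ∀ {a b : F}, a ≠ 0 → b ≠ 0 → ∀ {η : ℤ}, Sg ((a • qLine F).prod (b • qLine F)) η →
      (η = 1 ↔ IsSquare (-(b / a))) := by
    intro a b ha hb η hη
    have hQ : PolarNondeg ((a • qLine F).prod (b • qLine F)) := by
      intro x hx
      have h1 := hx (Function.const Unit 1, 0)
      have h3 := hx (0, Function.const Unit 1)
      simp [QuadraticMap.polar, qLine_apply] at h1 h3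
      have e1 : (2 * a) * x.1 () = 0 := by linear_combination h1
      have e3 : (2 * b) * x.2 () = 0 := by linear_combination h3
      exact Prod.ext (funext fun _ => (mul_eq_zero.1 e1).resolve_left (mul_ne_zero h2 ha))
        (funext fun _ => (mul_eq_zero.1 e3).resolve_left (mul_ne_zero h2 hb))
    have he : Even (finrank F ((Unit → F) × (Unit → F))) := ⟨1, by simp⟩
    constructor
    · rintro rfl
      obtain ⟨U, hU, hd⟩ := (sg_one_iff hQ he).1 hη
      obtain ⟨x, hx, hx0⟩ := Submodule.exists_mem_ne_zero_of_ne_bot (p := U) fun h0 => by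
        rw [h0, finrank_bot] at hd
        simp at hd
      have hQx := hU x hx
      simp [qLine_apply] at hQx
      have h1 : x.1 () * x.1 () * a = -(x.2 () * x.2 () * b) := by linear_combination hQx
      by_cases h0 : x.2 () = 0
      · rw [h0] at h1
        refine absurd (Prod.ext (funext fun _ => ?_) (funext fun _ => h0)) hx0
        exact mul_self_eq_zero.1 ((mul_eq_zero.1 (by linear_combination h1)).resolve_right ha)
      · refine ⟨x.1 () / x.2 (), ?_⟩
        field_simp
        linear_combination -h1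
    · rintro ⟨c, hc⟩
      refine sg_unique hη ((sg_one_iff hQ he).2 ⟨Submodule.span F {(Function.const Unit c, Function.const Unit 1)},
        fun u hu => ?_, ?_⟩)
      · obtain ⟨s, rfl⟩ := Submodule.mem_span_singleton.1 hu
        simp [qLine_apply]
        field_simp at hc
        linear_combination -(s * s) * hc
      · rw [finrank_span_singleton fun h => by simpa using congrFun (congrArg Prod.snd h) ()]
        simp
  have hplus : ∀ c : F, c ≠ 0 → Sg (c • qPlus k F) 1 := fun c hc => (sg_qPlus k).smul (polarNondeg_qPlus k) hc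
  have hsum : ∀ {a b : F}, a ≠ 0 → b ≠ 0 → ∀ {η : ℤ},
      Sg (((a • qPlus k F).prod (a • qLine F)).prod ((b • qPlus k F).prod (b • qLine F))) η →
        (η = 1 ↔ IsSquare (-(b / a))) := by
    intro a b ha hb η hη
    have hre : Isom (((a • qPlus k F).prod (a • qLine F)).prod ((b • qPlus k F).prod (b • qLine F)))
        (((a • qPlus k F).prod (b • qPlus k F)).prod ((a • qLine F).prod (b • qLine F))) :=
      ⟨LinearEquiv.prodProdProdComm F _ _ _ _, fun v => by simp; ring⟩
    have hnd : PolarNondeg ((a • qLine F).prod (b • qLine F)) := by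
      intro x hx
      have h1 := hx (Function.const Unit 1, 0)
      have h3 := hx (0, Function.const Unit 1)
      simp [QuadraticMap.polar, qLine_apply] at h1 h3
      have e1 : (2 * a) * x.1 () = 0 := by linear_combination h1
      have e3 : (2 * b) * x.2 () = 0 := by linear_combination h3
      exact Prod.ext (funext fun _ => (mul_eq_zero.1 e1).resolve_left (mul_ne_zero h2 ha))
        (funext fun _ => (mul_eq_zero.1 e3).resolve_left (mul_ne_zero h2 hb))
    obtain ⟨θ, hθ, hs⟩ := sg_cases hnd ⟨1, by simp⟩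
    have := sg_unique (Sg.congr hre hη) (Sg.prod (Sg.prod (hplus a ha) (hplus b hb)) hs)
    rw [one_mul, one_mul] at this
    rw [this]
    exact hline ha hb hs
  have hAB : Isom ((res q A).prod (res q B)) (((a • qPlus k F).prod (a • qLine F)).prod
      ((b • qPlus k F).prod (b • qLine F))) := Isom.prod_congr hAi hBi
  have hres := hsum ha hb (Sg.congr hAB (Sg.congr (sup_orth hA hB h).2.2.symm' hε))
  have hsq : ∀ x y : F, x ≠ 0 → y ≠ 0 → (IsSquare (x * y) ↔ (IsSquare x ↔ IsSquare y)) := by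
    intro x y hx hy
    by_cases hxs : IsSquare x <;> by_cases hys : IsSquare y
    · exact iff_of_true (hxs.mul hys) (iff_of_true hxs hys)
    · exact iff_of_false (fun hm => hys (by simpa [hx] using hm.div hxs)) fun e => hys (e.1 hxs)
    · exact iff_of_false (fun hm => hxs (by simpa [hy] using hm.div hys)) fun e => hxs (e.2 hys)
    · exact iff_of_true (CfsgLib.Classical.isSquare_mul_of_not_isSquare h2 hxs hys) (iff_of_false hxs hys)
  have key : (ε = 1 ↔ IsSquare (-1 : F)) ↔ IsSquare (b / a) := by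
    rw [hres, show -(b / a) = (-1) * (b / a) by ring, hsq _ _ (neg_ne_zero.2 one_ne_zero) (div_ne_zero hb ha)]
    tauto
  rw [key, isometric_iff]
  constructor
  · intro hiso
    have hAA : Isom ((res q A).prod (res q B)) (((a • qPlus k F).prod (a • qLine F)).prod
        ((a • qPlus k F).prod (a • qLine F))) := Isom.prod_congr hAi (hiso.symm'.trans' hAi)
    have h1 := hsum ha ha (Sg.congr hAA (Sg.congr (sup_orth hA hB h).2.2.symm' hε))
    rw [div_self ha] at h1
    exact key.1 h1
  · rintro ⟨c, hc⟩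
    have hc0 : c ≠ 0 := fun h0 => div_ne_zero hb ha (by rw [hc, h0, mul_zero])
    have hb' : b = c * c * a := by rw [← hc, div_mul_cancel₀ _ ha]
    refine hAi.trans' (Isom.trans' (S := res q B) ?_ hBi.symm')
    refine ⟨LinearEquiv.smulOfUnit (Units.mk0 c hc0)⁻¹, fun v => ?_⟩
    simp [LinearEquiv.smulOfUnit, Units.smul_def, QuadraticMap.map_smul, hb']
    field_simp

end CfsgLib.Techniques.AschEven
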