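/-
Rational structures of a quadratic form up to a scalar in any dimension; a structure over a subfield of index two
forces plus type.
-/
import Cfsg.Agent.Lib.Techniques.AschEven.Class
import Cfsg.Agent.Lib.Techniques.AschEven.Sign
import Cfsg.Agent.Lib.Techniques.AschOmega.Rational
import Cfsg.Agent.Lib.Classical22.Asch.LinearCases
import Cfsg.Agent.Lib.Transvec.Unitary
import Mathlib.FieldTheory.Finite.GaloisField

set_option autoImplicit false

namespace CfsgLib.Techniques.AschEven

open Matrix CfsgLib.Techniques.AschPrime CfsgLib.Techniques.AschOmega CfsgLib.Classical CfsgLib.Classical22 CfsgLib.Classical22.OrthType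
open scoped MatrixGroups

universe u

variable {F : Type u} [Field F] {ι : Type} [Fintype ι] [DecidableEq ι]

/-- An absolutely irreducible group of isometries that also fixes a hermitian form is realisable over a proper
subfield. -/
theorem realisable_of_unitary_even [Finite F] {q : QuadraticForm F (ι → F)} (hQ : CfsgLib.Classical.PolarNondeg q)
    [Nonempty ι] {S : Subgroup (GL ι F)} (hS : AbsIrr S) (hiso : S ≤ Cfsg.isometryGroup F ⇑q)
    {σ : F ≃+* F} {f : (ι → F) → (ι → F) → F} (hf : Cfsg.Geo.IsUnitaryForm σ f)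
    (hfix : Cfsg.Geo.FixesForm (Cfsg.Geo.matrixSet S) f) :
    ∃ F₀ : Subfield F, F₀ ≠ ⊤ ∧ Cfsg.Geo.RealisableOver F₀ (Cfsg.Geo.matrixSet S) := by
  classical
  obtain ⟨G, hG⟩ : ∃ G, G = polarMat q := ⟨_, rfl⟩
  obtain ⟨U, hU⟩ : ∃ U, U = Cfsg.Geo.gramMatrix f := ⟨_, rfl⟩
  have hGu : IsUnit G.det := isUnit_iff_ne_zero.mpr (hG ▸ polarMat_det hQ)
  have hUdet : U.det ≠ 0 := hU ▸ (IsSesq.of_unitary hf).gram_det_ne_zero hf.nondegenerate
  obtain ⟨C, hC⟩ : ∃ C, C = G⁻¹ * U := ⟨_, rfl⟩
  have hCdet : C.det ≠ 0 := by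
    rw [hC, det_mul]
    exact mul_ne_zero ((Matrix.isUnit_nonsing_inv_det G hGu).ne_zero) hUdet
  have hmap_mul : ∀ X Y : Matrix ι ι F, (X * Y).map σ = X.map σ * Y.map σ := fun X Y => Matrix.map_mul
  have hmap_inv : ∀ X : Matrix ι ι F, (X.map σ).map σ = X := fun X => Matrix.ext fun i j => hf.involutive _
  have hcomm : ∀ s ∈ S, C * (s : Matrix ι ι F).map σ = (s : Matrix ι ι F) * C := fun s hs => by
    have h1 : (s : Matrix ι ι F)ᵀ * G * (s : Matrix ι ι F) = G := hG ▸ polarMat_isometry q (hiso hs)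
    have h2 : (s : Matrix ι ι F)ᵀ * U * (s : Matrix ι ι F).map σ = U := by
      rw [hU, ← (IsSesq.of_unitary hf).gram_comp]
      exact congrArg Cfsg.Geo.gramMatrix (funext fun u => funext fun v => hfix _ ⟨s, hs, rfl⟩ u v)
    obtain ⟨M, hM⟩ : ∃ M, M = (s : Matrix ι ι F)ᵀ * G := ⟨_, rfl⟩
    have hst : IsUnit (s : Matrix ι ι F)ᵀ.det :=
      (Matrix.det_transpose (s : Matrix ι ι F)).symm ▸ (Matrix.GeneralLinearGroup.det s).isUnit
    have hMu : IsUnit M.det := by rw [hM, det_mul]; exact hst.mul hGu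
    have e1 : M * (C * (s : Matrix ι ι F).map σ) = U := by
      calc M * (C * (s : Matrix ι ι F).map σ)
          = (s : Matrix ι ι F)ᵀ * (G * G⁻¹) * U * (s : Matrix ι ι F).map σ := by rw [hM, hC]; simp only [mul_assoc]
        _ = U := by rw [mul_nonsing_inv G hGu, mul_one, h2]
    have e2 : M * ((s : Matrix ι ι F) * C) = U := by
      calc M * ((s : Matrix ι ι F) * C) = ((s : Matrix ι ι F)ᵀ * G * (s : Matrix ι ι F)) * G⁻¹ * U := by
            rw [hM, hC]; simp only [mul_assoc]
        _ = U := by rw [h1, mul_nonsing_inv G hGu, one_mul]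
    calc C * (s : Matrix ι ι F).map σ = M⁻¹ * (M * (C * (s : Matrix ι ι F).map σ)) := by
          rw [← mul_assoc M⁻¹, nonsing_inv_mul M hMu, one_mul]
      _ = M⁻¹ * (M * ((s : Matrix ι ι F) * C)) := by rw [e1, e2]
      _ = _ := by rw [← mul_assoc M⁻¹, nonsing_inv_mul M hMu, one_mul]
  obtain ⟨l, hl⟩ := hS.scalar (M := C * C.map σ) fun s hs => by
    have h1 := congrArg (fun X : Matrix ι ι F => C * X.map σ) (hcomm s hs)
    simp only [hmap_mul, hmap_inv] at h1
    rw [mul_assoc, h1, ← mul_assoc, hcomm s hs, mul_assoc]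
  have hl0 : l ≠ 0 := by
    rintro rfl
    have h := congrArg Matrix.det hl
    rw [det_mul, det_smul, zero_pow Fintype.card_ne_zero, zero_mul, mul_eq_zero] at h
    rcases h with h | h
    · exact hCdet h
    · rw [show (C.map σ).det = σ C.det from (σ.toRingHom.map_det _).symm, RingEquiv.map_eq_zero_iff] at h
      exact hCdet h
  have hlfix : σ l = l := by
    have h2 : C.map σ * C = l • (1 : Matrix ι ι F) := by
      have hu : IsUnit C.det := isUnit_iff_ne_zero.mpr hCdet
      calc C.map σ * C = C⁻¹ * (C * C.map σ) * C := by rw [← mul_assoc C⁻¹, nonsing_inv_mul C hu, one_mul]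
        _ = _ := by rw [hl, Matrix.mul_smul, mul_one, Matrix.smul_mul, nonsing_inv_mul C hu]
    have h3 := congrArg (fun X : Matrix ι ι F => X.map σ) h2
    simp only [hmap_mul, hmap_inv, hl] at h3
    obtain ⟨i⟩ := ‹Nonempty ι›
    have h4 := congrFun (congrFun h3 i) i
    simpa using h4.symm
  obtain ⟨μ, hμ⟩ := CfsgLib.Transvec.Unitary.exists_norm_eq hf.ne_refl hf.involutive (b := l⁻¹)
    (by rw [map_inv₀, hlfix])
  have hμl : μ * σ μ * l = 1 := by rw [hμ, inv_mul_cancel₀ hl0]
  obtain ⟨T, hT⟩ : ∃ T : (ι → F) → ι → F, T = fun v => μ • (C *ᵥ (σ ∘ v)) := ⟨_, rfl⟩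
  have hσvec : ∀ (X : Matrix ι ι F) (v : ι → F), σ ∘ (X *ᵥ v) = X.map σ *ᵥ (σ ∘ v) := fun X v => by
    funext i
    simp [mulVec, dotProduct, map_sum]
  have hσsmul : ∀ (a : F) (v : ι → F), σ ∘ (a • v) = σ a • (σ ∘ v) := fun a v => by funext i; simp
  have hTT : ∀ v, T (T v) = v := fun v => by
    have hv : σ ∘ σ ∘ v = v := funext fun i => hf.involutive _
    simp only [hT, hσsmul, hσvec, hv, mulVec_smul, mulVec_mulVec, hl, Matrix.smul_mulVec, one_mulVec, smul_smul,
      ← mul_assoc, hμl, one_smul]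
  have hTadd : ∀ v w, T (v + w) = T v + T w := fun v w => by
    simp only [hT, show σ ∘ (v + w) = σ ∘ v + σ ∘ w by funext i; simp, mulVec_add, smul_add]
  have hTsmul : ∀ (a : F) (v : ι → F), T (a • v) = σ a • T v := fun a v => by
    simp only [hT, hσsmul, mulVec_smul, smul_comm μ (σ a)]
  obtain ⟨α, hα⟩ : ∃ α : F, σ α ≠ α := by
    by_contra h
    push Not at h
    exact hf.ne_refl (RingEquiv.ext h)
  have hspan : Submodule.span F {w : ι → F | T w = w} = ⊤ := by
    rw [eq_top_iff]
    intro v _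
    have h1 : v + T v ∈ {w : ι → F | T w = w} := by
      change T (v + T v) = v + T v
      rw [hTadd, hTT, add_comm]
    have h2 : α • v + σ α • T v ∈ {w : ι → F | T w = w} := by
      change T (α • v + σ α • T v) = _
      rw [hTadd, hTsmul, hTsmul, hTT, hf.involutive, add_comm]
    have h3 : α • v + σ α • T v - σ α • (v + T v) = (α - σ α) • v := by module
    have h4 := Submodule.sub_mem (Submodule.span F {w : ι → F | T w = w}) (Submodule.subset_span h2)
      (Submodule.smul_mem _ (σ α) (Submodule.subset_span h1))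
    rw [h3] at h4
    exact (Submodule.smul_mem_iff _ (sub_ne_zero.2 (Ne.symm hα))).1 h4
  obtain ⟨b, hbT, hbspan, hbli⟩ := exists_linearIndependent F {w : ι → F | T w = w}
  have hbtop : ⊤ ≤ Submodule.span F (Set.range ((↑) : b → ι → F)) := by
    rw [Subtype.range_coe, hbspan, hspan]
  let β := Module.Basis.mk hbli hbtop
  let e : b ≃ ι := β.indexEquiv (Pi.basisFun F ι)
  let X : Matrix ι ι F := Matrix.of fun i j => (e.symm j : ι → F) i
  have hXdet : IsUnit X.det := by
    rw [← Matrix.isUnit_iff_isUnit_det, ← Matrix.linearIndependent_cols_iff_isUnit]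
    exact hbli.comp _ e.symm.injective
  have hXfix : μ • (C * X.map σ) = X := by
    refine Matrix.ext fun i j => ?_
    have h := congrFun (show T (e.symm j : ι → F) = _ from hbT (e.symm j).2) i
    rw [hT] at h
    simpa [Matrix.mul_apply, mulVec, dotProduct, X] using h
  let B : GL ι F := Matrix.GeneralLinearGroup.mk'' X hXdet
  refine ⟨(σ.toRingHom.eqLocusField (RingHom.id F)), ?_, B⁻¹, ?_⟩
  · intro h
    apply hα
    have : α ∈ σ.toRingHom.eqLocusField (RingHom.id F) := by rw [h]; trivial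
    exact this
  rintro _ ⟨s, hs, rfl⟩ i j
  obtain ⟨Y, hY⟩ : ∃ Y, Y = ((B⁻¹ : GL ι F) : Matrix ι ι F) * (s : Matrix ι ι F) * X := ⟨_, rfl⟩
  have hXY : X * Y = (s : Matrix ι ι F) * X := by
    rw [hY, ← mul_assoc, ← mul_assoc, show X * ((B⁻¹ : GL ι F) : Matrix ι ι F) = 1 from B.mul_inv, one_mul]
  have hYfix : Y.map σ = Y := by
    have h1 : μ • (C * (X * Y).map σ) = X * Y.map σ := by
      rw [hmap_mul, ← mul_assoc, ← Matrix.smul_mul, hXfix]
    rw [hXY, hmap_mul, ← mul_assoc, hcomm s hs, mul_assoc, ← Matrix.mul_smul, hXfix, ← hXY] at h1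
    calc Y.map σ = X⁻¹ * (X * Y.map σ) := by rw [← mul_assoc, nonsing_inv_mul X hXdet, one_mul]
      _ = Y := by rw [← h1, ← mul_assoc, nonsing_inv_mul X hXdet, one_mul]
  change σ ((((B⁻¹ : GL ι F) : Matrix ι ι F) * (s : Matrix ι ι F) * (((B⁻¹)⁻¹ : GL ι F) : Matrix ι ι F)) i j) = _
  rw [inv_inv, show ((B : GL ι F) : Matrix ι ι F) = X from rfl, ← hY]
  exact congrFun (congrFun hYfix i) j

/-- An absolutely irreducible group of isometries written over a subfield gives a rational structure of a multiple of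
the form. -/
theorem exists_rational_scaled [Finite F] {q : QuadraticForm F (ι → F)} (hQ : PolarNondeg q)
    (hn : 2 ≤ Fintype.card ι) {F₀ : Subfield F}
    {S : Subgroup (GL ι F)} (hS : AbsIrr S) (hiso : S ≤ Cfsg.isometryGroup F ⇑q) {B : GL ι F}
    (hB : ∀ s ∈ S, ∀ i j, ((B : Matrix ι ι F) * (s : Matrix ι ι F) * ((B⁻¹ : GL ι F) : Matrix ι ι F)) i j ∈ F₀) :
    ∃ ζ : F, ζ ≠ 0 ∧ Cfsg.Geo.IsQuadFormRationalStructure (fun v => ζ * q v) F₀ B⁻¹ := by
  classical
  have : Nonempty ι := Fintype.card_pos_iff.mp (by omega)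
  obtain ⟨C, hCdef⟩ : ∃ C : Matrix ι ι F, C = ((B⁻¹ : GL ι F) : Matrix ι ι F) := ⟨_, rfl⟩
  have hBC : (B : Matrix ι ι F) * C = 1 := by rw [hCdef, ← Units.val_mul, mul_inv_cancel, Units.val_one]
  have hCB : C * (B : Matrix ι ι F) = 1 := by rw [hCdef, ← Units.val_mul, inv_mul_cancel, Units.val_one]
  obtain ⟨G, hG⟩ : ∃ G : Matrix ι ι F, G = Cᵀ * polarMat q * C := ⟨_, rfl⟩
  have hCdet : C.det ≠ 0 := fun h => by
    have := congrArg Matrix.det hBC
    rw [det_mul, h, mul_zero, det_one] at this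
    exact zero_ne_one this
  have hGdet : G.det ≠ 0 := by rw [hG, det_mul, det_mul, det_transpose]; simp [polarMat_det hQ, hCdet]
  let A : S → Matrix ι ι F := fun s => (B : Matrix ι ι F) * (s : GL ι F).val * C
  let A' : S → Matrix ι ι F := fun s => ((B : Matrix ι ι F) * ((s : GL ι F)⁻¹).val * C)ᵀ
  have hCA : ∀ s : S, C * A s = (s : GL ι F).val * C := fun s => by
    simp only [A, ← mul_assoc, hCB, one_mul]
  have hAinv : ∀ s, A' s * (A s)ᵀ = 1 := fun s => by
    simp only [A, A']
    rw [← transpose_mul, ← transpose_one]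
    congr 1
    rw [show (B : Matrix ι ι F) * (s : GL ι F).val * C * ((B : Matrix ι ι F) * ((s : GL ι F)⁻¹).val * C) =
      (B : Matrix ι ι F) * ((s : GL ι F).val * (C * (B : Matrix ι ι F)) * ((s : GL ι F)⁻¹).val) * C by
        simp only [mul_assoc], hCB, mul_one, ← Units.val_mul, mul_inv_cancel, Units.val_one, mul_one, hBC]
  have hint : ∀ s, G * A s = A' s * G := fun s => by
    have hform : (A s)ᵀ * G * A s = G := by
      rw [hG, show (A s)ᵀ * (Cᵀ * polarMat q * C) * A s = (C * A s)ᵀ * polarMat q * (C * A s) by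
        simp only [transpose_mul, mul_assoc], hCA, transpose_mul]
      calc Cᵀ * (s : GL ι F).valᵀ * polarMat q * ((s : GL ι F).val * C) =
          Cᵀ * ((s : GL ι F).valᵀ * polarMat q * (s : GL ι F).val) * C := by simp only [mul_assoc]
        _ = _ := by rw [polarMat_isometry q (hiso s.2)]
    calc G * A s = A' s * (A s)ᵀ * G * A s := by rw [hAinv, one_mul]
      _ = A' s * ((A s)ᵀ * G * A s) := by simp only [mul_assoc]
      _ = _ := by rw [hform]
  have hGu : IsUnit G.det := isUnit_iff_ne_zero.mpr hGdet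
  have huniq : ∀ D : Matrix ι ι F, (∀ s, D * A s = A' s * D) → ∃ c : F, D = c • G := by
    intro D hD
    obtain ⟨E, hE⟩ : ∃ E, E = G⁻¹ * D := ⟨_, rfl⟩
    have hEA : ∀ s, E * A s = A s * E := fun s => by
      have h1 : A s * G⁻¹ = G⁻¹ * A' s := by
        calc A s * G⁻¹ = G⁻¹ * (G * A s) * G⁻¹ := by rw [← mul_assoc, nonsing_inv_mul G hGu, one_mul]
          _ = G⁻¹ * A' s := by rw [hint, mul_assoc, mul_assoc, mul_nonsing_inv G hGu, mul_one]
      rw [hE, mul_assoc, hD, ← mul_assoc, ← h1, mul_assoc]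
    obtain ⟨c, hc⟩ := hS.scalar (M := C * E * (B : Matrix ι ι F)) fun s hs => by
      have h := congrArg (fun X => C * X * (B : Matrix ι ι F)) (hEA ⟨s, hs⟩)
      simp only [A, mul_assoc, hCB, mul_one] at h
      simp only [← mul_assoc, hCB, one_mul] at h
      simpa only [mul_assoc] using h
    refine ⟨c, ?_⟩
    have h := congrArg (fun X => (B : Matrix ι ι F) * X * C) hc
    simp only [mul_assoc, hBC, mul_one, Matrix.smul_mul, Matrix.mul_smul] at h
    simp only [← mul_assoc, hBC, one_mul] at h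
    rw [show D = G * E by rw [hE, ← mul_assoc, mul_nonsing_inv G hGu, one_mul], h, Matrix.mul_smul, mul_one]
  have hArat : ∀ s : S, ∀ i j, A s i j ∈ F₀ := fun s i j => by simp only [A, hCdef]; exact hB _ s.2 i j
  obtain ⟨c, D, hc, hDrat, hD⟩ := exists_rat_intertwiner (A := A) (A' := A') (F₀ := F₀) hArat
    (fun s i j => by simp only [A', transpose_apply, hCdef]; exact hB _ (S.inv_mem s.2) j i)
    (fun h => hGdet (by rw [h]; exact det_zero)) hint huniq
  refine ⟨c⁻¹, inv_ne_zero hc, ?_⟩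
  -- the rescaled form in rational coordinates
  obtain ⟨Q', hQ'⟩ : ∃ Q' : QuadraticForm F (ι → F), Q' = (c⁻¹ • q).comp (Matrix.toLin' C) := ⟨_, rfl⟩
  have hQv : ∀ u, Q' u = c⁻¹ * q (C *ᵥ u) := fun u => by simp [hQ']
  have hrmem : ∀ (M : Matrix ι ι F) (u : ι → F), (∀ i j, M i j ∈ F₀) → (∀ i, u i ∈ F₀) → ∀ i, (M *ᵥ u) i ∈ F₀ :=
    fun M u hM hu i => sum_mem fun j _ => F₀.mul_mem (hM i j) (hu j)
  have hpol : ∀ u v : ι → F, (∀ i, u i ∈ F₀) → (∀ i, v i ∈ F₀) → QuadraticMap.polar Q' u v ∈ F₀ := by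
    intro u v hu hv
    have h1 : QuadraticMap.polar ⇑q (C *ᵥ u) (C *ᵥ v) = c * (u ⬝ᵥ (D *ᵥ v)) := by
      rw [(IsSesq.of_bilinear (polar_bilin q)).eq_gram]
      change (C *ᵥ u) ⬝ᵥ (polarMat q *ᵥ (C *ᵥ v)) = _
      rw [← smul_eq_mul, ← dotProduct_smul, ← smul_mulVec, ← hD, hG, ← mulVec_mulVec, ← mulVec_mulVec,
        dotProduct_mulVec u, vecMul_transpose]
    rw [show QuadraticMap.polar Q' u v = c⁻¹ * QuadraticMap.polar ⇑q (C *ᵥ u) (C *ᵥ v) by
      simp only [QuadraticMap.polar, hQv, mulVec_add]; ring, h1, inv_mul_cancel_left₀ hc]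
    exact sum_mem fun i _ => F₀.mul_mem (hu i) (hrmem D v hDrat hv i)
  intro u hu
  change c⁻¹ * q (_ *ᵥ u) ∈ F₀
  rw [← hCdef, ← hQv]
  by_cases h2 : (2 : F) = 0
  swap
  · have h := hpol u u hu hu
    rw [quad_polar_self] at h
    rw [show Q' u = 2 * Q' u / 2 by field_simp]
    exact F₀.div_mem h (by exact_mod_cast natCast_mem F₀ 2)
  have : CharP F 2 := CharTwo.of_one_ne_zero_of_two_eq_zero one_ne_zero h2
  -- the rational vectors with rational value
  let R : Set (ι → F) := {v | (∀ i, v i ∈ F₀) ∧ Q' v ∈ F₀}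
  have hRadd : ∀ v ∈ R, ∀ w ∈ R, v + w ∈ R := fun v hv w hw =>
    ⟨fun i => F₀.add_mem (hv.1 i) (hw.1 i), by
      rw [quad_add]; exact F₀.add_mem (F₀.add_mem hv.2 hw.2) (hpol v w hv.1 hw.1)⟩
  have hR0 : (0 : ι → F) ∈ R := ⟨fun _ => F₀.zero_mem, by rw [map_zero]; exact F₀.zero_mem⟩
  have hRsmul : ∀ a ∈ F₀, ∀ v ∈ R, a • v ∈ R := fun a ha v hv =>
    ⟨fun i => F₀.mul_mem ha (hv.1 i), by rw [quad_smul]; exact F₀.mul_mem (F₀.mul_mem ha ha) hv.2⟩
  have hQA : ∀ (s : S) v, Q' (A s *ᵥ v) = Q' v := fun s v => by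
    rw [hQv, hQv, mulVec_mulVec, hCA, ← mulVec_mulVec, map_isometry (hiso s.2)]
  obtain ⟨U, hU⟩ : ∃ U : Submodule F (ι → F), U = Submodule.span F ((C *ᵥ ·) '' R) := ⟨_, rfl⟩
  have hUinv : Inv S U := by
    intro s hs x hx
    rw [hU] at hx ⊢
    induction hx using Submodule.span_induction with
    | mem x hx =>
      obtain ⟨v, hv, rfl⟩ := hx
      refine Submodule.subset_span ⟨A ⟨s, hs⟩ *ᵥ v, ⟨hrmem _ _ (hArat ⟨s, hs⟩) hv.1, by
        rw [hQA]; exact hv.2⟩, ?_⟩
      simp only [mulVec_mulVec, hCA]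
    | zero => rw [mulVec_zero]; exact Submodule.zero_mem _
    | add x y _ _ hx hy => rw [mulVec_add]; exact Submodule.add_mem _ hx hy
    | smul a x _ hx => rw [mulVec_smul]; exact Submodule.smul_mem _ a hx
  have hUtop : U = ⊤ := by
    refine ((irr_iff S).mp hS.1 U hUinv).resolve_left fun h0 => ?_
    refine Asch.irr_not_scalar hn hS.1 fun s hs => ?_
    have hfix : ∀ i, A ⟨s, hs⟩ *ᵥ Pi.single i 1 = Pi.single i 1 := by
      intro i
      obtain ⟨e, he⟩ : ∃ e : ι → F, e = Pi.single i 1 := ⟨_, rfl⟩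
      rw [← he]
      have he' : ∀ j, e j ∈ F₀ := fun j => by
        rw [he, Pi.single_apply]
        split_ifs
        · exact F₀.one_mem
        · exact F₀.zero_mem
      have hm : A ⟨s, hs⟩ *ᵥ e + e ∈ R := ⟨fun j => F₀.add_mem (hrmem _ _ (hArat _) he' j) (he' j), by
        rw [quad_add, hQA, CharTwo.add_self_eq_zero, zero_add]
        exact hpol _ _ (hrmem _ _ (hArat _) he') he'⟩
      have h1 : C *ᵥ (A ⟨s, hs⟩ *ᵥ e + e) ∈ U := hU ▸ Submodule.subset_span ⟨_, hm, rfl⟩
      rw [h0, Submodule.mem_bot] at h1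
      have h2 := congrArg ((B : Matrix ι ι F) *ᵥ ·) h1
      simp only [mulVec_mulVec, hBC, one_mulVec, mulVec_zero] at h2
      exact CharTwo.add_eq_zero.1 h2
    refine mem_scalars_of_eq_smul (c := 1) ?_
    have hA1 : A ⟨s, hs⟩ = 1 := Matrix.ext_of_mulVec_single fun i => by rw [hfix, one_mulVec]
    have h := congrArg (fun X => C * X * (B : Matrix ι ι F)) hA1
    simp only [hCA, mul_assoc, hCB, mul_one] at h
    rw [one_smul, h]
  obtain ⟨l, hl⟩ := (LinearMap.toSpanSingleton F₀ F 1).exists_leftInverse_of_injective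
    (LinearMap.ker_toSpanSingleton F₀ one_ne_zero)
  have hl1 : ∀ a : F, a ∈ F₀ → (l a : F) = a := fun a ha => by
    have h := LinearMap.congr_fun hl ⟨a, ha⟩
    simp only [LinearMap.comp_apply, LinearMap.toSpanSingleton_apply, LinearMap.id_apply] at h
    rw [show ((⟨a, ha⟩ : F₀) • (1 : F)) = a from mul_one a] at h
    exact congrArg Subtype.val h
  have key : ∀ x ∈ U, ∀ a : F, (fun i => (l (a * ((B : Matrix ι ι F) *ᵥ x) i) : F)) ∈ R := by
    intro x hx
    rw [hU] at hx
    induction hx using Submodule.span_induction with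
    | mem x hx =>
      obtain ⟨v, hv, rfl⟩ := hx
      intro a
      have : (fun i => (l (a * ((B : Matrix ι ι F) *ᵥ (C *ᵥ v)) i) : F)) = (l a : F) • v := funext fun i => by
        rw [mulVec_mulVec, hBC, one_mulVec, mul_comm a,
          show v i * a = (⟨v i, hv.1 i⟩ : F₀) • a from rfl, map_smul]
        exact mul_comm _ _
      rw [this]
      exact hRsmul _ (l a).2 v hv
    | zero =>
      intro a
      convert hR0 using 1
      funext i
      simp
    | add x y _ _ hx hy =>
      intro a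
      have := hRadd _ (hx a) _ (hy a)
      convert this using 1
      funext i
      simp [mulVec_add, mul_add]
    | smul b x _ hx =>
      intro a
      have := hx (a * b)
      convert this using 1
      funext i
      simp [mulVec_smul, mul_assoc]
  have h := key (C *ᵥ u) (hUtop ▸ Submodule.mem_top) 1
  simp only [mulVec_mulVec, hBC, one_mulVec, one_mul] at h
  rw [show (fun i => (l (u i) : F)) = u from funext fun i => hl1 _ (hu i)] at h
  exact h.2

omit [DecidableEq ι] in
/-- A quadratic form vanishing on rational vectors is zero. -/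
theorem quad_eq_zero_of_rational {J : Type*} [Fintype J] [DecidableEq J] {D : QuadraticForm F (J → F)} {F₀ : Subfield F}
    (h : ∀ u : J → F₀, D (fun j => (u j : F)) = 0) : D = 0 := by
  have hs : ∀ j, D (Pi.single j 1) = 0 := fun j => by
    have := h (Pi.single j 1)
    rwa [show (fun k => ((Pi.single j 1 : J → F₀) k : F)) = Pi.single j 1 from funext fun k => by
      simp [Pi.single_apply, apply_ite Subtype.val]] at this
  have hp : ∀ j k, QuadraticMap.polar D (Pi.single j 1) (Pi.single k 1) = 0 := fun j k => by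
    have := h (Pi.single j 1 + Pi.single k 1)
    rw [show (fun i => ((Pi.single j 1 + Pi.single k 1 : J → F₀) i : F)) = Pi.single j 1 + Pi.single k 1 from
      funext fun i => by simp [Pi.single_apply, apply_ite Subtype.val]] at this
    rw [QuadraticMap.polar, this, hs, hs, sub_zero, sub_zero]
  have hB : QuadraticMap.polarBilin D = 0 := LinearMap.ext_basis (Pi.basisFun F J) (Pi.basisFun F J) fun j k => by
    rw [Pi.basisFun_apply, Pi.basisFun_apply]
    exact hp j k
  refine QuadraticMap.ext fun v => ?_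
  rw [← Finset.univ_sum_single v, _root_.zero_apply]
  refine Finset.sum_induction _ (fun w => D w = 0) (fun a b ha hb => ?_) (map_zero D) fun j _ => ?_
  · rw [quad_add, ha, hb, ← QuadraticMap.polarBilin_apply_apply, hB]
    simp
  · rw [show Pi.single j (v j) = v j • (Pi.single j 1 : J → F) by rw [← Pi.single_smul, smul_eq_mul, mul_one],
      quad_smul, hs, mul_zero]

omit [Fintype ι] [DecidableEq ι] in
/-- Restriction of a form to rational vectors. -/
theorem exists_restrict (Q' : QuadraticForm F (ι → F)) {F₀ : Subfield F}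
    (h : ∀ u : ι → F₀, Q' (fun i => (u i : F)) ∈ F₀) :
    ∃ Q₀ : QuadraticForm F₀ (ι → F₀), ∀ u, (Q₀ u : F) = Q' (fun i => (u i : F)) := by
  have hp : ∀ u v : ι → F₀, ((QuadraticMap.polar (fun w => (⟨_, h w⟩ : F₀)) u v : F₀) : F) =
      QuadraticMap.polar Q' (fun i => (u i : F)) (fun i => (v i : F)) := fun u v => rfl
  refine ⟨QuadraticMap.ofPolar (fun w => (⟨_, h w⟩ : F₀)) (fun a u => ?_) (fun u u' v => ?_) (fun a u v => ?_),
    fun u => rfl⟩
  · exact Subtype.ext (quad_smul Q' (a : F) fun i => (u i : F))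
  · refine Subtype.ext ?_
    rw [AddMemClass.coe_add, hp, hp, hp]
    exact QuadraticMap.polar_add_left Q' _ _ _
  · refine Subtype.ext ?_
    rw [smul_eq_mul, MulMemClass.coe_mul, hp, hp]
    exact QuadraticMap.polar_smul_left Q' (a : F) _ _

/-- A rational structure over a subfield of index two gives plus type. -/
theorem plus_of_index_two [Fintype F] {q : QuadraticForm F (ι → F)} (hQ : PolarNondeg q) {m : ℕ} (hm : 1 ≤ m)
    (hn : Fintype.card ι = 2 * m) {F₀ : Subfield F} (hcard : Fintype.card F = Nat.card F₀ ^ 2) {P : GL ι F} {ζ : F}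
    (hζ : ζ ≠ 0) (hP : Cfsg.Geo.IsQuadFormRationalStructure (fun v => ζ * q v) F₀ P) :
    Cfsg.Geo.IsPlusTypeOn ⇑q ⊤ := by
  classical
  obtain ⟨Q', hQ'⟩ : ∃ Q' : QuadraticForm F (ι → F),
      Q' = (ζ • q).comp (Matrix.toLin' (P : Matrix ι ι F)) := ⟨_, rfl⟩
  have hQv : ∀ u, Q' u = ζ * q ((P : Matrix ι ι F) *ᵥ u) := fun u => by simp [hQ']
  obtain ⟨Q₀, hQ₀⟩ := exists_restrict Q' (F₀ := F₀) fun u => hQv _ ▸ hP _ fun i => (u i).2
  have hnd : PolarNondeg Q₀ := by
    intro v hv
    have hz : (P : Matrix ι ι F) *ᵥ (fun i => (v i : F)) = 0 := by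
      refine hQ _ fun y => ?_
      obtain ⟨w, rfl⟩ : ∃ w, (P : Matrix ι ι F) *ᵥ w = y := ⟨((P⁻¹ : GL ι F) : Matrix ι ι F) *ᵥ y, by
        rw [mulVec_mulVec, Units.mul_inv, one_mulVec]⟩
      have hl : QuadraticMap.polarBilin Q' (fun i => (v i : F)) = 0 := (Pi.basisFun F ι).ext fun k => by
        have h := congrArg Subtype.val (hv (Pi.single k 1))
        simp only [QuadraticMap.polar, AddSubgroupClass.coe_sub, hQ₀, ZeroMemClass.coe_zero] at h
        have e1 : (fun i => ((Pi.single k 1 : ι → F₀) i : F)) = Pi.single k 1 := funext fun i => by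
          simp [Pi.single_apply, apply_ite Subtype.val]
        have e2 : (fun i => ((v + Pi.single k 1 : ι → F₀) i : F)) = (fun i => (v i : F)) + Pi.single k 1 := by
          rw [← e1]; rfl
        rw [e1, e2] at h
        rw [Pi.basisFun_apply, LinearMap.zero_apply, QuadraticMap.polarBilin_apply_apply, QuadraticMap.polar]
        exact h
      have h := LinearMap.congr_fun hl w
      rw [QuadraticMap.polarBilin_apply_apply, LinearMap.zero_apply] at h
      refine (mul_eq_zero.1 (?_ : ζ * QuadraticMap.polar q _ _ = 0)).resolve_left hζ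
      rw [← h]
      simp only [QuadraticMap.polar, hQv, mulVec_add]
      ring
    have h := mulVec_inj P (hz.trans (mulVec_zero _).symm)
    exact funext fun i => Subtype.ext (congrFun h i)
  have hd₀ : Module.finrank F₀ (ι → F₀) = 2 * m := (Module.finrank_pi F₀).trans hn
  have lift : ∀ {J : Type} [Fintype J] [DecidableEq J] (R : QuadraticForm F₀ (J → F₀)) (RF : QuadraticForm F (J → F)),
      (∀ u : J → F₀, RF (fun j => (u j : F)) = (R u : F)) → Isom R Q₀ →
        ∃ L : (J → F) →ₗ[F] (ι → F), Function.Injective L ∧ ∀ v, ζ * q (L v) = RF v := by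
    intro J _ _ R RF hR hiso
    obtain ⟨e, he⟩ := hiso
    obtain ⟨M, hM⟩ : ∃ M, M = (LinearMap.toMatrix' e.toLinearMap).map (Subfield.subtype F₀) := ⟨_, rfl⟩
    obtain ⟨N, hN⟩ : ∃ N, N = (LinearMap.toMatrix' e.symm.toLinearMap).map (Subfield.subtype F₀) := ⟨_, rfl⟩
    have hNM : N * M = 1 := by
      rw [hM, hN, ← Matrix.map_mul, ← LinearMap.toMatrix'_comp]
      simp
    refine ⟨Matrix.toLin' ((P : Matrix ι ι F) * M), fun v w h => ?_, fun v => ?_⟩
    · rw [Matrix.toLin'_apply, Matrix.toLin'_apply, ← mulVec_mulVec, ← mulVec_mulVec] at h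
      have h1 := congrArg (N *ᵥ ·) (mulVec_inj P h)
      simpa [mulVec_mulVec, hNM] using h1
    · have hz := quad_eq_zero_of_rational (D := Q'.comp (Matrix.toLin' M) - RF) (F₀ := F₀) fun u => by
        rw [_root_.sub_apply, QuadraticMap.comp_apply, Matrix.toLin'_apply, hR, ← he, hQ₀, sub_eq_zero]
        congr 1
        funext i
        rw [hM]
        have := congrFun (LinearMap.toMatrix'_mulVec e.toLinearMap u) i
        rw [LinearEquiv.coe_coe] at this
        rw [← this]
        exact (RingHom.map_mulVec (Subfield.subtype F₀) _ u i).symm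
      have h := DFunLike.congr_fun hz v
      rw [_root_.sub_apply, _root_.zero_apply, sub_eq_zero, QuadraticMap.comp_apply] at h
      rw [← h, hQv, Matrix.toLin'_apply, Matrix.toLin'_apply, mulVec_mulVec]
  have hfin : ∀ {J : Type} [Fintype J] (L : (J → F) →ₗ[F] (ι → F)), Function.Injective L →
      ∀ (RF : QuadraticForm F (J → F)), (∀ v, ζ * q (L v) = RF v) →
      ∀ {κ : Type} [Fintype κ] (j : (κ → F) →ₗ[F] (J → F)), Function.Injective j → Fintype.card κ = m →
        (∀ a, RF (j a) = 0) → Cfsg.Geo.IsPlusTypeOn ⇑q ⊤ := by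
    intro J _ L hL RF hLR κ _ j hj hκ hz
    refine ⟨LinearMap.range (L ∘ₗ j), le_top, ?_, ?_⟩
    · rintro _ ⟨a, rfl⟩
      exact (mul_eq_zero.1 ((hLR (j a)).trans (hz a))).resolve_left hζ
    · rw [LinearMap.finrank_range_of_inj (by exact hL.comp hj), Module.finrank_pi, hκ, finrank_top,
        Module.finrank_pi, hn]
  obtain ⟨ε, hε, hs⟩ := sg_cases hnd ⟨m, by omega⟩
  rcases hε with rfl | rfl
  · obtain ⟨L, hL, hLR⟩ := lift (qPlus m F₀) (qPlus m F) (fun u => by simp [qPlus])
      ((sg_qPlus m).isom hs (polarNondeg_qPlus m) hnd (by rw [hd₀]; simp; omega))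
    exact hfin L hL _ hLR (κ := Fin m)
      { toFun := fun a => Sum.elim a 0
        map_add' := fun a b => funext fun i => by rcases i with i | i <;> simp
        map_smul' := fun c a => funext fun i => by rcases i with i | i <;> simp }
      (fun a b h => funext fun i => congrFun h (.inl i)) (by simp) fun a => by simp [qPlus]
  obtain ⟨a, b, hab⟩ := exists_binAniso (F := F₀)
  obtain ⟨L, hL, hLR⟩ := lift (qExt (m - 1) (qBin a b)) (qExt (m - 1) (qBin (a : F) (b : F)))
    (fun u => by simp [qExt_apply, qBin_apply])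
    ((sg_qMinus hm hab).isom hs (polarNondeg_qExt (polarNondeg_qBin hab) _) hnd (by rw [hd₀, finrank_qMinus hm]))
  obtain ⟨θ, hθ⟩ : ∃ θ : F, θ ^ 2 + (a : F) * θ + (b : F) = 0 := by
    have : Fact (∀ r : F₀, r ^ 2 ≠ -b + a * r) := ⟨fun r hr => one_ne_zero
      (hab (-r) 1 (by linear_combination hr)).2⟩
    have : Finite (QuadraticAlgebra F₀ (-b) a) := Module.finite_of_finite F₀
    have h2 : Module.finrank F₀ F = 2 := by
      have h := Module.card_eq_pow_finrank (K := F₀) (V := F)
      rw [hcard, ← Nat.card_eq_fintype_card] at h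
      exact (Nat.pow_right_injective Finite.one_lt_card h).symm
    obtain ⟨φ⟩ := FiniteField.nonempty_algHom_of_finrank_dvd (F := F₀) (K := QuadraticAlgebra F₀ (-b) a) (L := F)
      (by rw [QuadraticAlgebra.finrank_eq_two, h2])
    refine ⟨-φ QuadraticAlgebra.omega, ?_⟩
    have h := congrArg φ (show (QuadraticAlgebra.omega : QuadraticAlgebra F₀ (-b) a) * QuadraticAlgebra.omega =
      algebraMap F₀ _ (-b) + algebraMap F₀ _ a * QuadraticAlgebra.omega by ext <;> simp)
    simp only [map_mul, map_add, AlgHom.commutes] at h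
    change _ = ((-b : F₀) : F) + (a : F) * _ at h
    push_cast at h
    linear_combination h
  refine hfin L hL _ hLR (κ := Fin (m - 1) ⊕ Unit)
    { toFun := fun x => Sum.elim (Sum.elim (fun i => x (.inl i)) 0) ![θ * x (.inr ()), x (.inr ())]
      map_add' := fun x y => funext fun i => by
        rcases i with (i | i) | i
        · simp
        · simp
        · fin_cases i <;> simp [mul_add]
      map_smul' := fun c x => funext fun i => by
        rcases i with (i | i) | i
        · simp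
        · simp
        · fin_cases i <;> simp [mul_left_comm] }
    (fun x y h => funext fun i => by
      rcases i with i | i
      · exact congrFun h (.inl (.inl i))
      · exact congrFun h (.inr 1)) (by simp; omega) fun x => by
      simp [qExt_apply, qBin_apply]
      linear_combination (x (.inr ()) * x (.inr ())) * hθ

end CfsgLib.Techniques.AschEven
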