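/-
A normal subgroup acting on one tensor factor of an orthogonal space of small even dimension.
-/
import Cfsg.Agent.Lib.Techniques.AschEven.Toral
import Cfsg.Agent.Lib.Techniques.AschOmega.Tensor
import Cfsg.Agent.Lib.Classical22.Asch.SpTensor
import Cfsg.Agent.Lib.Classical22.OrthTypeUnipotent

set_option autoImplicit false

namespace CfsgLib.Techniques.AschEven

open Matrix Cfsg.Geo CfsgLib.Techniques.AschPrime CfsgLib.Techniques.AschOmega CfsgLib.Classical
open CfsgLib.Classical22.Asch CfsgLib.Classical22.TensorMono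
open CfsgLib.Aschbacher (cj cj_apply InvBy)
open scoped MatrixGroups Kronecker

variable {F : Type*} [Field F] {ι : Type} [Fintype ι] [DecidableEq ι]

/-- An alternating non-degenerate matrix has even size. -/
theorem even_card_of_alt {κ : Type} [Fintype κ] [DecidableEq κ] {G : Matrix κ κ F}
    (hd : G.det ≠ 0) (halt : ∀ v, v ⬝ᵥ (G *ᵥ v) = 0) : Even (Fintype.card κ) := by
  refine CfsgLib.Classical22.OrthType.even_codim (Matrix.toBilin' G)
    (fun v => by rw [Matrix.toBilin'_apply']; exact halt v) ⊥ (fun x => ?_) (k := Fintype.card κ)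
    (by rw [finrank_bot, Module.finrank_pi, add_zero])
  refine ⟨fun h y => by rw [(Submodule.mem_bot F).1 h]; simp, fun h => ?_⟩
  rw [Submodule.mem_bot]
  refine vecMul_injective_of_isUnit ((Matrix.isUnit_iff_isUnit_det G).2 (isUnit_iff_ne_zero.2 hd)) ?_
  show x ᵥ* G = 0 ᵥ* G
  rw [zero_vecMul]
  funext j
  have h1 := h (Pi.single j 1)
  rw [Matrix.toBilin'_apply', dotProduct_mulVec, dotProduct_single, mul_one] at h1
  exact h1

/-- The form with a skew alternating Gram matrix. -/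
theorem formOfGram_alt {κ : Type} [Fintype κ] [DecidableEq κ] {G : Matrix κ κ F}
    (hd : G.det ≠ 0) (hskew : Gᵀ = -G) (halt : ∀ v, v ⬝ᵥ (G *ᵥ v) = 0) :
    IsSymplecticForm (formOfGram (id : F → F) G) := by
  have hs := isSesq_formOfGram (σ := RingEquiv.refl F) G
  refine ⟨⟨hs.add_left, hs.smul_left, hs.add_right, fun c v x => by simpa using hs.smul_right c v x⟩, fun u v => ?_,
    fun v => ?_, formOfGram_nondegenerate (σ := RingEquiv.refl F) hd⟩
  · show formOfGram (RingEquiv.refl F) G u v = -formOfGram (RingEquiv.refl F) G v u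
    rw [formOfGram_apply, formOfGram_apply]
    show u ⬝ᵥ (G *ᵥ v) = -(v ⬝ᵥ (G *ᵥ u))
    rw [dotProduct_mulVec, dotProduct_comm, ← mulVec_transpose, hskew, neg_mulVec, dotProduct_neg]
  · show formOfGram (RingEquiv.refl F) G v v = 0
    rw [formOfGram_apply]
    exact halt v

/-- A semilinear additive function on a space of dimension at least two has a non-zero zero. -/
theorem exists_zero_semilinear [Finite F] (h2 : (2 : F) = 0) {κ : Type} [Fintype κ] [DecidableEq κ]
    (hκ : 2 ≤ Fintype.card κ) {φ : (κ → F) → F} (ha : ∀ u v, φ (u + v) = φ u + φ v)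
    (hs : ∀ (c : F) v, φ (c • v) = c * c * φ v) : ∃ v, v ≠ 0 ∧ φ v = 0 := by
  obtain ⟨i, j, hij⟩ := Fintype.one_lt_card_iff.mp (show 1 < Fintype.card κ by omega)
  by_cases h0 : φ (Pi.single i 1) = 0
  · exact ⟨_, by simp, h0⟩
  have : CharP F 2 := CharTwo.of_one_ne_zero_of_two_eq_zero one_ne_zero h2
  obtain ⟨c, hc⟩ := FiniteField.isSquare_of_char_two (ringChar.eq F 2) (φ (Pi.single j 1) / φ (Pi.single i 1))
  refine ⟨Pi.single j 1 + c • Pi.single i 1, fun h => ?_, ?_⟩
  · have h1 := congrFun h j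
    simp [hij.symm] at h1
  · rw [ha, hs, ← hc, div_mul_cancel₀ _ h0]
    linear_combination φ (Pi.single j 1) * h2

variable [Fintype F] {q : QuadraticForm F (ι → F)} {m : ℕ} {H : Subgroup (GL ι F)}

omit [Fintype F] in
theorem coord_iso (hiso : H ≤ Cfsg.isometryGroup F ⇑q) {κ : Type} [Fintype κ] [DecidableEq κ] (e : ι ≃ κ) (P : GL ι F)
    {h : GL ι F} (hh : h ∈ H) :
    (toCoord e P (h : Matrix ι ι F))ᵀ * fGram e P (QuadraticMap.polar ⇑q) * toCoord e P (h : Matrix ι ι F) =
      fGram e P (QuadraticMap.polar ⇑q) := by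
  have h1 := fGram_similarity (e := e) (P := P) (IsSesq.of_bilinear (polar_bilin q))
    (g := (h : Matrix ι ι F)) (c := 1) fun u v => by rw [one_mul]; exact polar_isometry (hiso hh) u v
  rw [one_smul] at h1
  simpa [Matrix.map_id] using h1

omit [Fintype F] in
theorem tensor_sim (hiso : H ≤ Cfsg.isometryGroup F ⇑q) {a b : ℕ} {e : ι ≃ Fin a × Fin b} {P : GL ι F}
    {G₁ : Matrix (Fin a) (Fin a) F} {G₂ : Matrix (Fin b) (Fin b) F} (h1 : G₁ ≠ 0) (h2 : G₂ ≠ 0)
    (hG : fGram e P (QuadraticMap.polar ⇑q) = G₁ ⊗ₖ G₂) (hle : H ≤ tensorProductSubgroup a b e P)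
    {h : GL ι F} (hh : h ∈ H) :
    ∃ (A : GL (Fin a) F) (B : GL (Fin b) F) (c : F), c ≠ 0 ∧
      toCoord e P (h : Matrix ι ι F) = (A : Matrix (Fin a) (Fin a) F) ⊗ₖ (B : Matrix (Fin b) (Fin b) F) ∧
      (A : Matrix (Fin a) (Fin a) F)ᵀ * G₁ * (A : Matrix (Fin a) (Fin a) F) = c⁻¹ • G₁ ∧
      (B : Matrix (Fin b) (Fin b) F)ᵀ * G₂ * (B : Matrix (Fin b) (Fin b) F) = c • G₂ := by
  obtain ⟨z, ⟨A, B, hz⟩, hgz⟩ := exists_toCoord_of_mem (hle hh)
  have h3 := coord_iso hiso e P hh
  rw [hgz, hz, hG, ← Matrix.kroneckerMap_transpose, ← mul_kronecker_mul, ← mul_kronecker_mul] at h3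
  obtain ⟨c, hc, hA, hB⟩ := kronecker_eq_imp h1 h2 h3
  exact ⟨A, B, c, hc, hgz.trans hz, hA, hB⟩

/-- A symmetric factor of dimension two gives a commutative invariant algebra. -/
theorem two_factor_toral (hQ : PolarNondeg q) (h2 : (2 : F) ≠ 0) (hn : Fintype.card ι = 2 * m) (hm : 3 ≤ m)
    (hirr : Irr H) (hiso : H ≤ Cfsg.isometryGroup F ⇑q) {a : ℕ} (ha : 0 < a)
    {e : ι ≃ Fin a × Fin 2} {P : GL ι F} {G₁ : Matrix (Fin a) (Fin a) F} {G₂ : Matrix (Fin 2) (Fin 2) F}
    (hd1 : G₁.det ≠ 0) (hd2 : G₂.det ≠ 0) (hs2 : G₂ᵀ = G₂)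
    (hG : fGram e P (QuadraticMap.polar ⇑q) = G₁ ⊗ₖ G₂) (hle : H ≤ tensorProductSubgroup a 2 e P) :
    InEvenGeometric q m H := by
  classical
  have : Nonempty (Fin a) := ⟨⟨0, ha⟩⟩
  have hG1 : G₁ ≠ 0 := fun h0 => hd1 (by rw [h0]; exact det_zero)
  have hG2 : G₂ ≠ 0 := fun h0 => hd2 (by rw [h0]; exact det_zero)
  obtain ⟨J, hJ⟩ : ∃ J : Matrix (Fin 2) (Fin 2) F, J = !![(0 : F), 1; -1, 0] := ⟨_, rfl⟩
  obtain ⟨T, hT⟩ : ∃ T, T = G₂⁻¹ * J := ⟨_, rfl⟩
  have hu2 : IsUnit G₂.det := isUnit_iff_ne_zero.mpr hd2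
  have hGT : G₂ * T = J := by rw [hT, ← mul_assoc, mul_nonsing_inv _ hu2, one_mul]
  have hJT : Jᵀ = -J := by
    rw [hJ]; ext i j; fin_cases i <;> fin_cases j <;> simp
  have hTG : Tᵀ * G₂ = -J := by rw [← hJT, ← hGT, transpose_mul, hs2]
  have hAJ : ∀ X : Matrix (Fin 2) (Fin 2) F, Xᵀ * J * X = X.det • J := fun X => by
    rw [hJ, Matrix.det_fin_two]
    ext i j
    fin_cases i <;> fin_cases j <;>
      simp [Matrix.mul_apply, Fin.sum_univ_two, Matrix.transpose_apply] <;> ring
  obtain ⟨x, hx⟩ := exists_of_toCoord e P ((1 : Matrix (Fin a) (Fin a) F) ⊗ₖ T)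
  have hneg : toCoord e P (-x) = (1 : Matrix (Fin a) (Fin a) F) ⊗ₖ (-T) := by
    rw [show toCoord e P (-x) = -toCoord e P x by simp [toCoord, Matrix.submatrix_neg], hx]
    ext i j; simp
  have hpair := adjPair_of_coord (polar_bilin q) (x := x) (x' := -x) (e := e) (P := P) (by
    rw [hx, hneg, hG, ← Matrix.kroneckerMap_transpose, ← mul_kronecker_mul, ← mul_kronecker_mul, transpose_one,
      Matrix.one_mul, Matrix.mul_one, hTG, Matrix.mul_neg, hGT])
  have hadjx : adjM q x = -x := Matrix.ext_of_mulVec_single fun i => sub_eq_zero.1 (hQ _ fun u => by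
    rw [QuadraticMap.polar_comm, QuadraticMap.polar_sub_right, ← polar_adjM hQ, hpair, sub_self])
  have hx0 : x ≠ 0 := fun h0 => by
    have h1 := congrFun (congrFun hx (Classical.arbitrary (Fin a), 0)) (Classical.arbitrary (Fin a), 0)
    have h3 := congrFun (congrFun hx (Classical.arbitrary (Fin a), 1)) (Classical.arbitrary (Fin a), 0)
    simp [h0, toCoord] at h1 h3
    have h4 := congrFun (congrFun hGT 1) 0
    simp [Matrix.mul_apply, ← h1, ← h3, hJ] at h4
  have hxne : adjM q x ≠ x := by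
    intro h
    rw [hadjx, neg_eq_iff_add_eq_zero, ← two_smul F] at h
    exact hx0 ((smul_eq_zero.1 h).resolve_left h2)
  have hconjx : ∀ h ∈ H, ∃ s : F, cj h x = s • x := fun h hh => by
    obtain ⟨A, B, c, hc, hz, -, hB⟩ := tensor_sim hiso hG1 hG2 hG hle hh
    obtain ⟨Bm, hBm⟩ : ∃ Bm, Bm = (B : Matrix (Fin 2) (Fin 2) F) := ⟨_, rfl⟩
    rw [← hBm] at hB hz
    have hdet : Bm.det ≠ 0 := hBm ▸ (Matrix.GeneralLinearGroup.det B).ne_zero
    have hBT : Bm * T = (c / Bm.det) • (T * Bm) := by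
      have e1 : Bmᵀ * G₂ * (Bm * T) = c • J := by rw [← mul_assoc, hB, Matrix.smul_mul, hGT]
      have e2 : Bmᵀ * G₂ * (T * Bm) = Bm.det • J := by
        rw [← mul_assoc, mul_assoc Bmᵀ G₂, hGT, hAJ]
      have hu : IsUnit (Bmᵀ * G₂).det := by
        rw [det_mul, det_transpose]; exact (isUnit_iff_ne_zero.mpr hdet).mul hu2
      have e3 : Bmᵀ * G₂ * (Bm * T) = Bmᵀ * G₂ * ((c / Bm.det) • (T * Bm)) := by
        rw [e1, Matrix.mul_smul, e2, smul_smul, div_mul_cancel₀ _ hdet]
      calc Bm * T = (Bmᵀ * G₂)⁻¹ * (Bmᵀ * G₂ * (Bm * T)) := by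
            rw [← mul_assoc _ _ (Bm * T), nonsing_inv_mul _ hu, one_mul]
        _ = _ := by rw [e3, ← mul_assoc _ _ ((c / Bm.det) • (T * Bm)), nonsing_inv_mul _ hu, one_mul]
    refine ⟨c / Bm.det, ?_⟩
    have key : (h : Matrix ι ι F) * x = (c / Bm.det) • (x * (h : Matrix ι ι F)) := toCoord_injective e P (by
      rw [show toCoord e P ((c / Bm.det) • (x * (h : Matrix ι ι F))) =
        (c / Bm.det) • toCoord e P (x * (h : Matrix ι ι F)) by simp [toCoord, Matrix.submatrix_smul],
        toCoord_mul, toCoord_mul, hx, hz, ← mul_kronecker_mul,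
        ← mul_kronecker_mul, Matrix.mul_one, Matrix.one_mul, hBT, Matrix.kronecker_smul])
    rw [cj_apply, key, Matrix.smul_mul, mul_assoc, Units.mul_inv, mul_one]
  have hmem : x ∈ Algebra.adjoin F ({x} : Set (Matrix ι ι F)) := Algebra.subset_adjoin (Set.mem_singleton x)
  have hinv : InvBy H (Algebra.adjoin F ({x} : Set (Matrix ι ι F))) := fun h hh y hy => by
    refine Algebra.adjoin_induction (p := fun r _ => cj h r ∈ Algebra.adjoin F ({x} : Set (Matrix ι ι F)))
      ?_ ?_ ?_ ?_ hy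
    · intro z hz
      obtain ⟨s, hs⟩ := hconjx h hh
      rw [Set.mem_singleton_iff.1 hz, hs]
      exact Subalgebra.smul_mem _ hmem s
    · intro c
      rw [AlgEquiv.commutes]
      exact Subalgebra.algebraMap_mem _ c
    · intro p r _ _ hp hr
      rw [map_add]
      exact add_mem hp hr
    · intro p r _ _ hp hr
      rw [map_mul]
      exact mul_mem hp hr
  have hadj : ∀ y ∈ Algebra.adjoin F ({x} : Set (Matrix ι ι F)),
      adjM q y ∈ Algebra.adjoin F ({x} : Set (Matrix ι ι F)) := fun y hy => by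
    refine Algebra.adjoin_induction (p := fun r _ => adjM q r ∈ Algebra.adjoin F ({x} : Set (Matrix ι ι F)))
      ?_ ?_ ?_ ?_ hy
    · intro z hz
      rw [Set.mem_singleton_iff.1 hz, hadjx]
      exact neg_mem hmem
    · intro c
      rw [Algebra.algebraMap_eq_smul_one, adjM_smul_one hQ]
      exact Subalgebra.smul_mem _ (one_mem _) c
    · intro p r _ _ hp hr
      rw [adjM_add]
      exact add_mem hp hr
    · intro p r _ _ hp hr
      rw [adjM_mul hQ]
      exact mul_mem hr hp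
  have hcomm : ∀ y ∈ Algebra.adjoin F ({x} : Set (Matrix ι ι F)),
      ∀ z ∈ Algebra.adjoin F ({x} : Set (Matrix ι ι F)), y * z = z * y := fun y hy z hz => by
    exact congrArg Subtype.val ((Algebra.isMulCommutative_adjoin F (s := ({x} : Set (Matrix ι ι F)))
      (by rintro a rfl b rfl; rfl)).is_comm.comm ⟨y, hy⟩ ⟨z, hz⟩)
  rcases toral hQ hn hm hirr hiso hinv hcomm hadj ⟨x, hmem, fun c hc => hxne (by rw [hc, adjM_smul_one hQ])⟩ with h | h
  · exact h
  · exact absurd (h.2.1 x hmem) hxne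

/-- Alternating factors with the quadratic form zero on pure tensors, the smaller first. -/
theorem alt_member (hn : Fintype.card ι = 2 * m) (hm : m ≤ 6) {a b : ℕ}
    {e : ι ≃ Fin a × Fin b} {P : GL ι F} {G₁ : Matrix (Fin a) (Fin a) F} {G₂ : Matrix (Fin b) (Fin b) F}
    (hd1 : G₁.det ≠ 0) (hd2 : G₂.det ≠ 0) (ha : 2 ≤ a) (hb : 2 ≤ b)
    (hs1 : G₁ᵀ = -G₁) (hs2 : G₂ᵀ = -G₂) (hz1 : ∀ v, v ⬝ᵥ (G₁ *ᵥ v) = 0) (hz2 : ∀ v, v ⬝ᵥ (G₂ *ᵥ v) = 0)
    (hG : fGram e P (QuadraticMap.polar ⇑q) = G₁ ⊗ₖ G₂)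
    (hz : ∀ (x : Fin a → F) (y : Fin b → F), q ((P : Matrix ι ι F) *ᵥ ((fun i : Fin a × Fin b => x i.1 * y i.2) ∘ e)) = 0)
    (hle : H ≤ tensorProductSubgroup a b e P) : InEvenGeometric q m H := by
  have hf : IsSesq (RingEquiv.refl F) (QuadraticMap.polar ⇑q) := IsSesq.of_bilinear (polar_bilin q)
  have hG' : fGram e P (QuadraticMap.polar ⇑q) = (1 : F) • (G₁ ⊗ₖ G₂) := by rw [one_smul, hG]
  by_cases ha2 : a = 2
  · subst ha2
    exact .tensorAlt b e P _ _ (formOfGram_alt hd1 hs1 hz1) (formOfGram_alt hd2 hs2 hz2)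
      (isTensorFormStructure hf one_ne_zero hG') hz hle
  have hb2 : b = 2 := by
    obtain ⟨s, hs⟩ := even_card_of_alt hd1 hz1
    obtain ⟨t, ht⟩ := even_card_of_alt hd2 hz2
    simp only [Fintype.card_fin] at hs ht
    have hab : a * b = 2 * m := by rw [← hn]; simpa using (Fintype.card_congr e).symm
    by_contra hne
    have := Nat.mul_le_mul (show 4 ≤ a by omega) (show 4 ≤ b by omega)
    omega
  subst hb2
  refine .tensorAlt a (e.trans (Equiv.prodComm _ _)) P _ _ (formOfGram_alt hd2 hs2 hz2) (formOfGram_alt hd1 hs1 hz1)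
    (isTensorFormStructure hf one_ne_zero (fGram_swap hG')) (fun x y => ?_) (hle.trans (tensorProduct_le_swap e P))
  rw [show (fun i : Fin 2 × Fin a => x i.1 * y i.2) ∘ (e.trans (Equiv.prodComm _ _)) =
    (fun i : Fin a × Fin 2 => y i.1 * x i.2) ∘ e from funext fun i => mul_comm _ _]
  exact hz y x

/-- The tensor members. -/
theorem tensor_member_even (hQ : PolarNondeg q) (hn : Fintype.card ι = 2 * m) (hm : 3 ≤ m) (hm6 : m ≤ 6)
    (hirr : Irr H) (hiso : H ≤ Cfsg.isometryGroup F ⇑q) {N : Subgroup (GL ι F)} (hNH : N ≤ H) {d k : ℕ} (hd : 2 ≤ d)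
    (hk : 2 ≤ k) {e : ι ≃ Fin d × Fin k} {P : GL ι F}
    {ρ : matrixSet N → Matrix (Fin d) (Fin d) F} (hρ : ActsAbsolutelyIrreducibly (Set.range ρ))
    (hP : ∀ x : matrixSet N, toCoord e P (x : Matrix ι ι F) = ρ x ⊗ₖ (1 : Matrix (Fin k) (Fin k) F))
    (hle : H ≤ tensorProductSubgroup d k e P) : InEvenGeometric q m H := by
  classical
  have : Nonempty (Fin d) := ⟨⟨0, by omega⟩⟩
  have : Nonempty (Fin k) := ⟨⟨0, by omega⟩⟩
  have hf : IsSesq (RingEquiv.refl F) (QuadraticMap.polar ⇑q) := IsSesq.of_bilinear (polar_bilin q)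
  have hfix : FixesForm (matrixSet N) (QuadraticMap.polar ⇑q) := by
    rintro _ ⟨x, hx, rfl⟩ u v
    exact polar_isometry (hiso (hNH hx)) u v
  obtain ⟨G₁, G₂, hd1, hd2, hG⟩ := exists_tensor_gram (by omega) (by omega) hf (polar_nondeg hQ) hfix hρ hP
  have hG1 : G₁ ≠ 0 := fun h0 => hd1 (by rw [h0]; exact det_zero)
  have hG2 : G₂ ≠ 0 := fun h0 => hd2 (by rw [h0]; exact det_zero)
  have hsym := fGram_transpose (σ := RingEquiv.refl F) (e := e) (P := P) (f := QuadraticMap.polar ⇑q) (ε := 1)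
    fun u v => by rw [one_mul]; exact QuadraticMap.polar_comm _ _ _
  rw [hG] at hsym
  obtain ⟨l, mu, hlm, ht1, ht2, hll⟩ := split_symmetry hG1 hG2 one_ne_zero (fun _ => rfl) hsym
  simp only [RingEquiv.coe_refl, Matrix.map_id, id_eq] at ht1 ht2 hll
  -- values on pure tensors
  let pv : (Fin d → F) → (Fin k → F) → ι → F :=
    fun x y => (P : Matrix ι ι F) *ᵥ ((fun i : Fin d × Fin k => x i.1 * y i.2) ∘ e)
  have hpol : ∀ x x' y y', QuadraticMap.polar q (pv x y) (pv x' y') =
      (x ⬝ᵥ (G₁ *ᵥ x')) * (y ⬝ᵥ (G₂ *ᵥ y')) := by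
    intro x x' y y'
    simp only [pv]
    rw [coord_formula hf, hG]
    simp only [RingEquiv.coe_refl, Function.id_comp]
    rw [kronecker_mulVec_pure, pure_dotProduct]
  have hpaddl : ∀ x x' y, pv (x + x') y = pv x y + pv x' y := fun x x' y => by
    simp only [pv, ← mulVec_add]
    congr 1
    funext i
    simp [add_mul]
  have hpsmull : ∀ (c : F) x y, pv (c • x) y = c • pv x y := fun c x y => by
    simp only [pv, ← mulVec_smul]
    congr 1
    funext i
    simp [mul_assoc]
  by_cases h2 : (2 : F) = 0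
  · have : CharP F 2 := CharTwo.of_one_ne_zero_of_two_eq_zero one_ne_zero h2
    obtain rfl : l = 1 := by
      rcases mul_self_eq_one_iff.mp hll with h | h
      · exact h
      · rw [h, CharTwo.neg_eq]
    obtain rfl : mu = 1 := by rw [← hlm, one_mul]
    rw [one_smul] at ht1 ht2
    have hρG : ∀ z : matrixSet N, ∃ c : F, (ρ z)ᵀ * G₁ * ρ z = c • G₁ := by
      intro z
      obtain ⟨y, hy, hyz⟩ := z.2
      have h3 := coord_iso hiso e P (hNH hy)
      rw [show (y : Matrix ι ι F) = (z : Matrix ι ι F) from hyz, hP, hG, ← Matrix.kroneckerMap_transpose,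
        ← mul_kronecker_mul, ← mul_kronecker_mul, transpose_one, Matrix.one_mul, Matrix.mul_one] at h3
      obtain ⟨c, -, hA, -⟩ := kronecker_eq_imp hG1 hG2 h3
      exact ⟨c⁻¹, hA⟩
    have hz1 := diag_zero_of_irr h2 (by rw [Fintype.card_fin]; exact hd) ht1 hρ.1 (by rintro _ ⟨z, rfl⟩; exact hρG z)
    -- the second factor
    have hz2 : ∀ y : Fin k → F, y ⬝ᵥ (G₂ *ᵥ y) = 0 := by
      have hswap : ∀ u v : Fin k → F, v ⬝ᵥ (G₂ *ᵥ u) = u ⬝ᵥ (G₂ *ᵥ v) := fun u v => by
        conv_lhs => rw [dotProduct_mulVec, ← mulVec_transpose, ht2, dotProduct_comm]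
      have hadd : ∀ u v : Fin k → F, (u + v) ⬝ᵥ (G₂ *ᵥ (u + v)) = u ⬝ᵥ (G₂ *ᵥ u) + v ⬝ᵥ (G₂ *ᵥ v) := fun u v => by
        simp only [mulVec_add, add_dotProduct, dotProduct_add, hswap u v]
        linear_combination (u ⬝ᵥ (G₂ *ᵥ v)) * h2
      have hsm : ∀ (c : F) (v : Fin k → F), (c • v) ⬝ᵥ (G₂ *ᵥ (c • v)) = c * c * (v ⬝ᵥ (G₂ *ᵥ v)) := fun c v => by
        simp [mulVec_smul, mul_assoc]
      let U : Submodule F (ι → F) :=
        { carrier := {v | ∀ a, (fun b => coordVec e P v (a, b)) ⬝ᵥ (G₂ *ᵥ fun b => coordVec e P v (a, b)) = 0}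
          zero_mem' := fun a => by simp
          add_mem' := fun {u v} hu hv a => by
            rw [show (fun b => coordVec e P (u + v) (a, b)) = (fun b => coordVec e P u (a, b)) +
              fun b => coordVec e P v (a, b) from funext fun b => by simp, hadd, hu a, hv a, add_zero]
          smul_mem' := fun c v hv a => by
            rw [show (fun b => coordVec e P (c • v) (a, b)) = c • fun b => coordVec e P v (a, b) from
              funext fun b => by simp, hsm, hv a, mul_zero] }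
      have hU : U = ⊤ := by
        refine ((irr_iff H).mp hirr U fun h hh v hv a => ?_).resolve_left fun h0 => ?_
        · obtain ⟨A, B, c, -, hz, -, hB⟩ := tensor_sim hiso hG1 hG2 hG hle hh
          have e1 : (fun b => coordVec e P ((h : Matrix ι ι F) *ᵥ v) (a, b)) =
              (B : Matrix (Fin k) (Fin k) F) *ᵥ ∑ a', (A : Matrix (Fin d) (Fin d) F) a a' •
                fun b => coordVec e P v (a', b) := by
            funext b
            rw [coordVec_mulVec, hz]
            simp only [mulVec, dotProduct, Finset.sum_apply, Pi.smul_apply, smul_eq_mul, kronecker_apply,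
              Fintype.sum_prod_type, Finset.mul_sum]
            rw [Finset.sum_comm]
            exact Finset.sum_congr rfl fun i _ => Finset.sum_congr rfl fun j _ => by ring
          obtain ⟨w, hw⟩ : ∃ w, w = ∑ a', (A : Matrix (Fin d) (Fin d) F) a a' •
              fun b => coordVec e P v (a', b) := ⟨_, rfl⟩
          have hw0 : w ⬝ᵥ (G₂ *ᵥ w) = 0 := by
            rw [hw]
            refine Finset.sum_induction _ (fun r : Fin k → F => r ⬝ᵥ (G₂ *ᵥ r) = 0)
              (fun p r hp hr => by rw [hadd, hp, hr, add_zero]) (by simp) fun a' _ => by rw [hsm, hv a', mul_zero]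
          have h5 : w ⬝ᵥ (((B : Matrix (Fin k) (Fin k) F)ᵀ * G₂ * (B : Matrix (Fin k) (Fin k) F)) *ᵥ w) = 0 := by
            rw [hB, smul_mulVec, dotProduct_smul, hw0, smul_zero]
          rw [← mulVec_mulVec, ← mulVec_mulVec, dotProduct_mulVec, vecMul_transpose] at h5
          rw [e1, ← hw]
          exact h5
        · obtain ⟨y, hy0, hy⟩ := exists_zero_semilinear h2 (κ := Fin k) (φ := fun v => v ⬝ᵥ (G₂ *ᵥ v))
            (by rw [Fintype.card_fin]; exact hk) hadd hsm
          obtain ⟨v, hv⟩ := (coordVec_bijective e P).2 fun i => if i.1 = (⟨0, by omega⟩ : Fin d) then y i.2 else 0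
          have hvU : v ∈ U := fun a => by
            by_cases ha : a = (⟨0, by omega⟩ : Fin d)
            · simp only [hv, ha, if_true]; exact hy
            · simp [hv, ha]
          rw [h0, Submodule.mem_bot] at hvU
          apply hy0
          funext b
          have := congrFun hv (⟨0, by omega⟩, b)
          rw [hvU, map_zero] at this
          simpa using this.symm
      intro y
      obtain ⟨v, hv⟩ := (coordVec_bijective e P).2 fun i => if i.1 = (⟨0, by omega⟩ : Fin d) then y i.2 else 0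
      have := (hU.symm ▸ Submodule.mem_top : v ∈ U) ⟨0, by omega⟩
      simpa [hv] using this
    refine alt_member hn hm6 hd1 hd2 hd hk (by rw [ht1]; ext i j; simp [CharTwo.neg_eq])
      (by rw [ht2]; ext i j; simp [CharTwo.neg_eq]) hz1 hz2 hG (fun x y => ?_) hle
    let Z : Submodule F (Fin d → F) :=
      { carrier := {x | q (pv x y) = 0}
        zero_mem' := by
          show q (pv 0 y) = 0
          rw [← zero_smul F (0 : Fin d → F), hpsmull, zero_smul, map_zero]
        add_mem' := fun {u v} (hu : q (pv u y) = 0) (hv : q (pv v y) = 0) => by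
          show q (pv (u + v) y) = 0
          rw [hpaddl, quad_add, hu, hv, hpol, hz2, mul_zero, add_zero, add_zero]
        smul_mem' := fun c v (hv : q (pv v y) = 0) => by
          show q (pv (c • v) y) = 0
          rw [hpsmull, quad_smul, hv, mul_zero] }
    have hZ : Z = ⊤ := by
      refine (hρ.1 Z ?_).resolve_left fun h0 => ?_
      · rintro _ ⟨z, rfl⟩ _ ⟨w, (hw : q (pv w y) = 0), rfl⟩
        obtain ⟨g, hg, hgz⟩ := z.2
        show q (pv (Matrix.toLin' (ρ z) w) y) = 0
        rw [← hw, Matrix.toLin'_apply, ← map_isometry (hiso (hNH hg)) (pv w y)]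
        congr 1
        simp only [pv]
        rw [mulVec_mulVec (v := (fun i : Fin d × Fin k => w i.1 * y i.2) ∘ e),
          show (g : Matrix ι ι F) = (z : Matrix ι ι F) from hgz, toCoord_eq_iff.mp (hP z), ← mulVec_mulVec]
        congr 1
        rw [Matrix.submatrix_mulVec_equiv, Function.comp_assoc, Equiv.self_comp_symm, Function.comp_id,
          kronecker_mulVec_pure, one_mulVec]
      · obtain ⟨x, hx0, hx⟩ := exists_zero_semilinear h2 (κ := Fin d) (by rw [Fintype.card_fin]; exact hd)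
          (φ := fun x => q (pv x y))
          (fun u v => by rw [hpaddl, quad_add, hpol, hz2, mul_zero, add_zero])
          (fun c v => by rw [hpsmull, quad_smul])
        exact hx0 ((Submodule.mem_bot F).1 (h0 ▸ (hx : x ∈ Z)))
    exact (hZ.symm ▸ Submodule.mem_top : x ∈ Z)
  · have hmu : mu = l := by linear_combination l * hlm - mu * hll
    subst hmu
    rcases mul_self_eq_one_iff.mp hll with h | h
    · subst h
      rw [one_smul] at ht1 ht2
      by_cases hk2 : k = 2
      · subst hk2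
        exact two_factor_toral hQ h2 hn hm hirr hiso (by omega) hd1 hd2 ht2 hG hle
      by_cases hd2' : d = 2
      · subst hd2'
        have hsw := fGram_swap (show fGram e P (QuadraticMap.polar ⇑q) = (1 : F) • (G₁ ⊗ₖ G₂) by rw [one_smul, hG])
        rw [one_smul] at hsw
        exact two_factor_toral hQ h2 hn hm hirr hiso (by omega) hd2 hd1 ht1 hsw (hle.trans (tensorProduct_le_swap e P))
      rcases le_total d k with hdk | hdk
      · exact .tensorSym d k e P G₁ G₂ (by omega) hdk h2 hd1 hd2 ht1 ht2 hG hirr hle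
      · refine .tensorSym k d (e.trans (Equiv.prodComm _ _)) P G₂ G₁ (by omega) hdk h2 hd2 hd1 ht2 ht1 ?_ hirr
          (hle.trans (tensorProduct_le_swap e P))
        have hsw := fGram_swap (show fGram e P (QuadraticMap.polar ⇑q) = (1 : F) • (G₁ ⊗ₖ G₂) by rw [one_smul, hG])
        rw [one_smul] at hsw
        exact hsw
    · subst h
      rw [neg_one_smul] at ht1 ht2
      have hzero : ∀ {κ : Type} [Fintype κ] [DecidableEq κ] {G : Matrix κ κ F}, Gᵀ = -G → ∀ v, v ⬝ᵥ (G *ᵥ v) = 0 :=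
        fun {κ} _ _ {G} hG v => sum_mul_alternating hG (fun x => by
          have h1 := congrFun (congrFun hG x) x
          rw [transpose_apply, Matrix.neg_apply] at h1
          exact (mul_eq_zero.1 (show (2 : F) * G x x = 0 by linear_combination h1)).resolve_left h2) v
      refine alt_member hn hm6 hd1 hd2 hd hk ht1 ht2 (hzero ht1) (hzero ht2) hG (fun x y => ?_) hle
      have h3 := hpol x x y y
      rw [hzero ht1, zero_mul, quad_polar_self] at h3
      exact (mul_eq_zero.1 h3).resolve_left h2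

end CfsgLib.Techniques.AschEven
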