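/-
Subgroups of an orthogonal group in dimensions 8, 10, 12: geometric positions or the residual class.
-/
import Cfsg.Agent.Lib.Techniques.AschEven.HalfField
import Cfsg.Agent.Lib.Techniques.AschEven.Rational
import Cfsg.Agent.Lib.Techniques.AschEven.Tensor
import Cfsg.Agent.Lib.Aschbacher.SympType
import Cfsg.Agent.Lib.Aschbacher.Simple
import Cfsg.Agent.Lib.Classical22.Asch.Components

set_option autoImplicit false

namespace CfsgLib.Techniques.AschEven

open Matrix Module CfsgLib.Techniques.AschPrime CfsgLib.Techniques.AschOmega CfsgLib.Classical CfsgLib.Classical22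
open CfsgLib.Classical22.Asch CfsgLib.Classical22.TensorMono
open CfsgLib.Classical22.OrthType (Sg Isom sg_unique)
open CfsgLib.Aschbacher (cj cj_apply cj_self_inv InvBy IdemSystem centre mem_centre centre_comm invBy_centre kl Full)
open scoped MatrixGroups Kronecker commutatorElement

universe u

variable {F : Type u} [Field F] [Fintype F] {ι : Type} [Fintype ι] [DecidableEq ι] {q : QuadraticForm F (ι → F)}

/-- An involution and an element negating it force plus type in dimension eight. -/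
theorem plus_of_anticommuting (hQ : PolarNondeg q) (h2 : (2 : F) ≠ 0) (h8 : Fintype.card ι = 8) {a b : GL ι F}
    (ha : a ∈ Cfsg.isometryGroup F ⇑q) (hb : b ∈ Cfsg.isometryGroup F ⇑q)
    (haa : (a : Matrix ι ι F) * (a : Matrix ι ι F) = 1)
    (hab : (b : Matrix ι ι F) * (a : Matrix ι ι F) = -((a : Matrix ι ι F) * (b : Matrix ι ι F))) :
    Cfsg.Geo.IsPlusTypeOn ⇑q ⊤ := by
  classical
  let E : F → Submodule F (ι → F) := fun s =>
    LinearMap.ker (Matrix.toLin' ((a : Matrix ι ι F) - s • (1 : Matrix ι ι F)))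
  have hE : ∀ s v, v ∈ E s ↔ (a : Matrix ι ι F) *ᵥ v = s • v := fun s v => by
    simp [E, sub_mulVec, Matrix.smul_mulVec, sub_eq_zero]
  have horth : ∀ x ∈ E 1, ∀ y ∈ E (-1), QuadraticMap.polar q x y = 0 := by
    intro x hx y hy
    have h := polar_isometry ha x y
    rw [(hE _ _).1 hx, (hE _ _).1 hy, QuadraticMap.polar_smul_left, QuadraticMap.polar_smul_right, smul_eq_mul,
      smul_eq_mul, one_mul] at h
    exact (mul_eq_zero.1 (show (2 : F) * QuadraticMap.polar q x y = 0 by linear_combination -h)).resolve_left h2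
  have hsup : E 1 ⊔ E (-1) = ⊤ := by
    rw [eq_top_iff]
    intro v _
    have hv : v = (2 : F)⁻¹ • (v + (a : Matrix ι ι F) *ᵥ v) + (2 : F)⁻¹ • (v - (a : Matrix ι ι F) *ᵥ v) := by
      rw [← smul_add, add_add_sub_cancel, ← two_smul F, smul_smul, inv_mul_cancel₀ h2, one_smul]
    rw [hv]
    refine Submodule.add_mem_sup ((hE _ _).2 ?_) ((hE _ _).2 ?_)
    · rw [mulVec_smul, mulVec_add, mulVec_mulVec, haa, one_mulVec, one_smul, add_comm]
    · rw [mulVec_smul, mulVec_sub, mulVec_mulVec, haa, one_mulVec, smul_comm, neg_one_smul, neg_sub]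
  have hnd : ∀ s, s = 1 ∨ s = -1 → NdOn q (E s) := by
    intro s hs w hw h
    refine hQ w fun y => ?_
    obtain ⟨y₁, hy₁, y₂, hy₂, rfl⟩ := Submodule.mem_sup.1 (hsup ▸ Submodule.mem_top : y ∈ E 1 ⊔ E (-1))
    rw [QuadraticMap.polar_add_right]
    rcases hs with rfl | rfl
    · rw [h y₁ hy₁, horth w hw y₂ hy₂, add_zero]
    · rw [h y₂ hy₂, QuadraticMap.polar_comm, horth y₁ hy₁ w hw, add_zero]
  have hmove : ∀ s, ∀ v ∈ E s, (b : Matrix ι ι F) *ᵥ v ∈ E (-s) := by
    intro s v hv
    rw [hE, mulVec_mulVec, show (a : Matrix ι ι F) * (b : Matrix ι ι F) = -((b : Matrix ι ι F) * (a : Matrix ι ι F)) by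
      rw [hab, neg_neg], neg_mulVec, ← mulVec_mulVec, (hE _ _).1 hv, mulVec_smul, neg_smul]
  let L : E 1 →ₗ[F] E (-1) :=
    { toFun := fun v => ⟨(b : Matrix ι ι F) *ᵥ v.1, hmove 1 v.1 v.2⟩
      map_add' := fun x y => Subtype.ext (mulVec_add _ _ _)
      map_smul' := fun c x => Subtype.ext (mulVec_smul _ _ _) }
  have hL : Function.Bijective L := by
    refine ⟨fun x y h => Subtype.ext (mulVec_inj b (congrArg Subtype.val h)), fun y => ?_⟩
    refine ⟨⟨((b⁻¹ : GL ι F) : Matrix ι ι F) *ᵥ y.1, (hE _ _).2 (mulVec_inj b ?_)⟩, Subtype.ext ?_⟩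
    · rw [mulVec_smul, mulVec_mulVec, hab, neg_mulVec, ← mulVec_mulVec, mulVec_mulVec _ (b : Matrix ι ι F),
        Units.mul_inv, one_mulVec, (hE _ _).1 y.2, neg_one_smul, neg_neg, one_smul]
    · change (b : Matrix ι ι F) *ᵥ (((b⁻¹ : GL ι F) : Matrix ι ι F) *ᵥ y.1) = y.1
      rw [mulVec_mulVec, Units.mul_inv, one_mulVec]
  have hisom : Cfsg.Geo.AreIsometricFor ⇑q (E 1) (E (-1)) :=
    ⟨LinearEquiv.ofBijective L hL, fun w => map_isometry hb w.1⟩
  obtain ⟨-, hd, -⟩ := sup_orth (hnd 1 (Or.inl rfl)) (hnd (-1) (Or.inr rfl)) horth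
  rw [hsup, finrank_top, finrank_fun, h8] at hd
  have he := (LinearEquiv.ofBijective L hL).finrank_eq
  obtain ⟨ε, hε, hs⟩ := sgOn_cases (hnd 1 (Or.inl rfl)) ⟨2, by omega⟩
  have h := SgOn.sup (hnd 1 (Or.inl rfl)) (hnd (-1) (Or.inr rfl)) horth hs (hs.of_isometric hisom)
  rw [hsup, show ε * ε = 1 by rcases hε with rfl | rfl <;> norm_num] at h
  exact (plusTypeOn_iff (ndOn_top hQ) (by rw [finrank_top, finrank_fun, h8]; decide)).2 h

/-- A group of symplectic type in dimension eight inside the isometry group forces plus type. -/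
theorem plus_of_sympData [Nonempty ι] (hQ : PolarNondeg q) {H N : Subgroup (GL ι F)}
    (hiso : H ≤ Cfsg.isometryGroup F ⇑q) (hN : CfsgLib.Aschbacher.MinNS H N) (hcomm : ⁅N, N⁆ ≤ Cfsg.Geo.scalars ι F)
    {k z : ℕ} (hd : CfsgLib.Aschbacher.SympData N 2 k z) (h8 : Fintype.card ι = 8) :
    Cfsg.Geo.IsPlusTypeOn ⇑q ⊤ := by
  classical
  have h2 : (2 : F) ≠ 0 := by exact_mod_cast hd.cast_ne
  have hNiso := hN.norm.le.trans hiso
  have hsc : ∀ x ∈ N, x ∈ Cfsg.Geo.scalars ι F → (x : Matrix ι ι F) = 1 ∨ (x : Matrix ι ι F) = -1 := by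
    intro x hx hxs
    obtain ⟨c, hc⟩ := (Cfsg.Geo.mem_scalars_iff x).1 hxs
    have h := polarMat_isometry q (hNiso hx)
    rw [hc, transpose_smul, transpose_one, Matrix.smul_mul, one_mul, Matrix.mul_smul, mul_one, smul_smul] at h
    have hc2 : (c : F) * c = 1 := smul_left_injective F (fun h0 => polarMat_det hQ (by rw [h0]; exact det_zero))
      (h.trans (one_smul F _).symm)
    rcases mul_self_eq_one_iff.1 hc2 with h1 | h1
    · exact Or.inl (by rw [hc, h1, one_smul])
    · exact Or.inr (by rw [hc, h1, neg_one_smul])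
  -- squares are scalar
  have hsq : ∀ x ∈ N, x * x ∈ Cfsg.Geo.scalars ι F := by
    have hc : ∀ {x y : GL ι F}, x ∈ N → y ∈ N → ⁅x, y⁆ ∈ Cfsg.Geo.scalars ι F := fun hx hy =>
      hcomm (Subgroup.commutator_mem_commutator hx hy)
    let M : Subgroup (GL ι F) :=
      { carrier := {x | x ∈ N ∧ x * x ∈ Cfsg.Geo.scalars ι F}
        mul_mem' := fun {a b} ha hb => ⟨N.mul_mem ha.1 hb.1, by
          have e : a * b * (a * b) = a * a * ⁅a⁻¹, b⁆ * (b * b) := by simp [commutatorElement_def, mul_assoc]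
          rw [e]
          exact mul_mem (mul_mem ha.2 (hc (N.inv_mem ha.1) hb.1)) hb.2⟩
        one_mem' := ⟨N.one_mem, by rw [one_mul]; exact one_mem _⟩
        inv_mem' := fun {a} ha => ⟨N.inv_mem ha.1, by rw [← _root_.mul_inv_rev]; exact inv_mem ha.2⟩ }
    rcases hN.minimal M (fun x hx => hx.1) (fun h hh x hx => ⟨hN.norm.conj h hh x hx.1, by
      rw [show h * x * h⁻¹ * (h * x * h⁻¹) = h * (x * x) * h⁻¹ by simp [mul_assoc]]
      exact Subgroup.Normal.conj_mem inferInstance _ hx.2 h⟩) with h | h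
    · exfalso
      obtain ⟨x, hx, hxs⟩ := SetLike.not_le_iff_exists.1 hN.nonscalar
      have h4 : x ^ 4 = 1 := by
        have e := Monoid.pow_exponent_eq_one (⟨x, hx⟩ : N)
        rw [hd.symp.exponent_eq] at e
        exact congrArg Subtype.val e
      have h5 : x * x ∈ M := ⟨N.mul_mem hx hx, by
        rw [show x * x * (x * x) = x ^ 4 by simp [pow_succ, mul_assoc], h4]
        exact one_mem _⟩
      exact hxs (h ⟨hx, h h5⟩)
    · exact fun x hx => (h.symm ▸ hx : x ∈ M).2
  have hanti : ∀ {x y : GL ι F}, x ∈ N → y ∈ N → (x : Matrix ι ι F) * (y : Matrix ι ι F) =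
      (y : Matrix ι ι F) * (x : Matrix ι ι F) ∨
      (x : Matrix ι ι F) * (y : Matrix ι ι F) = -((y : Matrix ι ι F) * (x : Matrix ι ι F)) := by
    intro x y hx hy
    have he : (x : Matrix ι ι F) * (y : Matrix ι ι F) =
        ((⁅x, y⁆ : GL ι F) : Matrix ι ι F) * ((y : Matrix ι ι F) * (x : Matrix ι ι F)) := by
      simp [commutatorElement_def, mul_assoc]
    rcases hsc _ (hN.norm.commutator_self_le (Subgroup.commutator_mem_commutator hx hy))
      (hcomm (Subgroup.commutator_mem_commutator hx hy)) with h | h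
    · exact Or.inl (by rw [he, h, one_mul])
    · exact Or.inr (by rw [he, h, neg_one_mul])
  have hnc : ∀ x ∈ N, x ∉ Cfsg.Geo.scalars ι F → ∃ y ∈ N,
      (y : Matrix ι ι F) * (x : Matrix ι ι F) = -((x : Matrix ι ι F) * (y : Matrix ι ι F)) := by
    intro x hx hxs
    by_contra hno
    push Not at hno
    exact hxs (CfsgLib.Aschbacher.mem_scalars_of_commute hd.full fun y hy =>
      Units.ext ((hanti hy hx).resolve_right (hno y hy)).symm)
  obtain ⟨x, hx, hxs⟩ := SetLike.not_le_iff_exists.1 hN.nonscalar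
  -- an involution
  obtain ⟨a, ha, has, haa⟩ : ∃ a ∈ N, a ∉ Cfsg.Geo.scalars ι F ∧ (a : Matrix ι ι F) * (a : Matrix ι ι F) = 1 := by
    by_contra hno
    push Not at hno
    have hm1 : ∀ y ∈ N, y ∉ Cfsg.Geo.scalars ι F → (y : Matrix ι ι F) * (y : Matrix ι ι F) = -1 := fun y hy hys =>
      (hsc _ (N.mul_mem hy hy) (hsq y hy)).resolve_left fun h => hno y hy hys (by simpa using h)
    have hxx := hm1 x hx hxs
    have hset : ∀ y ∈ N, (y : Matrix ι ι F) * (x : Matrix ι ι F) = (x : Matrix ι ι F) * (y : Matrix ι ι F) →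
        (y : Matrix ι ι F) ∈ ({1, -1, (x : Matrix ι ι F), -(x : Matrix ι ι F)} : Finset (Matrix ι ι F)) := by
      intro y hy hyx
      simp only [Finset.mem_insert, Finset.mem_singleton]
      by_cases hys : y ∈ Cfsg.Geo.scalars ι F
      · rcases hsc y hy hys with h | h
        · exact Or.inl h
        · exact Or.inr (Or.inl h)
      obtain ⟨p, hp⟩ : ∃ p, p = (y : Matrix ι ι F) * (x : Matrix ι ι F) := ⟨_, rfl⟩
      have hpp : p * p = 1 := by
        rw [hp, mul_assoc, ← mul_assoc (x : Matrix ι ι F), ← hyx, mul_assoc, hxx, ← mul_assoc,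
          hm1 y hy hys]
        simp
      have hps : y * x ∈ Cfsg.Geo.scalars ι F := by
        by_contra h
        exact hno _ (N.mul_mem hy hx) h (by rw [Units.val_mul, ← hp, hpp])
      have hyp : (y : Matrix ι ι F) = -(p * (x : Matrix ι ι F)) := by
        rw [hp, mul_assoc, hxx, mul_neg, mul_one, neg_neg]
      rcases hsc _ (N.mul_mem hy hx) hps with h | h <;> rw [Units.val_mul, ← hp] at h
      · exact Or.inr (Or.inr (Or.inr (by rw [hyp, h, one_mul])))
      · exact Or.inr (Or.inr (Or.inl (by rw [hyp, h, neg_one_mul, neg_neg])))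
    obtain ⟨y₁, hy₁, hy₁x⟩ := hnc x hx hxs
    obtain ⟨S, hS⟩ : ∃ S : Finset (Matrix ι ι F), S = {1, -1, (x : Matrix ι ι F), -(x : Matrix ι ι F)} := ⟨_, rfl⟩
    obtain ⟨T, hT⟩ : ∃ T : Finset (Matrix ι ι F),
        T = S ∪ S.image fun s => (y₁ : Matrix ι ι F) * s := ⟨_, rfl⟩
    have hsub : ∀ y ∈ N, (y : Matrix ι ι F) ∈ T := by
      intro y hy
      rw [hT, Finset.mem_union]
      rcases hanti hy hx with h | h
      · exact Or.inl (hS ▸ hset y hy h)
      · refine Or.inr (Finset.mem_image.2 ⟨((y₁⁻¹ * y : GL ι F) : Matrix ι ι F),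
          hS ▸ hset _ (N.mul_mem (N.inv_mem hy₁) hy) ?_, by simp⟩)
        have e1 : ((y₁⁻¹ : GL ι F) : Matrix ι ι F) * (x : Matrix ι ι F) =
            -((x : Matrix ι ι F) * ((y₁⁻¹ : GL ι F) : Matrix ι ι F)) := by
          have e := congrArg
            (fun X => ((y₁⁻¹ : GL ι F) : Matrix ι ι F) * X * ((y₁⁻¹ : GL ι F) : Matrix ι ι F)) hy₁x
          simp [mul_assoc] at e
          simp [e]
        rw [Units.val_mul, mul_assoc, h, mul_neg, ← mul_assoc, e1, neg_mul, neg_neg, mul_assoc]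
    have hle : Nat.card N ≤ T.card := by
      rw [← Nat.card_eq_finsetCard]
      exact Nat.card_le_card_of_injective (fun y : N => (⟨_, hsub y y.2⟩ : T))
        fun y z h => Subtype.ext (Units.ext (congrArg Subtype.val h))
    have h1 : T.card ≤ 8 := by
      rw [hT]
      refine (Finset.card_union_le _ _).trans ?_
      have h3 : S.card ≤ 4 := hS ▸ Finset.card_le_four
      have := Finset.card_image_le (s := S) (f := fun s => (y₁ : Matrix ι ι F) * s)
      omega
    have hk : k = 3 := Nat.pow_right_injective le_rfl (show 2 ^ k = 2 ^ 3 by rw [← hd.dim, h8])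
    have hz : 1 ≤ z := by
      rw [← hd.card_center]
      have : Finite N := inferInstance
      exact Nat.card_pos
    rw [hd.card, hk] at hle
    have : 64 ≤ z * 2 ^ (2 * 3) := Nat.le_mul_of_pos_left _ hz
    omega
  obtain ⟨b, hb, hba⟩ := hnc a ha has
  exact plus_of_anticommuting hQ h2 h8 (hNiso ha) (hNiso hb) haa hba

/-- Three perfect two-dimensional tensor factors force plus type. -/
theorem plus_of_three_factors (hQ : PolarNondeg q) {H : Subgroup (GL ι F)} {L : Fin (2 + 1) → Subgroup (GL ι F)}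
    (hperf : ∀ i, ⁅L i, L i⁆ = L i) (hLiso : ∀ i, L i ≤ Cfsg.isometryGroup F ⇑q)
    {e : ι ≃ (Fin (2 + 1) → Fin 2)} {P : GL ι F}
    {ρ : ∀ i, Cfsg.Geo.matrixSet (L i) → Matrix (Fin 2) (Fin 2) F} (hW : WreathData H L 2 e P ρ) :
    Cfsg.Geo.IsPlusTypeOn ⇑q ⊤ := by
  classical
  have : Nonempty (Fin (2 + 1) → Fin 2) := ⟨fun _ => 0⟩
  have : Nonempty ι := e.nonempty
  have hf : IsSesq (RingEquiv.refl F) (QuadraticMap.polar ⇑q) := IsSesq.of_bilinear (polar_bilin q)
  have hfix : ∀ i, Cfsg.Geo.FixesForm (Cfsg.Geo.matrixSet (L i)) (QuadraticMap.polar ⇑q) := by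
    rintro i _ ⟨x, hx, rfl⟩ u v
    exact polar_isometry (hLiso i hx) u v
  obtain ⟨c, G, hc, hG⟩ := exists_pure_gram hf (polar_nondeg hQ) hfix hW.absIrr hW.coord
  have hinj : ∀ i, Function.Injective fun X : Matrix (Fin 2) (Fin 2) F => inj (ι := Fin (2 + 1)) i X := by
    intro i X Y h
    ext a b
    have h1 := congrFun (congrFun h (Function.const _ a)) (Function.update (Function.const _ a) i b)
    simp only [inj_apply, wr_update_apply, Equiv.Perm.one_apply, Function.update_self] at h1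
    simp only [Function.const_apply] at h1
    refine mul_right_cancel₀ ?_ h1
    refine Finset.prod_ne_zero_iff.2 fun j hj => ?_
    show (1 : Matrix (Fin 2) (Fin 2) F) a (Function.update (Function.const (Fin (2 + 1)) a) i b j) ≠ 0
    have h2 : Function.update (Function.const (Fin (2 + 1)) a) i b j = a := Function.update_of_ne (Finset.ne_of_mem_erase hj) _ _
    exact h2.symm ▸ (by rw [Matrix.one_apply_eq]; exact one_ne_zero)
  have hmul : ∀ i (x y : L i), ρ i ⟨_, (x * y : L i), (x * y).2, rfl⟩ = ρ i ⟨_, x, x.2, rfl⟩ * ρ i ⟨_, y, y.2, rfl⟩ := by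
    intro i x y
    refine hinj i ?_
    simp only
    have h := hW.coord i ⟨_, (x * y : L i), (x * y).2, rfl⟩
    rw [← h]
    show toCoord e P (((x : GL ι F) * (y : GL ι F) : GL ι F) : Matrix ι ι F) = _
    rw [Units.val_mul, toCoord_mul, hW.coord i ⟨_, x, x.2, rfl⟩,
      hW.coord i ⟨_, y, y.2, rfl⟩, inj_apply, inj_apply, inj_apply, wr_one_mul]
    congr 1
    funext j
    by_cases hj : j = i
    · subst hj; simp
    · simp [Function.update_of_ne hj]
  have hone : ∀ i, ρ i ⟨_, (1 : L i), (1 : L i).2, rfl⟩ = 1 := by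
    intro i
    refine hinj i ?_
    simp only
    rw [← hW.coord, inj_one]
    simp [toCoord]
  have hdet : ∀ i (x : Cfsg.Geo.matrixSet (L i)), (ρ i x).det = 1 := by
    intro i
    let f : L i →* F :=
      { toFun := fun x => (ρ i ⟨_, x, x.2, rfl⟩).det
        map_one' := by simp only; rw [hone, det_one]
        map_mul' := fun x y => by simp only; rw [hmul, det_mul] }
    have hle : ⁅L i, L i⁆ ≤ f.toHomUnits.ker.map (L i).subtype := Subgroup.commutator_le.2 fun a ha b hb =>
      ⟨⁅(⟨a, ha⟩ : L i), ⟨b, hb⟩⁆, MonoidHom.mem_ker.2 (by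
        rw [map_commutatorElement]; exact commutatorElement_eq_one_iff_mul_comm.2 (mul_comm _ _)), rfl⟩
    rw [hperf] at hle
    rintro ⟨_, x, hx, rfl⟩
    obtain ⟨y, hy, rfl⟩ := hle hx
    exact congrArg Units.val (MonoidHom.mem_ker.1 hy)
  -- every factor form is alternating
  obtain ⟨u, v, huv⟩ : ∃ u v : Fin (2 + 1) → Fin 2, ∀ i, (G i : Matrix (Fin 2) (Fin 2) F) (u i) (v i) ≠ 0 := by
    have : ∀ i, ∃ a b, (G i : Matrix (Fin 2) (Fin 2) F) a b ≠ 0 := fun i => by
      by_contra hno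
      push Not at hno
      exact (G i).ne_zero (Matrix.ext hno)
    choose u v huv using this
    exact ⟨u, v, huv⟩
  have hrel : ∀ i (x : Cfsg.Geo.matrixSet (L i)),
      (ρ i x)ᵀ * (G i : Matrix (Fin 2) (Fin 2) F) * ρ i x = (G i : Matrix (Fin 2) (Fin 2) F) := by
    intro i x
    have h := fGram_similarity (e := e) (P := P) hf (g := (x : Matrix ι ι F)) (c := 1)
      fun a b => by rw [one_mul]; exact hfix i _ x.2 a b
    rw [one_smul, hW.coord, hG, show (inj (ι := Fin (2 + 1)) i (ρ i x)).map (RingEquiv.refl F) = inj i (ρ i x) from rfl,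
      inj_apply, wr_transpose, Matrix.mul_smul, Matrix.smul_mul] at h
    have h' := smul_right_injective (Matrix (Fin (2 + 1) → Fin 2) (Fin (2 + 1) → Fin 2) F) hc h
    rw [show (1 : Equiv.Perm (Fin (2 + 1))).symm = 1 from rfl, wr_one_mul, wr_one_mul] at h'
    ext a b
    have h1 := congrFun (congrFun h' (Function.update u i a)) (Function.update v i b)
    simp only [wr_apply, Equiv.Perm.one_apply] at h1
    rw [← Finset.mul_prod_erase _ _ (Finset.mem_univ i), ← Finset.mul_prod_erase _ _ (Finset.mem_univ i),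
      Finset.prod_congr rfl (g := fun j => (G j : Matrix (Fin 2) (Fin 2) F) (u j) (v j)) (fun j hj => by
        rw [Function.update_of_ne (Finset.ne_of_mem_erase hj), Function.update_of_ne (Finset.ne_of_mem_erase hj),
          Function.update_of_ne (Finset.ne_of_mem_erase hj)]; simp),
      Finset.prod_congr rfl (f := fun j => (G j : Matrix (Fin 2) (Fin 2) F) (Function.update u i a j)
          (Function.update v i b j)) (g := fun j => (G j : Matrix (Fin 2) (Fin 2) F) (u j) (v j)) (fun j hj => by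
        rw [Function.update_of_ne (Finset.ne_of_mem_erase hj), Function.update_of_ne (Finset.ne_of_mem_erase hj)]),
      Function.update_self, Function.update_self, Function.update_self] at h1
    exact mul_right_cancel₀ (Finset.prod_ne_zero_iff.2 fun j _ => huv j) h1
  obtain ⟨J, hJ⟩ : ∃ J : Matrix (Fin 2) (Fin 2) F, J = !![(0 : F), 1; -1, 0] := ⟨_, rfl⟩
  have hJJ : J * J = -1 := by
    rw [hJ]; ext a b; fin_cases a <;> fin_cases b <;> simp [Matrix.mul_apply, Fin.sum_univ_two]
  have hXJ : ∀ X : Matrix (Fin 2) (Fin 2) F, X * J * Xᵀ = X.det • J := fun X => by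
    rw [hJ, Matrix.det_fin_two]
    ext a b
    fin_cases a <;> fin_cases b <;> simp [Matrix.mul_apply, Fin.sum_univ_two, Matrix.transpose_apply] <;> ring
  have hdiag : ∀ i a, (G i : Matrix (Fin 2) (Fin 2) F) a a = 0 := by
    intro i
    obtain ⟨s, hs⟩ := (hW.absIrr i).2 (J * (G i : Matrix (Fin 2) (Fin 2) F)) (by
      rintro _ ⟨x, rfl⟩
      calc J * (G i : Matrix (Fin 2) (Fin 2) F) * ρ i x
          = (ρ i x * J * (ρ i x)ᵀ) * (G i : Matrix (Fin 2) (Fin 2) F) * ρ i x := by rw [hXJ, hdet, one_smul]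
        _ = ρ i x * J * ((ρ i x)ᵀ * (G i : Matrix (Fin 2) (Fin 2) F) * ρ i x) := by simp only [mul_assoc]
        _ = ρ i x * (J * (G i : Matrix (Fin 2) (Fin 2) F)) := by rw [hrel, mul_assoc])
    have h := congrArg (fun X => -(J * X)) hs
    simp only [← mul_assoc, hJJ, neg_mul, one_mul, neg_neg, Matrix.mul_smul, mul_one] at h
    intro a
    rw [h, hJ]
    fin_cases a <;> simp
  -- the subspace
  have hdot : ∀ (v w : (Fin (2 + 1) → Fin 2) → F), (∀ y z, v y ≠ 0 → w z ≠ 0 → ∃ i, y i = z i) →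
      QuadraticMap.polar q ((P : Matrix ι ι F) *ᵥ (v ∘ e)) ((P : Matrix ι ι F) *ᵥ (w ∘ e)) = 0 := by
    intro v w h
    rw [coord_formula hf, hG]
    simp only [RingEquiv.coe_refl, Function.id_comp, smul_mulVec, dotProduct_smul]
    rw [smul_eq_mul, mul_eq_zero]
    right
    simp only [dotProduct, mulVec, Finset.mul_sum]
    refine Finset.sum_eq_zero fun y _ => Finset.sum_eq_zero fun z _ => ?_
    by_cases hy : v y = 0
    · rw [hy, zero_mul]
    by_cases hz : w z = 0
    · rw [hz, mul_zero, mul_zero]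
    obtain ⟨i, hi⟩ := h y z hy hz
    rw [wr_apply, Finset.prod_eq_zero (Finset.mem_univ i) (by rw [Equiv.Perm.one_apply, hi, hdiag]), zero_mul,
      mul_zero]
  let W : (Fin 2 → Fin 2) → (Fin 2 → F) → ι → F := fun β a => (P : Matrix ι ι F) *ᵥ
    ((fun z : Fin (2 + 1) → Fin 2 => if Fin.tail z = β then a (z 0) else 0) ∘ e)
  have hWadd : ∀ β a b, W β (a + b) = W β a + W β b := fun β a b => by
    simp only [W, ← mulVec_add]
    congr 1
    funext i
    by_cases h : Fin.tail (e i) = β <;> simp [h]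
  have hWsmul : ∀ β (s : F) a, W β (s • a) = s • W β a := fun β s a => by
    simp only [W, ← mulVec_smul]
    congr 1
    funext i
    by_cases h : Fin.tail (e i) = β <;> simp [h]
  have hWpol : ∀ β a b, QuadraticMap.polar q (W β a) (W β b) = 0 := fun β a b => by
    refine hdot _ _ fun y z hy hz => ⟨Fin.succ 0, ?_⟩
    have h1 : Fin.tail y = β := by by_contra h; exact hy (if_neg h)
    have h2 : Fin.tail z = β := by by_contra h; exact hz (if_neg h)
    exact congrFun (h1.trans h2.symm) 0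
  have hWzero : ∀ β a, q (W β a) = 0 := by
    intro β a
    by_cases h2 : (2 : F) = 0
    swap
    · have h := hWpol β a a
      rw [quad_polar_self] at h
      exact (mul_eq_zero.1 h).resolve_left h2
    let Z : Submodule F (Fin 2 → F) :=
      { carrier := {a | q (W β a) = 0}
        zero_mem' := by
          show q (W β 0) = 0
          rw [← zero_smul F (0 : Fin 2 → F), hWsmul, zero_smul, map_zero]
        add_mem' := fun {a b} (ha : q (W β a) = 0) (hb : q (W β b) = 0) => by
          show q (W β (a + b)) = 0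
          rw [hWadd, quad_add, ha, hb, hWpol, add_zero, add_zero]
        smul_mem' := fun s a (ha : q (W β a) = 0) => by
          show q (W β (s • a)) = 0
          rw [hWsmul, quad_smul, ha, mul_zero] }
    suffices hZ : Z = ⊤ by exact (hZ.symm ▸ Submodule.mem_top : a ∈ Z)
    refine ((hW.absIrr 0).1 Z ?_).resolve_left fun h0 => ?_
    · rintro _ ⟨x, rfl⟩ _ ⟨w, (hw : q (W β w) = 0), rfl⟩
      obtain ⟨g, hg, hgx⟩ := x.2
      show q (W β (Matrix.toLin' (ρ 0 x) w)) = 0
      rw [← hw, Matrix.toLin'_apply, ← map_isometry (hLiso 0 hg) (W β w)]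
      congr 1
      simp only [W]
      rw [mulVec_mulVec (v := (fun z : Fin (2 + 1) → Fin 2 => if Fin.tail z = β then w (z 0) else 0) ∘ e),
        show (g : Matrix ι ι F) = (x : Matrix ι ι F) from hgx, toCoord_eq_iff.mp (hW.coord 0 x), ← mulVec_mulVec]
      congr 1
      rw [Matrix.submatrix_mulVec_equiv, Function.comp_assoc, Equiv.self_comp_symm, Function.comp_id]
      refine congrArg (· ∘ e) (funext fun z => ?_)
      rw [inj_zero_eq, Matrix.submatrix_mulVec_equiv, Function.comp_apply]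
      simp only [Fin.consEquiv, Equiv.coe_fn_symm_mk, Equiv.symm_symm, Function.comp_def, mulVec, dotProduct,
        Fintype.sum_prod_type, kronecker_apply, Matrix.one_apply, Equiv.coe_fn_mk, Fin.tail_cons, Fin.cons_zero]
      by_cases h : Fin.tail z = β
      · simp [h]
      · simp [h]
    · obtain ⟨y, hy0, hy⟩ := exists_zero_semilinear h2 (κ := Fin 2) (by simp) (φ := fun a => q (W β a))
        (fun a b => by rw [hWadd, quad_add, hWpol, add_zero]) (fun s a => by rw [hWsmul, quad_smul])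
      exact hy0 ((Submodule.mem_bot F).1 (h0 ▸ (hy : y ∈ Z)))
  let φ₀ : ((Fin 2 → Fin 2) → F) →ₗ[F] (ι → F) :=
    { toFun := fun a i => if e i 0 = 0 then a (Fin.tail (e i)) else 0
      map_add' := fun a b => funext fun i => by by_cases h : e i 0 = 0 <;> simp [h]
      map_smul' := fun s a => funext fun i => by by_cases h : e i 0 = 0 <;> simp [h] }
  let φ : ((Fin 2 → Fin 2) → F) →ₗ[F] (ι → F) := (Matrix.toLin' (P : Matrix ι ι F)).comp φ₀
  have hφ : Function.Injective φ := by
    intro a b h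
    funext β
    have h1 := congrFun (mulVec_inj P h) (e.symm (Fin.cons 0 β))
    simpa [φ₀] using h1
  have hpol0 : ∀ a b, QuadraticMap.polar q (φ a) (φ b) = 0 := fun a b => by
    refine hdot (fun z => if z 0 = 0 then a (Fin.tail z) else 0) (fun z => if z 0 = 0 then b (Fin.tail z) else 0)
      fun y z hy hz => ⟨0, ?_⟩
    rw [show y 0 = 0 by by_contra h; exact hy (if_neg h), show z 0 = 0 by by_contra h; exact hz (if_neg h)]
  refine ⟨LinearMap.range φ, le_top, ?_, ?_⟩
  · rintro _ ⟨a, rfl⟩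
    rw [← Finset.univ_sum_single a, map_sum]
    refine (Finset.sum_induction _ (fun w => w ∈ LinearMap.range φ ∧ q w = 0) (fun r s hr hs => ?_)
      ⟨Submodule.zero_mem _, map_zero q⟩ fun β _ => ⟨⟨_, rfl⟩, ?_⟩).2
    · obtain ⟨⟨r, rfl⟩, hr⟩ := hr
      obtain ⟨⟨s, rfl⟩, hs⟩ := hs
      exact ⟨⟨r + s, map_add _ _ _⟩, by rw [quad_add, hr, hs, hpol0, add_zero, add_zero]⟩
    · have e1 : φ (Pi.single β (a β)) = W β (Pi.single 0 (a β)) := by
        simp only [φ, W, LinearMap.comp_apply, Matrix.toLin'_apply]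
        congr 1
        funext i
        simp only [LinearMap.coe_mk, AddHom.coe_mk, Function.comp_apply, Pi.single_apply]
        by_cases h : e i 0 = 0 <;> by_cases h' : Fin.tail (e i) = β <;> simp [φ₀, h, h', Pi.single_apply]
      rw [e1, hWzero]
  · rw [LinearMap.finrank_range_of_inj hφ, Module.finrank_pi, finrank_top, finrank_fun, Fintype.card_congr e]
    simp

/-- Subgroups of isometry groups in dimension 8, 10 and 12. -/
theorem even_class (hQ : PolarNondeg q) {m : ℕ} (hn : Fintype.card ι = 2 * m) (hm : 4 ≤ m) (hm6 : m ≤ 6)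
    {H : Subgroup (GL ι F)} (hiso : H ≤ Cfsg.isometryGroup F ⇑q) :
    InEvenGeometric q m H ∨ Cfsg.Geo.InOrthogonalResidualClass H := by
  classical
  have : Nonempty ι := Fintype.card_pos_iff.mp (by omega)
  by_cases hirr : Irr H
  swap
  · left
    rw [irr_iff] at hirr
    push Not at hirr
    obtain ⟨W, hW, hW0, hW1⟩ := hirr
    have hmem : ∀ U : Submodule F (ι → F), Inv H U → H ≤ Cfsg.Geo.subspaceStabilizer U :=
      fun U hU h hh => CfsgLib.Transvec.mem_subspaceStabilizer_of_maps (hU h hh)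
    have hperp : Inv H (qPerp q W) := fun h hh x hx =>
      (mem_qPerp q).2 fun w hw => by
        have h1 := polar_isometry (hiso (H.inv_mem hh)) w ((h : Matrix ι ι F) *ᵥ x)
        rw [← mulVec_mul, inv_mul_cancel, Units.val_one, one_mulVec] at h1
        rw [← h1]
        exact (mem_qPerp q).1 hx _ (hW h⁻¹ (H.inv_mem hh) w hw)
    by_cases hR : W ⊓ qPerp q W = ⊥
    · refine .nondeg W hW0 hW1 (fun w hw hw0 => ?_) (hmem W hW)
      obtain ⟨x, hx, hwx⟩ : ∃ x ∈ W, QuadraticMap.polar q w x ≠ 0 := by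
        by_contra hno
        push Not at hno
        exact hw0 ((Submodule.eq_bot_iff _).1 hR w
          ⟨hw, (mem_qPerp q).2 fun x hx => (QuadraticMap.polar_comm q x w).trans (hno x hx)⟩)
      exact ⟨⟨x, hx, by rwa [QuadraticMap.polar_comm]⟩, ⟨x, hx, hwx⟩⟩
    obtain ⟨R, hRdef⟩ : ∃ R, R = W ⊓ qPerp q W := ⟨_, rfl⟩
    rw [← hRdef] at hR
    have hRi : Inv H R := hRdef ▸ fun h hh x hx => ⟨hW h hh x hx.1, hperp h hh x hx.2⟩
    have hRp : ∀ x ∈ R, ∀ y ∈ R, QuadraticMap.polar q x y = 0 := by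
      rw [hRdef]
      exact fun x hx y hy => (mem_qPerp q).1 hy.2 x hx.1
    let S₀ : Submodule F (ι → F) :=
      { carrier := {x | x ∈ R ∧ q x = 0}
        zero_mem' := ⟨R.zero_mem, map_zero q⟩
        add_mem' := fun {x y} hx hy => ⟨R.add_mem hx.1 hy.1, by
          rw [quad_add, hx.2, hy.2, hRp x hx.1 y hy.1, add_zero, add_zero]⟩
        smul_mem' := fun c x hx => ⟨R.smul_mem c hx.1, by rw [quad_smul, hx.2, mul_zero]⟩ }
    by_cases hS : S₀ = ⊥
    swap
    · exact .singular S₀ hS (fun x hx => hx.2) (hmem S₀ fun h hh x hx => ⟨hRi h hh x hx.1, by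
        rw [map_isometry (hiso hh), hx.2]⟩)
    obtain ⟨v, hv, hv0⟩ := Submodule.exists_mem_ne_zero_of_ne_bot hR
    have hqv : q v ≠ 0 := fun h => hv0 ((Submodule.mem_bot F).1 (hS ▸ (⟨hv, h⟩ : v ∈ S₀)))
    have h2 : (2 : F) = 0 := by
      have h := hRp v hv v hv
      rw [quad_polar_self] at h
      exact (mul_eq_zero.1 h).resolve_right hqv
    refine .point v h2 hqv (hmem _ fun h hh x hx => ?_)
    obtain ⟨c, rfl⟩ := Submodule.mem_span_singleton.1 hx
    rw [mulVec_smul]
    refine Submodule.smul_mem _ c ?_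
    obtain ⟨y, hy⟩ : ∃ y, y = (h : Matrix ι ι F) *ᵥ v := ⟨_, rfl⟩
    have hyR : y ∈ R := hy ▸ hRi h hh v hv
    have hqy : q y = q v := hy ▸ map_isometry (hiso hh) v
    have : y + v ∈ S₀ := ⟨R.add_mem hyR hv, by
      rw [quad_add, hRp y hyR v hv, hqy, add_zero, ← two_mul, h2, zero_mul]⟩
    rw [hS, Submodule.mem_bot] at this
    rw [← hy, eq_neg_of_add_eq_zero_left this]
    exact Submodule.neg_mem _ (Submodule.mem_span_singleton_self v)
  obtain ⟨N, hNH, hN, hNs, hmin⟩ := exists_minimal_normal (irr_not_scalar (by omega) hirr)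
  have hNiso := hNH.trans hiso
  have hA : InvBy H (CfsgLib.Aschbacher.alg N) := CfsgLib.Aschbacher.invBy_alg hN
  have hZadj : ∀ x ∈ centre (CfsgLib.Aschbacher.alg N), adjM q x ∈ centre (CfsgLib.Aschbacher.alg N) := by
    intro x hx
    obtain ⟨h1, h2⟩ := mem_centre.1 hx
    exact mem_centre.2 ⟨adjM_mem_alg hQ hNiso h1,
      fun y hy => (adjM_central hQ hNiso (fun z hz => (h2 z hz).symm) y hy).symm⟩
  rcases CfsgLib.Aschbacher.alg_cases hirr hA with ⟨t, e, he⟩ | ⟨c, hc, hf⟩ | hbot | htop |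
    ⟨a, b, e, P, ha, hb, hle, hmemA⟩
  · exact Or.inl (toral_idem hQ hn (by omega) hirr hiso hZadj centre_comm he)
  · rcases toral_field hQ hn (by omega) hirr hiso (invBy_centre hA) hZadj hc hf with h | ⟨-, -, K, hK, hsa, hle⟩
    · exact Or.inl h
    · exact Or.inl (half_field hQ hn (by omega) hirr hiso hK hsa hle)
  · refine absurd (fun x hx => ?_) hNs
    obtain ⟨c, hc⟩ := CfsgLib.Aschbacher.eq_smul_one_of_mem_bot (hbot ▸ CfsgLib.Aschbacher.coe_mem_alg hx)
    exact mem_scalars_of_eq_smul (c := c) hc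
  swap
  · -- one tensor factor
    left
    have hx : ∀ x : Cfsg.Geo.matrixSet N, ∃ X, (x : Matrix ι ι F) = cj P (kl e X) := by
      rintro ⟨_, x, hx, rfl⟩
      exact (hmemA _).1 (CfsgLib.Aschbacher.coe_mem_alg hx)
    choose ρ hρ using hx
    have hkl : ∀ X Y : Matrix (Fin a) (Fin a) F, kl e (X * Y) = kl e X * kl e Y := fun X Y => by
      simp only [kl]
      rw [← map_mul, ← Matrix.mul_kronecker_mul, mul_one]
    have hklinj : ∀ X Y, cj P (kl e X) = cj P (kl e Y) → X = Y := fun X Y h => by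
      have h1 := (Matrix.reindexAlgEquiv F F e.symm).injective ((cj P).injective h)
      ext i j
      simpa using congrFun (congrFun h1 (i, ⟨0, by omega⟩)) (j, ⟨0, by omega⟩)
    have hall : ∀ B : Subalgebra F (Matrix (Fin a) (Fin a) F), (∀ x, ρ x ∈ B) → ∀ X, X ∈ B := by
      intro B hB X
      obtain ⟨Y, hY, h⟩ : ∃ Y ∈ B, cj P (kl e X) = cj P (kl e Y) := by
        have hXA : cj P (kl e X) ∈ CfsgLib.Aschbacher.alg N := (hmemA _).2 ⟨X, rfl⟩
        refine Algebra.adjoin_induction (p := fun r _ => ∃ Y ∈ B, r = cj P (kl e Y)) ?_ ?_ ?_ ?_ hXA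
        · exact fun r hr => ⟨_, hB ⟨r, hr⟩, hρ ⟨r, hr⟩⟩
        · intro r
          refine ⟨algebraMap F _ r, B.algebraMap_mem r, ?_⟩
          rw [kl, Algebra.algebraMap_eq_smul_one, Algebra.algebraMap_eq_smul_one, Matrix.smul_kronecker,
            Matrix.one_kronecker_one, map_smul, map_one, map_smul, map_one]
        · rintro r s - - ⟨Y, hY, rfl⟩ ⟨Z, hZ, rfl⟩
          refine ⟨Y + Z, B.add_mem hY hZ, ?_⟩
          rw [kl, kl, kl, Matrix.add_kronecker, map_add, map_add]
        · rintro r s - - ⟨Y, hY, rfl⟩ ⟨Z, hZ, rfl⟩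
          exact ⟨Y * Z, B.mul_mem hY hZ, by rw [hkl, map_mul]⟩
      exact hklinj _ _ h ▸ hY
    refine tensor_member_even hQ hn (by omega) hm6 hirr hiso hNH ha hb (ρ := ρ) ⟨fun W hW => ?_, fun M hM => ?_⟩
      (fun x => ?_) hle
    · by_cases hW0 : W = ⊥
      · exact Or.inl hW0
      right
      obtain ⟨w, hw, hw0⟩ := Submodule.exists_mem_ne_zero_of_ne_bot hW0
      obtain ⟨j, hj⟩ := Function.ne_iff.1 hw0
      let B : Subalgebra F (Matrix (Fin a) (Fin a) F) :=
        { carrier := {X | ∀ u ∈ W, X *ᵥ u ∈ W}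
          mul_mem' := fun {X Y} hX hY u hu => by rw [← mulVec_mulVec]; exact hX _ (hY u hu)
          add_mem' := fun {X Y} hX hY u hu => by rw [add_mulVec]; exact W.add_mem (hX u hu) (hY u hu)
          algebraMap_mem' := fun r u hu => by
            rw [Algebra.algebraMap_eq_smul_one, Matrix.smul_mulVec, one_mulVec]; exact W.smul_mem r hu }
      have hB : ∀ X, X ∈ B := hall B fun x u hu => by
        have := hW _ ⟨x, rfl⟩ (Submodule.mem_map_of_mem hu)
        rwa [Matrix.toLin'_apply] at this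
      rw [eq_top_iff]
      intro v _
      rw [← Finset.univ_sum_single v]
      refine W.sum_mem fun i _ => ?_
      have := hB (Matrix.single i j (v i / w j)) w hw
      rwa [Matrix.single_mulVec, div_mul_cancel₀ _ hj] at this
    · have hB : ∀ X, X ∈ Subalgebra.centralizer F {M} := hall _ fun x => by
        rw [Subalgebra.mem_centralizer_iff]
        rintro _ rfl
        exact hM _ ⟨x, rfl⟩
      have : Nonempty (Fin a) := ⟨⟨0, by omega⟩⟩
      obtain ⟨c, hc⟩ := Matrix.mem_range_scalar_of_commute_single (M := M) fun i j _ =>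
        ((Subalgebra.mem_centralizer_iff F).1 (hB (Matrix.single i j 1)) M rfl).symm
      exact ⟨c, by rw [← hc, Matrix.scalar_apply, Matrix.smul_one_eq_diagonal]⟩
    · rw [toCoord, hρ, cj_apply]
      simp only [← mul_assoc, Units.inv_mul, one_mul]
      rw [mul_assoc, Units.inv_mul, mul_one, kl, Matrix.reindexAlgEquiv_apply, Matrix.reindex_apply,
        Equiv.symm_symm, Matrix.submatrix_submatrix, Equiv.self_comp_symm, Matrix.submatrix_id_id]
  -- the whole matrix algebra
  have hNabs : AbsIrr N := Full.actsAbsolutelyIrreducibly (htop : Full N)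
  have hMN : CfsgLib.Aschbacher.MinNS H N := ⟨⟨hNH, hN⟩, hNs, fun M hM hMn =>
    or_iff_not_imp_left.2 fun hMs => hmin M hM hMn hMs⟩
  rcases hMN.derived with hder | hperf
  · left
    obtain ⟨r, k, z, hd⟩ := CfsgLib.Aschbacher.sympData_of_minNS (by omega) hMN htop hder
    obtain rfl : r = 2 := by
      have h : 2 ∣ r ^ k := ⟨m, by rw [← hd.dim, hn]⟩
      exact ((Nat.prime_dvd_prime_iff_eq Nat.prime_two hd.prime).1 (Nat.prime_two.dvd_of_dvd_pow h)).symm
    have h8 : Fintype.card ι = 8 := by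
      have h := hd.dim
      rw [hn] at h ⊢
      have hk : k ≤ 3 := by
        by_contra hk
        have := Nat.pow_le_pow_right (show 0 < 2 by norm_num) (show 4 ≤ k by omega)
        omega
      interval_cases k <;> omega
    exact .eight h8 (plus_of_sympData hQ hiso hMN hder hd h8)
  obtain ⟨t, L, ht, hL⟩ := exists_components hN hperf hNs hmin
  by_cases ht2 : 2 ≤ t
  · left
    obtain ⟨d, e, P, ρ, hW⟩ := exists_wreathData hNabs ht hL
    have hcard : Fintype.card ι = d ^ t := by simpa using Fintype.card_congr e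
    have hd2 := hW.two
    have ht3 : t ≤ 3 := by
      by_contra h
      have h1 := Nat.pow_le_pow_left hd2 t
      have h2 := Nat.pow_le_pow_right (show 0 < 2 by norm_num) (show 4 ≤ t by omega)
      omega
    obtain ⟨rfl, rfl⟩ : d = 2 ∧ t = 2 + 1 := by
      rw [hn] at hcard
      have hd4 : d ≤ 3 := by
        by_contra h
        have h1 := Nat.pow_le_pow_left (show 4 ≤ d by omega) t
        have h2 := Nat.pow_le_pow_right (show 0 < 4 by norm_num) ht2
        omega
      interval_cases t <;> interval_cases d <;> first | omega | exact ⟨rfl, rfl⟩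
    exact .eight (by rw [hcard]; rfl)
      (plus_of_three_factors hQ hL.perfect (fun i => (hL.le i).trans hNiso) hW)
  obtain rfl : t = 1 := by omega
  have hL0 : L 0 = N := by rw [← hL.iSup_eq, iSup_unique]; rfl
  have hcore : CoreData H N := ⟨hNH, hN, hperf, isSimpleGroup_quot hperf hNs fun M hM hMn hMs =>
      (hL.simple 0 M (hL0 ▸ hM) (hL0 ▸ hMn) hMs).trans hL0,
    not_comm_quot hperf hNs, fun h _ hc => hNabs.mem_scalars (comm_of_comm_mod_scalars hperf hc), hNabs⟩
  by_cases hsub : ∃ F₀ : Subfield F, F₀ ≠ ⊤ ∧ Cfsg.Geo.RealisableOver F₀ (Cfsg.Geo.matrixSet N)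
  · obtain ⟨F₀, hF₀, B, hB⟩ := hsub
    obtain ⟨F₁, r, hr, hcard, hle⟩ := exists_prime_index F₀ hF₀
    have hrat : ∀ s ∈ N, ∀ i j, ((B : Matrix ι ι F) * (s : Matrix ι ι F) * ((B⁻¹ : GL ι F) : Matrix ι ι F)) i j ∈ F₁ :=
      fun s hs i j => hle (hB _ ⟨s, hs, rfl⟩ i j)
    obtain ⟨ζ, hζ, hP⟩ := exists_rational_scaled hQ (by omega) hNabs hNiso hrat
    exact Or.inl (.subfield F₁ r B⁻¹ ζ hr hcard hζ hP
      fun h hh => mem_subfieldSubgroup_of_normalises hNabs hrat (hN h hh))
  push Not at hsub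
  refine Or.inr ⟨N, ⟨hcore.le, hcore.normal, hcore.perfect, hcore.simple, hcore.nonabelian,
    hcore.centralizer_scalar, hcore.absIrred, hsub⟩, ?_⟩
  rintro ⟨σ, f, hf, hfixU⟩
  obtain ⟨F₀, hF₀, hre⟩ := realisable_of_unitary_even hQ hNabs hNiso hf hfixU
  exact hsub F₀ hF₀ hre

end CfsgLib.Techniques.AschEven
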