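/-
Signs of orthogonal decompositions.
-/
import Cfsg.Agent.Lib.Techniques.AschEven.Sign
import Cfsg.Agent.Lib.Classical22.OrthDecompMax
import Cfsg.Agent.Lib.Classical22.OrthTypeUnipotent

set_option autoImplicit false

namespace CfsgLib.Techniques.AschEven

open Module CfsgLib.Classical CfsgLib.Classical22 CfsgLib.Classical22.OrthType

variable {F : Type*} [Field F] [Fintype F] {ι : Type} [Fintype ι] [DecidableEq ι] {q : QuadraticForm F (ι → F)}

/-- In characteristic two a non-degenerate subspace has even dimension. -/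
theorem even_finrank_two (h2 : (2 : F) = 0) {W : Submodule F (ι → F)} (hW : NdOn q W) : Even (finrank F W) := by
  refine even_codim (QuadraticMap.polarBilin (res q W)) (fun v => ?_) ⊥ (fun x => ?_) (k := finrank F W)
    (by rw [finrank_bot, add_zero])
  · rw [QuadraticMap.polarBilin_apply_apply, quad_polar_self, h2, zero_mul]
  · refine ⟨fun h y => by rw [(Submodule.mem_bot F).1 h]; simp, fun h => (Submodule.mem_bot F).2 ?_⟩
    exact polarNondeg_res hW x h

theorem two_ne_zero_of_odd_dim {W : Submodule F (ι → F)} (hW : NdOn q W) (ho : Odd (finrank F W)) : (2 : F) ≠ 0 :=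
  fun h2 => Nat.not_even_iff_odd.2 ho (even_finrank_two h2 hW)

theorem isNondegenerateOn_of_ndOn {U : Submodule F (ι → F)} (hU : NdOn q U) :
    Cfsg.Geo.IsNondegenerateOn (QuadraticMap.polar ⇑q) U := by
  intro w hw hw0
  obtain ⟨x, hx, hwx⟩ : ∃ x ∈ U, QuadraticMap.polar q w x ≠ 0 := by
    by_contra hno
    push Not at hno
    exact hw0 (hU w hw hno)
  exact ⟨⟨x, hx, by rwa [QuadraticMap.polar_comm]⟩, ⟨x, hx, hwx⟩⟩

theorem sgOn_top {ε : ℤ} : SgOn q (⊤ : Submodule F (ι → F)) ε ↔ Sg q ε :=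
  ⟨fun h => Sg.congr isom_res_top h, fun h => Sg.congr isom_res_top.symm' h⟩

theorem plus_iff_sg (hQ : PolarNondeg q) (he : Even (Fintype.card ι)) :
    Cfsg.Geo.IsPlusTypeOn ⇑q ⊤ ↔ Sg q 1 := by
  rw [plusTypeOn_iff (ndOn_top hQ) (by rwa [finrank_top, Module.finrank_pi]), sgOn_top]

theorem minus_iff_sg (hQ : PolarNondeg q) (he : Even (Fintype.card ι)) :
    ¬ Cfsg.Geo.IsPlusTypeOn ⇑q ⊤ ↔ Sg q (-1) := by
  rw [not_plusTypeOn_iff (ndOn_top hQ) (by rwa [finrank_top, Module.finrank_pi]), sgOn_top]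

/-- Even-dimensional members: the signs multiply. -/
theorem blocks_sign_even {t k : ℕ} {D : Fin t → Submodule F (ι → F)}
    (hD : Cfsg.Geo.IsOrthogonalMDecomposition ⇑q k D) (hk : Even k) :
    ∃ ε : ℤ, (ε = 1 ∨ ε = -1) ∧ (∀ i, SgOn q (D i) ε) ∧ Sg q (ε ^ t) := by
  have hd := OrthDecomp.data_of_decomp q hD
  obtain ⟨ε, hε, h0⟩ := sgOn_cases (hd.nd ⟨0, by have := hD.decomp.decomp.two_le; omega⟩) (by rw [hd.dim]; exact hk)
  have hall : ∀ i, SgOn q (D i) ε := fun i => h0.of_isometric (hD.isometric _ i)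
  refine ⟨ε, hε, hall, ?_⟩
  have h := sg_iSup (fun i j hij => hD.decomp.orthogonal i j hij) hd.nd hD.decomp.decomp.iSup_eq_top hall
  simpa using h

/-- Odd-dimensional members: they pair off into sums of sign `η`, `η = 1` exactly when `-1` is a square. -/
theorem blocks_sign_odd (hQ : PolarNondeg q) {t k : ℕ} {D : Fin t → Submodule F (ι → F)}
    (hD : Cfsg.Geo.IsOrthogonalMDecomposition ⇑q k D) (hk : Odd k) (he : Even (Fintype.card ι)) :
    (2 : F) ≠ 0 ∧ ∃ (s : ℕ) (η : ℤ), t = 2 * s ∧ (η = 1 ∨ η = -1) ∧ (η = 1 ↔ IsSquare (-1 : F)) ∧ Sg q (η ^ s) := by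
  classical
  have hd := OrthDecomp.data_of_decomp q hD
  have h2 : (2 : F) ≠ 0 :=
    two_ne_zero_of_odd_dim (hd.nd ⟨0, by have := hD.decomp.decomp.two_le; omega⟩) (by rw [hd.dim]; exact hk)
  refine ⟨h2, ?_⟩
  rw [OrthDecomp.card_eq_mul hD.decomp.decomp, Nat.even_mul, or_iff_left (Nat.not_even_iff_odd.2 hk)] at he
  obtain ⟨s, hs⟩ := he
  obtain ⟨η, hη⟩ : ∃ η : ℤ, η = if IsSquare (-1 : F) then 1 else -1 := ⟨_, rfl⟩
  have hη1 : η = 1 ↔ IsSquare (-1 : F) := by rw [hη]; split_ifs with h <;> simp [h]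
  have hη2 : η = 1 ∨ η = -1 := by rw [hη]; split_ifs <;> simp
  refine ⟨s, η, by omega, hη2, hη1, ?_⟩
  let E : Fin s × Fin 2 ≃ Fin t := finProdFinEquiv.trans (finCongr (by omega))
  have hne : ∀ i, E (i, 0) ≠ E (i, 1) := fun i h => by simpa using E.injective h
  obtain ⟨D', hD'⟩ : ∃ D' : Fin s → Submodule F (ι → F), D' = fun i => D (E (i, 0)) ⊔ D (E (i, 1)) := ⟨_, rfl⟩
  have horth : ∀ i j, i ≠ j → ∀ a ∈ D i, ∀ b ∈ D j, QuadraticMap.polar q a b = 0 := hD.decomp.orthogonal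
  have hsum : ∀ i, NdOn q (D' i) ∧ finrank F ↥(D' i) = k + k := fun i => by
    have h := sup_orth (hd.nd _) (hd.nd _) (horth _ _ (hne i))
    rw [hd.dim, hd.dim] at h
    rw [hD']
    exact ⟨h.1, h.2.1⟩
  have hsg : ∀ i, SgOn q (D' i) η := by
    intro i
    obtain ⟨ε, hε, hs'⟩ := sgOn_cases (hsum i).1 ⟨k, (hsum i).2⟩
    have h := (odd_pair h2 (hd.nd (E (i, 0))) (hd.nd (E (i, 1))) (horth _ _ (hne i)) (by rw [hd.dim, hd.dim])
      (by rw [hd.dim]; exact hk) (ε := ε) (by rw [hD'] at hs'; exact hs')).1 (hD.isometric _ _)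
    have hεη : ε = η := by
      rcases hε with rfl | rfl <;> rcases hη2 with rfl | rfl
      · rfl
      · exact absurd (hη1.2 (h.1 rfl)) (by norm_num)
      · exact absurd (h.2 (hη1.1 rfl)) (by norm_num)
      · rfl
    exact hεη ▸ hs'
  have h := sg_iSup (D := D') (fun i j hij a ha b hb => ?_) (fun i => (hsum i).1) ?_ hsg
  · simpa using h
  · have hperp : ∀ x y : Fin 2, ∀ u ∈ D (E (i, x)), ∀ v ∈ D (E (j, y)), QuadraticMap.polar q u v = 0 :=
      fun x y => horth _ _ fun h => hij (congrArg Prod.fst (E.injective h))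
    rw [hD'] at ha hb
    obtain ⟨a0, ha0, a1, ha1, rfl⟩ := Submodule.mem_sup.1 ha
    obtain ⟨b0, hb0, b1, hb1, rfl⟩ := Submodule.mem_sup.1 hb
    simp [QuadraticMap.polar_add_left, QuadraticMap.polar_add_right, hperp 0 0 _ ha0 _ hb0, hperp 0 1 _ ha0 _ hb1,
      hperp 1 0 _ ha1 _ hb0, hperp 1 1 _ ha1 _ hb1]
  · rw [eq_top_iff, ← hd.sup]
    refine iSup_le fun l => ?_
    obtain ⟨⟨i, x⟩, rfl⟩ := E.surjective l
    refine le_trans ?_ (le_iSup D' i)
    rw [hD']
    fin_cases x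
    exacts [le_sup_left, le_sup_right]

/-- A subspace and its perp. -/
theorem perp_pair (hQ : PolarNondeg q) {W : Submodule F (ι → F)} (hW : NdOn q W) {k : ℕ} (hk : 0 < k)
    (hd : finrank F W = k) (hn : Fintype.card ι = 2 * k) :
    Cfsg.Geo.IsNondegenerateMDecomposition (QuadraticMap.polar ⇑q) k ![W, qPerp q W] := by
  have hWd : finrank F (qPerp q W) = k := by rw [finrank_qPerp q hQ, Module.finrank_pi, hd, hn]; omega
  have horth : ∀ a ∈ W, ∀ b ∈ qPerp q W, QuadraticMap.polar q a b = 0 := fun a ha b hb => (mem_qPerp q).1 hb a ha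
  have hdisj : W ⊓ qPerp q W = ⊥ := by
    rw [eq_bot_iff]
    rintro x ⟨hx, hx'⟩
    exact (Submodule.mem_bot F).2 (hW x hx fun y hy => (QuadraticMap.polar_comm q x y).trans (horth y hy x hx'))
  have hsup : W ⊔ qPerp q W = ⊤ := by
    refine Submodule.eq_top_of_finrank_eq ?_
    have h := Submodule.finrank_sup_add_finrank_inf_eq W (qPerp q W)
    rw [hdisj, finrank_bot, hd, hWd] at h
    rw [Module.finrank_pi, hn]
    omega
  refine ⟨⟨le_rfl, hk, fun i => ?_, ?_, ?_⟩, fun i => ?_, fun i j hij a ha b hb => ?_⟩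
  · fin_cases i <;> assumption
  · refine (DirectSum.isInternal_submodule_iff_isCompl _ (show (0 : Fin 2) ≠ 1 by decide) ?_).2
      ⟨disjoint_iff.2 hdisj, codisjoint_iff.2 hsup⟩ |>.submodule_iSupIndep
    ext i; fin_cases i <;> simp
  · rw [eq_top_iff, ← hsup]
    exact sup_le (le_iSup ![W, qPerp q W] 0) (le_iSup ![W, qPerp q W] 1)
  · fin_cases i
    · exact isNondegenerateOn_of_ndOn hW
    · exact isNondegenerateOn_of_ndOn (ndOn_qPerp q hQ hW)
  · fin_cases i <;> fin_cases j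
    · exact absurd rfl hij
    · exact horth a ha b hb
    · exact (QuadraticMap.polar_comm q a b).trans (horth b hb a ha)
    · exact absurd rfl hij

theorem isometric_refl (A : Submodule F (ι → F)) : Cfsg.Geo.AreIsometricFor ⇑q A A :=
  ⟨LinearEquiv.refl F A, fun _ => rfl⟩

theorem isometric_symm {A B : Submodule F (ι → F)} (h : Cfsg.Geo.AreIsometricFor ⇑q A B) :
    Cfsg.Geo.AreIsometricFor ⇑q B A := by
  obtain ⟨e, he⟩ := h
  exact ⟨e.symm, fun w => by rw [← he, e.apply_symm_apply]⟩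

theorem orth_of_pair {W W' : Submodule F (ι → F)} {k : ℕ}
    (h : Cfsg.Geo.IsNondegenerateMDecomposition (QuadraticMap.polar ⇑q) k ![W, W'])
    (hi : Cfsg.Geo.AreIsometricFor ⇑q W W') : Cfsg.Geo.IsOrthogonalMDecomposition ⇑q k ![W, W'] := by
  refine ⟨h, fun i j => ?_⟩
  fin_cases i <;> fin_cases j
  exacts [isometric_refl _, hi, isometric_symm hi, isometric_refl _]

/-- A pair of odd dimension: isometric exactly when the sign matches `-1` being a square. -/
theorem pair_odd (hQ : PolarNondeg q) {W : Submodule F (ι → F)} (hW : NdOn q W) {k : ℕ} (hk : Odd k)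
    (hd : finrank F W = k) (hn : Fintype.card ι = 2 * k) {ε : ℤ} (hε : Sg q ε) :
    Cfsg.Geo.AreIsometricFor ⇑q W (qPerp q W) ↔ (ε = 1 ↔ IsSquare (-1 : F)) := by
  have hk0 := hk.pos
  have hp := perp_pair hQ hW hk0 hd hn
  refine odd_pair (two_ne_zero_of_odd_dim hW (hd ▸ hk)) hW (ndOn_qPerp q hQ hW) (hp.orthogonal 0 1 (by decide))
    (hd.trans (hp.decomp.finrank_eq 1).symm) (hd ▸ hk) ?_
  have htop : W ⊔ qPerp q W = ⊤ := by
    rw [eq_top_iff, ← hp.decomp.iSup_eq_top]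
    exact iSup_le fun i => by fin_cases i; exacts [le_sup_left, le_sup_right]
  rw [htop]
  exact sgOn_top.2 hε

/-- A pair of even dimension in a plus space consists of isometric members. -/
theorem pair_even_plus (hQ : PolarNondeg q) {W : Submodule F (ι → F)} (hW : NdOn q W) {k : ℕ} (hk : Even k)
    (hk0 : 0 < k) (hd : finrank F W = k) (hn : Fintype.card ι = 2 * k) (hε : Sg q 1) :
    Cfsg.Geo.AreIsometricFor ⇑q W (qPerp q W) := by
  have hp := perp_pair hQ hW hk0 hd hn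
  have hW' := ndOn_qPerp q hQ hW
  have hd' : finrank F (qPerp q W) = k := hp.decomp.finrank_eq 1
  obtain ⟨a, ha, hsa⟩ := sgOn_cases hW (hd ▸ hk)
  obtain ⟨b, hb, hsb⟩ := sgOn_cases hW' (hd' ▸ hk)
  have htop : W ⊔ qPerp q W = ⊤ := by
    rw [eq_top_iff, ← hp.decomp.iSup_eq_top]
    exact iSup_le fun i => by fin_cases i; exacts [le_sup_left, le_sup_right]
  have h := SgOn.sup hW hW' (hp.orthogonal 0 1 (by decide)) hsa hsb
  rw [htop, sgOn_top] at h
  have hab := sg_unique h hε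
  have heq : a = b := by rcases ha with rfl | rfl <;> rcases hb with rfl | rfl <;> simp_all
  exact isometric_iff.2 (Sg.isom hsa (heq ▸ hsb) (polarNondeg_res hW) (polarNondeg_res hW') (hd.trans hd'.symm))

end CfsgLib.Techniques.AschEven
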