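/-
Non-degenerate planes over small fields, and anisotropic planes of a plus four-space over two elements.
-/
import Cfsg.Agent.Lib.Techniques.AschEven.SignBlocks

set_option autoImplicit false

namespace CfsgLib.Techniques.AschEven

open Module CfsgLib.Classical CfsgLib.Classical22
open CfsgLib.Classical22.OrthType (sg_unique)

variable {F : Type*} [Field F] [Fintype F] {ι : Type} [Fintype ι] [DecidableEq ι] {q : QuadraticForm F (ι → F)}

theorem eq_zero_one (hq : Fintype.card F = 2) (x : F) : x = 0 ∨ x = 1 := by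
  classical
  by_contra h
  push Not at h
  have h1 : ({0, 1, x} : Finset F).card ≤ 2 := hq ▸ Finset.card_le_univ _
  rw [Finset.card_insert_of_notMem (by simp [Ne.symm h.1]), Finset.card_pair (Ne.symm h.2)] at h1
  omega

theorem unit_sq_one (hq : Fintype.card F ≤ 3) {x : F} (hx : x ≠ 0) : x * x = 1 := by
  have h1 := FiniteField.pow_card_sub_one_eq_one x hx
  have h2 := Fintype.one_lt_card (α := F)
  rcases (show Fintype.card F = 2 ∨ Fintype.card F = 3 by omega) with h | h <;> rw [h] at h1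
  · simp at h1; rw [h1, mul_one]
  · simpa [sq] using h1

/-- A plus plane has a hyperbolic pair. -/
theorem exists_hyperbolic {W : Submodule F (ι → F)} (hW : NdOn q W) (hd : finrank F W = 2)
    (hp : Cfsg.Geo.IsPlusTypeOn ⇑q W) :
    ∃ x y, x ∈ W ∧ y ∈ W ∧ q x = 0 ∧ q y = 0 ∧ QuadraticMap.polar q x y = 1 ∧
      (∀ v ∈ W, ∃ a b : F, a • x + b • y = v) ∧ ∀ a b : F, q (a • x + b • y) = a * b := by
  obtain ⟨U, hUW, hU, hUd⟩ := hp
  obtain ⟨x, hx, hx0⟩ := Submodule.exists_mem_ne_zero_of_ne_bot (p := U) fun h => by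
    rw [h, finrank_bot, hd] at hUd; omega
  have hqx : q x = 0 := hU x hx
  obtain ⟨z, hz, hxz⟩ : ∃ z ∈ W, QuadraticMap.polar q x z ≠ 0 := by
    by_contra hno
    push Not at hno
    exact hx0 (hW x (hUW hx) hno)
  obtain ⟨z', hz', hxz'⟩ : ∃ z' ∈ W, QuadraticMap.polar q x z' = 1 :=
    ⟨(QuadraticMap.polar q x z)⁻¹ • z, W.smul_mem _ hz, by rw [QuadraticMap.polar_smul_right, smul_eq_mul, inv_mul_cancel₀ hxz]⟩
  have hxx : QuadraticMap.polar q x x = 0 := by rw [quad_polar_self, hqx, mul_zero]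
  obtain ⟨y, hy⟩ : ∃ y, y = z' - q z' • x := ⟨_, rfl⟩
  have hxy : QuadraticMap.polar q x y = 1 := by
    rw [hy, QuadraticMap.polar_sub_right, QuadraticMap.polar_smul_right, hxz', hxx, smul_zero, sub_zero]
  have hqy : q y = 0 := by
    have h := quad_add q y (q z' • x)
    rw [hy, sub_add_cancel, ← hy, quad_smul, hqx, QuadraticMap.polar_smul_right, QuadraticMap.polar_comm, hxy] at h
    simp at h
    exact h
  have hyW : y ∈ W := hy ▸ W.sub_mem hz' (W.smul_mem _ (hUW hx))
  refine ⟨x, y, hUW hx, hyW, hqx, hqy, hxy, ?_, fun a b => ?_⟩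
  · have hyx : ∀ c : F, c • x ≠ y := fun c h => by
      rw [← h, QuadraticMap.polar_smul_right, hxx, smul_zero] at hxy
      exact zero_ne_one hxy
    have hli : LinearIndependent F ![x, y] := (LinearIndependent.pair_iff' hx0).2 hyx
    have heq : Submodule.span F (Set.range ![x, y]) = W := by
      refine Submodule.eq_of_le_of_finrank_le (Submodule.span_le.2 ?_) ?_
      · rintro _ ⟨i, rfl⟩; fin_cases i
        exacts [hUW hx, hyW]
      · rw [finrank_span_eq_card hli, hd, Fintype.card_fin]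
    intro v hv
    rw [← heq, Matrix.range_cons_cons_empty, Submodule.mem_span_pair] at hv
    exact hv
  · simp [quad_add, quad_smul, hqx, hqy, QuadraticMap.polar_smul_left, QuadraticMap.polar_smul_right, hxy, mul_comm]

/-- A minus plane is anisotropic. -/
theorem minus_plane_aniso {W : Submodule F (ι → F)} (hd : finrank F W = 2) (hp : ¬ Cfsg.Geo.IsPlusTypeOn ⇑q W)
    {v : ι → F} (hv : v ∈ W) (hqv : q v = 0) : v = 0 := by
  by_contra h0
  refine hp ⟨Submodule.span F {v}, (Submodule.span_singleton_le_iff_mem _ _).2 hv, fun u hu => ?_, ?_⟩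
  · obtain ⟨c, rfl⟩ := Submodule.mem_span_singleton.1 hu
    rw [quad_smul, hqv, mul_zero]
  · rw [finrank_span_singleton h0, hd]

/-- With at most three elements a plus plane has one line of value one. -/
theorem small_plus_value (hq : Fintype.card F ≤ 3) {W : Submodule F (ι → F)} (hW : NdOn q W) (hd : finrank F W = 2)
    (hp : Cfsg.Geo.IsPlusTypeOn ⇑q W) :
    ∃ a ∈ W, q a = 1 ∧ ∀ v ∈ W, q v = 1 → ∃ c : F, v = c • a := by
  obtain ⟨x, y, hx, hy, hqx, hqy, hxy, hspan, hval⟩ := exists_hyperbolic hW hd hp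
  refine ⟨x + y, W.add_mem hx hy, by simpa using hval 1 1, fun v hv hv1 => ?_⟩
  obtain ⟨a, b, rfl⟩ := hspan v hv
  rw [hval] at hv1
  have ha : a ≠ 0 := fun h => by rw [h, zero_mul] at hv1; exact zero_ne_one hv1
  have hab : b = a := mul_left_cancel₀ ha (by rw [hv1, unit_sq_one hq ha])
  exact ⟨a, by rw [hab, smul_add]⟩

/-- Over four elements a plus plane has a frame over the prime field. -/
theorem four_plus_frame (hq : Fintype.card F = 4) {W : Submodule F (ι → F)} (hW : NdOn q W) (hd : finrank F W = 2)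
    (hp : Cfsg.Geo.IsPlusTypeOn ⇑q W) :
    ∃ a b, a ∈ W ∧ b ∈ W ∧ q a = 1 ∧ q b = 1 ∧ QuadraticMap.polar q a b = 1 ∧ (2 : F) = 0 ∧
      (∀ v ∈ W, ∃ s t : F, s • a + t • b = v) ∧ ∀ v ∈ W, q v = 1 → v = a ∨ v = b ∨ v = a + b := by
  classical
  have h2 : (2 : F) = 0 := by
    have h := FiniteField.cast_card_eq_zero F
    rw [hq] at h
    have h' : (2 : F) * 2 = 0 := by rw [← h]; norm_num
    exact mul_self_eq_zero.1 h'
  obtain ⟨x, y, hx, hy, hqx, hqy, hxy, hspan, hval⟩ := exists_hyperbolic hW hd hp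
  obtain ⟨s, -, hs⟩ := Finset.exists_mem_notMem_of_card_lt_card (s := ({0, 1} : Finset F)) (t := Finset.univ)
    (by rw [Finset.card_univ, hq, Finset.card_pair zero_ne_one]; norm_num)
  simp at hs
  have hcube : ∀ c : F, c ≠ 0 → c ^ 3 = 1 := fun c hc => by
    have := FiniteField.pow_card_sub_one_eq_one c hc
    rwa [hq] at this
  have hs2 : s * s + s + 1 = 0 := (mul_eq_zero.1 (show (s - 1) * (s * s + s + 1) = 0 by
    linear_combination hcube s hs.1)).resolve_left (sub_ne_zero.2 hs.2)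
  refine ⟨x + y, s • x + (s + 1) • y, W.add_mem hx hy, W.add_mem (W.smul_mem _ hx) (W.smul_mem _ hy),
    by simpa using hval 1 1, by rw [hval]; linear_combination hs2 - h2, ?_, h2, fun v hv => ?_, fun v hv hv1 => ?_⟩
  · simp [QuadraticMap.polar_add_left, QuadraticMap.polar_add_right, QuadraticMap.polar_smul_right, hxy,
      quad_polar_self, hqx, hqy, QuadraticMap.polar_comm q y x]
    linear_combination s * h2
  · obtain ⟨a, b, rfl⟩ := hspan v hv
    refine ⟨a * (s + 1) + b * s, a + b, ?_⟩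
    rw [smul_add, smul_add, smul_smul, smul_smul, add_add_add_comm, ← add_smul, ← add_smul]
    congr 2
    · linear_combination (a * s + b * s) * h2
    · linear_combination (a * (s + 1) + b * s) * h2
  · obtain ⟨a, b, rfl⟩ := hspan v hv
    rw [hval] at hv1
    have ha : a ≠ 0 := fun h => by rw [h, zero_mul] at hv1; exact zero_ne_one hv1
    have hfac : (a - 1) * ((a - s) * (a - (s + 1))) = 0 := by
      linear_combination hcube a ha + (a - 1) * hs2 - (a - 1) * (s * a + a + 1) * h2
    rcases mul_eq_zero.1 hfac with h | h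
    · obtain rfl : a = 1 := sub_eq_zero.1 h
      obtain rfl : b = 1 := by simpa using hv1
      exact Or.inl (by simp)
    rcases mul_eq_zero.1 h with h | h
    · obtain rfl : a = s := sub_eq_zero.1 h
      obtain rfl : b = a + 1 := mul_left_cancel₀ ha (by rw [hv1]; linear_combination h2 - hs2)
      exact Or.inr (Or.inl rfl)
    · obtain rfl : a = s + 1 := sub_eq_zero.1 h
      obtain rfl : b = s := mul_left_cancel₀ ha (by rw [hv1]; linear_combination h2 - hs2)
      refine Or.inr (Or.inr ?_)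
      match_scalars
      · ring
      · linear_combination (-1 : F) * h2

/-- Over five elements a plus plane has an orthogonal frame of value one. -/
theorem five_plus_frame (hq : Fintype.card F = 5) {W : Submodule F (ι → F)} (hW : NdOn q W) (hd : finrank F W = 2)
    (hp : Cfsg.Geo.IsPlusTypeOn ⇑q W) :
    ∃ e f, e ∈ W ∧ f ∈ W ∧ q e = 1 ∧ q f = 1 ∧ QuadraticMap.polar q e f = 0 ∧
      ∀ v ∈ W, q v = 1 → ∃ c : F, v = c • e ∨ v = c • f := by
  have h5 : (5 : F) = 0 := by
    have h := FiniteField.cast_card_eq_zero F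
    rw [hq] at h
    exact_mod_cast h
  obtain ⟨x, y, hx, hy, hqx, hqy, hxy, hspan, hval⟩ := exists_hyperbolic hW hd hp
  refine ⟨x + y, (2 : F) • x + (3 : F) • y, W.add_mem hx hy, W.add_mem (W.smul_mem _ hx) (W.smul_mem _ hy),
    by simpa using hval 1 1, by rw [hval]; linear_combination h5, ?_, fun v hv hv1 => ?_⟩
  · simp [QuadraticMap.polar_add_left, QuadraticMap.polar_smul_right, hxy, quad_polar_self, hqx, hqy,
      QuadraticMap.polar_comm q y x, QuadraticMap.polar_add_right]
    linear_combination h5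
  · obtain ⟨a, b, rfl⟩ := hspan v hv
    rw [hval] at hv1
    have ha : a ≠ 0 := fun h => by rw [h, zero_mul] at hv1; exact zero_ne_one hv1
    have h4 : a ^ 4 = 1 := by
      have := FiniteField.pow_card_sub_one_eq_one a ha
      rwa [hq] at this
    have hfac : (a * a - 1) * ((a - 2) * (a + 2)) = 0 := by
      linear_combination h4 - (a * a - 1) * h5
    rcases mul_eq_zero.1 hfac with h | h
    · obtain rfl : b = a := mul_left_cancel₀ ha (by rw [hv1]; linear_combination -h)
      exact ⟨b, Or.inl (smul_add _ _ _).symm⟩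
    rcases mul_eq_zero.1 h with h | h
    · obtain rfl : a = 2 := sub_eq_zero.1 h
      obtain rfl : b = 3 := mul_left_cancel₀ ha (by rw [hv1]; linear_combination -h5)
      exact ⟨1, Or.inr (one_smul _ _).symm⟩
    · obtain rfl : a = -2 := eq_neg_of_add_eq_zero_left h
      obtain rfl : b = -3 := mul_left_cancel₀ ha (by rw [hv1]; linear_combination -h5)
      refine ⟨-1, Or.inr ?_⟩
      module

/-- Over three elements a minus plane has an orthogonal frame of value one. -/
theorem three_minus_frame (hq : Fintype.card F = 3) {W : Submodule F (ι → F)} (hW : NdOn q W) (hd : finrank F W = 2)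
    (hp : ¬ Cfsg.Geo.IsPlusTypeOn ⇑q W) :
    ∃ e f, e ∈ W ∧ f ∈ W ∧ q e = 1 ∧ q f = 1 ∧ QuadraticMap.polar q e f = 0 ∧
      ∀ v ∈ W, q v = 1 → ∃ c : F, v = c • e ∨ v = c • f := by
  have h3 : (3 : F) = 0 := by
    have h := FiniteField.cast_card_eq_zero F
    rw [hq] at h
    exact_mod_cast h
  have h2 : (2 : F) ≠ 0 := fun h2 => one_ne_zero (show (1 : F) = 0 by linear_combination h3 - h2)
  obtain ⟨e, he, hqe⟩ := OrthDecomp.exists_value_in hW hd.ge (one_ne_zero (α := F))
  have he0 : e ≠ 0 := fun h => zero_ne_one (α := F) (by rw [← hqe, h, map_zero])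
  have hee : QuadraticMap.polar q e e = 2 := by rw [quad_polar_self, hqe, mul_one]
  obtain ⟨z, hz, hze⟩ := SetLike.exists_of_lt (show Submodule.span F {e} < W from
    lt_of_le_of_ne ((Submodule.span_singleton_le_iff_mem _ _).2 he) fun h => by
      rw [← h, finrank_span_singleton he0] at hd; omega)
  obtain ⟨f, hf⟩ : ∃ f, f = z - (QuadraticMap.polar q e z / 2) • e := ⟨_, rfl⟩
  have hef : QuadraticMap.polar q e f = 0 := by
    rw [hf, QuadraticMap.polar_sub_right, QuadraticMap.polar_smul_right, hee, smul_eq_mul, div_mul_cancel₀ _ h2, sub_self]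
  have hfW : f ∈ W := hf ▸ W.sub_mem hz (W.smul_mem _ he)
  have hf0 : f ≠ 0 := fun h => hze (by
    rw [sub_eq_zero.1 (hf.symm.trans h)]
    exact Submodule.smul_mem _ _ (Submodule.mem_span_singleton_self e))
  have hqf0 : q f ≠ 0 := fun h => hf0 (minus_plane_aniso hd hp hfW h)
  have hqf : q f = 1 := by
    have hsq := unit_sq_one hq.le hqf0
    rcases mul_eq_zero.1 (show (q f - 1) * (q f + 1) = 0 by linear_combination hsq) with h | h
    · exact sub_eq_zero.1 h
    · exfalso
      have h0 := minus_plane_aniso hd hp (W.add_mem he hfW) (by rw [quad_add, hqe, hef, add_zero, add_comm, h])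
      have h1 := congrArg (fun u => QuadraticMap.polar q e u) h0
      simp [QuadraticMap.polar_add_right, hee, hef] at h1
      exact h2 h1
  refine ⟨e, f, he, hfW, hqe, hqf, hef, fun v hv hv1 => ?_⟩
  have hli : LinearIndependent F ![e, f] := (LinearIndependent.pair_iff' he0).2 fun c h => hqf0 (by
    rw [← h, QuadraticMap.polar_smul_right, hee, smul_eq_mul, mul_eq_zero] at hef
    rw [← h, hef.resolve_right h2, zero_smul, map_zero])
  have heq : Submodule.span F (Set.range ![e, f]) = W := by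
    refine Submodule.eq_of_le_of_finrank_le (Submodule.span_le.2 ?_) ?_
    · rintro _ ⟨i, rfl⟩; fin_cases i
      exacts [he, hfW]
    · rw [finrank_span_eq_card hli, hd, Fintype.card_fin]
  rw [← heq, Matrix.range_cons_cons_empty, Submodule.mem_span_pair] at hv
  obtain ⟨a, b, rfl⟩ := hv
  simp [quad_add, quad_smul, hqe, hqf, QuadraticMap.polar_smul_left, QuadraticMap.polar_smul_right, hef] at hv1
  by_cases ha : a = 0
  · exact ⟨b, Or.inr (by rw [ha]; simp)⟩
  by_cases hb : b = 0
  · exact ⟨a, Or.inl (by rw [hb]; simp)⟩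
  rw [unit_sq_one hq.le ha, unit_sq_one hq.le hb] at hv1
  exact absurd (show (1 : F) = 0 by linear_combination hv1) one_ne_zero

/-- The perp of a subspace inside a larger one. -/
theorem split_in (hQ : PolarNondeg q) {A D : Submodule F (ι → F)} (hA : NdOn q A) (hD : NdOn q D) (hAD : A ≤ D) :
    NdOn q (qPerp q A ⊓ D) ∧ A ⊔ (qPerp q A ⊓ D) = D ∧ finrank F A + finrank F ↥(qPerp q A ⊓ D) = finrank F D := by
  have horth : ∀ a ∈ A, ∀ b ∈ qPerp q A, QuadraticMap.polar q a b = 0 := fun a ha b hb => (mem_qPerp q).1 hb a ha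
  have htop : A ⊔ qPerp q A = ⊤ := by
    refine Submodule.eq_top_of_finrank_eq ?_
    have h := (sup_orth hA (ndOn_qPerp q hQ hA) horth).2.1
    rw [finrank_qPerp q hQ] at h
    have := Submodule.finrank_le A
    omega
  have hsup : A ⊔ (qPerp q A ⊓ D) = D := by rw [← sup_inf_assoc_of_le _ hAD, htop, top_inf_eq]
  have hnd : NdOn q (qPerp q A ⊓ D) := fun x hx h => hD x hx.2 fun y hy => by
    rw [← hsup] at hy
    obtain ⟨a, ha, b, hb, rfl⟩ := Submodule.mem_sup.1 hy
    rw [QuadraticMap.polar_add_right, h b hb, QuadraticMap.polar_comm, horth a ha x hx.1, add_zero]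
  refine ⟨hnd, hsup, ?_⟩
  have h := (sup_orth hA hnd fun a ha b hb => horth a ha b hb.1).2.1
  rw [hsup] at h
  exact h.symm

/-- A plus four-space over two elements holds exactly two anisotropic planes. -/
theorem four_space_planes (hq : Fintype.card F = 2) (hQ : PolarNondeg q) {D : Submodule F (ι → F)} (hD : NdOn q D)
    (hd : finrank F D = 4) (hp : Cfsg.Geo.IsPlusTypeOn ⇑q D) :
    ∃ A B : Submodule F (ι → F), NdOn q A ∧ NdOn q B ∧ finrank F A = 2 ∧ finrank F B = 2 ∧ SgOn q A (-1) ∧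
      SgOn q B (-1) ∧ (∀ a ∈ A, ∀ b ∈ B, QuadraticMap.polar q a b = 0) ∧ A ⊔ B = D ∧
      ∀ W ≤ D, finrank F W = 2 → (∀ v ∈ W, q v = 0 → v = 0) → W = A ∨ W = B := by
  classical
  have h2 : (2 : F) = 0 := (eq_zero_one hq 2).resolve_right fun h => one_ne_zero (show (1 : F) = 0 by linear_combination h)
  have hDs : SgOn q D 1 := (plusTypeOn_iff hD ⟨2, hd⟩).1 hp
  -- an anisotropic plane inside
  obtain ⟨U, hUD, hU, hUd⟩ := hp
  obtain ⟨x, hx, hx0⟩ := Submodule.exists_mem_ne_zero_of_ne_bot (p := U) fun h => by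
    rw [h, finrank_bot, hd] at hUd; omega
  have hqx : q x = 0 := hU x hx
  obtain ⟨z, hz, hxz⟩ : ∃ z ∈ D, QuadraticMap.polar q x z ≠ 0 := by
    by_contra hno
    push Not at hno
    exact hx0 (hD x (hUD hx) hno)
  have hxz1 := (eq_zero_one hq _).resolve_left hxz
  obtain ⟨y, hy, hxy, hqy⟩ : ∃ y ∈ D, QuadraticMap.polar q x y = 1 ∧ q y = 0 := by
    rcases eq_zero_one hq (q z) with h | h
    · exact ⟨z, hz, hxz1, h⟩
    · refine ⟨z + x, D.add_mem hz (hUD hx), ?_, ?_⟩
      · rw [QuadraticMap.polar_add_right, hxz1, quad_polar_self, h2, zero_mul, add_zero]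
      · rw [quad_add, h, hqx, QuadraticMap.polar_comm, hxz1, add_zero]
        linear_combination h2
  have hyx0 : ∀ c : F, c • x ≠ y := fun c h => by
    rw [← h, QuadraticMap.polar_smul_right, quad_polar_self, h2, zero_mul, smul_zero] at hxy
    exact zero_ne_one hxy
  obtain ⟨H₁, hH₁⟩ : ∃ H₁ : Submodule F (ι → F), H₁ = Submodule.span F {x, y} := ⟨_, rfl⟩
  have hH₁D : H₁ ≤ D := hH₁ ▸ Submodule.span_le.2 (Set.insert_subset_iff.2 ⟨hUD hx, Set.singleton_subset_iff.2 hy⟩)
  have hH₁nd : NdOn q H₁ := by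
    rw [hH₁]
    intro v hv h
    obtain ⟨a, b, rfl⟩ := Submodule.mem_span_pair.1 hv
    have e1 := h x (Submodule.subset_span (by simp))
    have e2 := h y (Submodule.subset_span (by simp))
    simp [QuadraticMap.polar_add_left, QuadraticMap.polar_smul_left, quad_polar_self, h2, hqx, hqy,
      QuadraticMap.polar_comm q y x, hxy] at e1 e2
    rw [e1, e2]; simp
  have hH₁d : finrank F H₁ = 2 := by
    have h := finrank_span_eq_card (R := F) (b := ![x, y]) ((LinearIndependent.pair_iff' hx0).2 hyx0)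
    rwa [Fintype.card_fin, Matrix.range_cons_cons_empty, ← hH₁] at h
  obtain ⟨hH₂nd, hH₁₂, hH₂d⟩ := split_in hQ hH₁nd hD hH₁D
  obtain ⟨x', y', hx', hy', hqx', hqy', hxy', -, -⟩ := exists_hyperbolic hH₂nd (by omega) ((plusTypeOn_iff hH₂nd
      ⟨1, by omega⟩).2 (by
    obtain ⟨ε, hε, hs⟩ := sgOn_cases hH₂nd ⟨1, by omega⟩
    have hs1 : SgOn q H₁ 1 := (plusTypeOn_iff hH₁nd ⟨1, hH₁d⟩).1 ⟨Submodule.span F {x},
      (Submodule.span_singleton_le_iff_mem _ _).2 (hH₁ ▸ Submodule.subset_span (by simp)),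
      fun u hu => by obtain ⟨c, rfl⟩ := Submodule.mem_span_singleton.1 hu; rw [quad_smul, hqx, mul_zero],
      by rw [finrank_span_singleton hx0, hH₁d]⟩
    have h := SgOn.sup hH₁nd hH₂nd (fun a ha b hb => (mem_qPerp q).1 hb.1 a ha) hs1 hs
    rw [hH₁₂, one_mul] at h
    exact sg_unique h hDs ▸ hs))
  have hperp : ∀ u ∈ ({x', y'} : Set (ι → F)), QuadraticMap.polar q x u = 0 ∧ QuadraticMap.polar q y u = 0 := by
    intro u hu
    have hu' : u ∈ qPerp q H₁ := by rcases hu with rfl | rfl; exacts [hx'.1, hy'.1]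
    exact ⟨(mem_qPerp q).1 hu' x (hH₁ ▸ Submodule.subset_span (by simp)),
      (mem_qPerp q).1 hu' y (hH₁ ▸ Submodule.subset_span (by simp))⟩
  obtain ⟨a, ha⟩ : ∃ a, a = x + y := ⟨_, rfl⟩
  obtain ⟨b, hb⟩ : ∃ b, b = x + (x' + y') := ⟨_, rfl⟩
  have hqa : q a = 1 := by simp [ha, quad_add, hqx, hqy, hxy]
  have hqb : q b = 1 := by
    simp [hb, quad_add, hqx, hqx', hqy', hxy', QuadraticMap.polar_add_right, (hperp x' (by simp)).1, (hperp y' (by simp)).1]
  have hab : QuadraticMap.polar q a b = 1 := by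
    simp [ha, hb, QuadraticMap.polar_add_left, QuadraticMap.polar_add_right, (hperp x' (by simp)).1,
      (hperp y' (by simp)).1, (hperp x' (by simp)).2, (hperp y' (by simp)).2, quad_polar_self, h2, hqx, hqy,
      QuadraticMap.polar_comm q y x, hxy]
  have hba : ∀ c : F, c • a ≠ b := fun c h => by
    rw [← h, QuadraticMap.polar_smul_right, quad_polar_self, h2, zero_mul, smul_zero] at hab
    exact zero_ne_one hab
  have ha0 : a ≠ 0 := fun h => zero_ne_one (α := F) (by rw [← hqa, h, map_zero])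
  obtain ⟨A, hA⟩ : ∃ A : Submodule F (ι → F), A = Submodule.span F {a, b} := ⟨_, rfl⟩
  have hAan : ∀ v ∈ A, q v = 0 → v = 0 := by
    intro v hv h0
    obtain ⟨s, t, rfl⟩ := Submodule.mem_span_pair.1 (hA ▸ hv)
    rcases eq_zero_one hq s with rfl | rfl <;> rcases eq_zero_one hq t with rfl | rfl <;>
      simp [quad_add, hqa, hqb, hab] at h0 ⊢
    exact one_ne_zero (show (1 : F) = 0 by linear_combination h0 - h2) |>.elim
  have hAd : finrank F A = 2 := by
    have h := finrank_span_eq_card (R := F) (b := ![a, b]) ((LinearIndependent.pair_iff' ha0).2 hba)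
    rwa [Fintype.card_fin, Matrix.range_cons_cons_empty, ← hA] at h
  have hAnd : NdOn q A := by
    rw [hA]
    intro v hv h
    obtain ⟨s, t, rfl⟩ := Submodule.mem_span_pair.1 hv
    have e1 := h a (Submodule.subset_span (by simp))
    have e2 := h b (Submodule.subset_span (by simp))
    simp [QuadraticMap.polar_add_left, QuadraticMap.polar_smul_left, quad_polar_self, h2, hqa, hqb,
      QuadraticMap.polar_comm q b a, hab] at e1 e2
    rw [e1, e2]; simp
  have hAD : A ≤ D := hA ▸ Submodule.span_le.2 (Set.insert_subset_iff.2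
    ⟨ha ▸ D.add_mem (hUD hx) hy, Set.singleton_subset_iff.2 (hb ▸ D.add_mem (hUD hx) (D.add_mem hx'.2 hy'.2))⟩)
  obtain ⟨hBnd, hAB, hBd⟩ := split_in hQ hAnd hD hAD
  have hsA : SgOn q A (-1) := (not_plusTypeOn_iff hAnd ⟨1, hAd⟩).1 fun ⟨U', hU', hUs, hUd'⟩ => by
    obtain ⟨w, hw, hw0⟩ := Submodule.exists_mem_ne_zero_of_ne_bot (p := U') fun h => by
      rw [h, finrank_bot, hAd] at hUd'; omega
    exact hw0 (hAan w (hU' hw) (hUs w hw))
  have horth : ∀ u ∈ A, ∀ v ∈ qPerp q A ⊓ D, QuadraticMap.polar q u v = 0 := fun u hu v hv => (mem_qPerp q).1 hv.1 u hu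
  have hBd2 : finrank F ↥(qPerp q A ⊓ D) = 2 := by omega
  have hsB : SgOn q (qPerp q A ⊓ D) (-1) := by
    obtain ⟨ε, hε, hs⟩ := sgOn_cases hBnd ⟨1, hBd2⟩
    have h := SgOn.sup hAnd hBnd horth hsA hs
    rw [hAB] at h
    have := sg_unique h hDs
    rcases hε with rfl | rfl
    · simp at this
    · exact hs
  have hBan : ∀ v ∈ qPerp q A ⊓ D, q v = 0 → v = 0 := fun v hv h0 =>
    minus_plane_aniso hBd2 ((not_plusTypeOn_iff hBnd ⟨1, hBd2⟩).2 hsB) hv h0
  refine ⟨A, qPerp q A ⊓ D, hAnd, hBnd, hAd, hBd2, hsA, hsB, horth, hAB, fun W hW hWd hWan => ?_⟩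
  have hmem : ∀ v ∈ W, v ∈ A ∨ v ∈ qPerp q A ⊓ D := by
    intro v hv
    obtain ⟨s, hs, t, ht, rfl⟩ := Submodule.mem_sup.1 (hAB.symm ▸ hW hv)
    by_cases hs0 : s = 0
    · exact Or.inr (by rwa [hs0, zero_add])
    by_cases ht0 : t = 0
    · exact Or.inl (by rwa [ht0, add_zero])
    have hs1 := (eq_zero_one hq (q s)).resolve_left fun h => hs0 (hAan s hs h)
    have ht1 := (eq_zero_one hq (q t)).resolve_left fun h => ht0 (hBan t ht h)
    have h0 := hWan _ hv (by rw [quad_add, hs1, ht1, horth s hs t ht]; linear_combination h2)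
    exfalso
    exact hs0 (hAnd s hs fun u hu => by
      rw [eq_neg_of_add_eq_zero_left h0, QuadraticMap.polar_comm, QuadraticMap.polar_neg_right, horth u hu t ht, neg_zero])
  by_cases hle : W ≤ A
  · exact Or.inl (Submodule.eq_of_le_of_finrank_le hle (by omega))
  refine Or.inr (Submodule.eq_of_le_of_finrank_le (fun v hv => ?_) (by omega))
  obtain ⟨w, hw, hwA⟩ := SetLike.not_le_iff_exists.1 hle
  rcases hmem v hv with h | h
  · rcases hmem (w + v) (W.add_mem hw hv) with h' | h'
    · exact absurd (by simpa using A.sub_mem h' h) hwA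
    · simpa using (qPerp q A ⊓ D).sub_mem h' ((hmem w hw).resolve_left hwA)
  · exact h

end CfsgLib.Techniques.AschEven
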