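/-
The plus four-space as a tensor product of two alternating planes, and its proper similitudes.
-/
import Cfsg.Agent.Lib.Classical.SmallIso.AltFour
import Cfsg.Agent.Lib.Techniques.AschEven.Planes

set_option autoImplicit false

namespace CfsgLib.Techniques.AschEven

open Matrix CfsgLib.Classical CfsgLib.Classical.SmallIso
open scoped Kronecker

variable {F : Type*} [Field F]

/-- The Gram matrix of `J ⊗ J` in the coordinates `(a, b) ↦ b + 2 a`. -/
def plusFour (F : Type*) [Field F] : Matrix (Fin 4) (Fin 4) F :=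
  !![0, 0, 0, 1; 0, 0, -1, 0; 0, -1, 0, 0; 1, 0, 0, 0]

/-- `X ⊗ 1` in the coordinates `(a, b) ↦ b + 2 a`. -/
def leftFour (X : Matrix (Fin 2) (Fin 2) F) : Matrix (Fin 4) (Fin 4) F :=
  !![X 0 0, 0, X 0 1, 0; 0, X 0 0, 0, X 0 1; X 1 0, 0, X 1 1, 0; 0, X 1 0, 0, X 1 1]

theorem leftFour_eq (X : Matrix (Fin 2) (Fin 2) F) :
    leftFour X = (X ⊗ₖ (1 : Matrix (Fin 2) (Fin 2) F)).submatrix finProdFinEquiv.symm finProdFinEquiv.symm := by
  ext i j
  fin_cases i <;> fin_cases j <;> simp [leftFour, finProdFinEquiv, Fin.divNat, Fin.modNat, Matrix.one_apply]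

theorem plusFour_eq :
    plusFour F = ((!![0, 1; -1, 0] : Matrix (Fin 2) (Fin 2) F) ⊗ₖ (!![0, 1; -1, 0] : Matrix (Fin 2) (Fin 2) F)).submatrix
      finProdFinEquiv.symm finProdFinEquiv.symm := by
  ext i j
  fin_cases i <;> fin_cases j <;> simp [plusFour, finProdFinEquiv, Fin.divNat, Fin.modNat]

theorem plusFour_sq : plusFour F * plusFour F = 1 := by
  ext i j
  fin_cases i <;> fin_cases j <;> simp [plusFour, Matrix.mul_apply, Fin.sum_univ_four]

set_option maxHeartbeats 2000000 in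
/-- A similitude of `J ⊗ J` of determinant the square of its multiplier normalises `M_2 ⊗ 1`. -/
theorem proper_similitude_normalises (h2 : (2 : F) ≠ 0) {B Bi : Matrix (Fin 4) (Fin 4) F} (hBi : B * Bi = 1) {μ : F}
    (hμ : μ ≠ 0) (hsim : Bᵀ * plusFour F * B = μ • plusFour F) (hdet : B.det = μ * μ) (X : Matrix (Fin 2) (Fin 2) F) :
    ∃ Y : Matrix (Fin 2) (Fin 2) F, B * leftFour X * Bi = leftFour Y := by
  have hiB : Bi * B = 1 := mul_eq_one_comm.1 hBi
  obtain ⟨K, hK⟩ : ∃ K, K = plusFour F := ⟨_, rfl⟩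
  rw [← hK] at hsim
  have hKK : K * K = 1 := hK ▸ plusFour_sq
  -- the inverse through the form
  have hKB : K * Bi = μ⁻¹ • (Bᵀ * K) := by
    have h1 : μ • (K * Bi) = Bᵀ * K := by
      rw [← Matrix.smul_mul, ← hsim, mul_assoc, hBi, mul_one]
    rw [← h1, smul_smul, inv_mul_cancel₀ hμ, one_smul]
  -- the trace-zero case
  have key : ∀ a b c : F, ∃ Y : Matrix (Fin 2) (Fin 2) F, B * leftFour !![a, b; c, -a] * Bi = leftFour Y := by
    intro a b c
    obtain ⟨x, hx⟩ : ∃ x : Fin 6 → F, x = ![-b, 0, a, -a, 0, c] := ⟨_, rfl⟩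
    have hS : leftFour !![a, b; c, -a] * K = altMat x := by
      subst hK hx
      ext i j
      fin_cases i <;> fin_cases j <;> simp [leftFour, plusFour, altMat, Matrix.mul_apply, Fin.sum_univ_four]
    have hdual : altMat (altDual x) = K * altMat x * K := by
      subst hK hx
      ext i j
      fin_cases i <;> fin_cases j <;> simp [plusFour, altMat, altDual, Matrix.mul_apply, Fin.sum_univ_four]
    obtain ⟨z, hz⟩ : ∃ z : Fin 6 → F, z = wedgeMat B x := ⟨_, rfl⟩
    have hzS : altMat z = B * altMat x * Bᵀ := hz ▸ altMat_wedge B x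
    have hzdual : altMat (altDual z) = K * altMat z * K := by
      have h := altDual_wedge B x
      rw [← hz, hdet, hdual] at h
      have hBit : Biᵀ * Bᵀ = 1 := by rw [← transpose_mul, hBi, transpose_one]
      have hBK : Biᵀ * K = μ⁻¹ • (K * B) := by
        have h1 : μ • (Biᵀ * K) = K * B := by
          rw [← Matrix.mul_smul, ← hsim, ← mul_assoc, ← mul_assoc, hBit, one_mul]
        rw [← h1, smul_smul, inv_mul_cancel₀ hμ, one_smul]
      calc altMat (altDual z) = Biᵀ * (Bᵀ * altMat (altDual z) * B) * Bi := by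
            rw [← mul_assoc, ← mul_assoc, hBit, one_mul, mul_assoc, hBi, mul_one]
        _ = (μ * μ) • ((Biᵀ * K) * altMat x * (K * Bi)) := by
            rw [h, Matrix.mul_smul, Matrix.smul_mul]; simp only [mul_assoc]
        _ = K * altMat z * K := by
            rw [hBK, hKB, hzS, Matrix.smul_mul, Matrix.smul_mul, Matrix.mul_smul, smul_smul, smul_smul,
              show μ * μ * μ⁻¹ * μ⁻¹ = 1 by field_simp, one_smul]
            simp only [mul_assoc]
    -- such a vector has the shape of `Y ⊗ J`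
    have e1 : z 4 = 0 := by
      have h := congrFun (congrFun hzdual 0) 2
      subst hK
      simp [plusFour, altMat, altDual, Matrix.mul_apply, Fin.sum_univ_four] at h
      exact (mul_eq_zero.1 (show (2 : F) * z 4 = 0 by linear_combination -h)).resolve_left h2
    have e2 : z 1 = 0 := by
      have h := congrFun (congrFun hzdual 1) 3
      subst hK
      simp [plusFour, altMat, altDual, Matrix.mul_apply, Fin.sum_univ_four] at h
      exact (mul_eq_zero.1 (show (2 : F) * z 1 = 0 by linear_combination -h)).resolve_left h2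
    have e3 : z 3 = -z 2 := by
      have h := congrFun (congrFun hzdual 0) 3
      subst hK
      simp [plusFour, altMat, altDual, Matrix.mul_apply, Fin.sum_univ_four] at h
      linear_combination h
    refine ⟨μ⁻¹ • !![z 2, -z 0; z 5, -z 2], ?_⟩
    have hY : altMat z * K = leftFour !![z 2, -z 0; z 5, -z 2] := by
      subst hK
      ext i j
      fin_cases i <;> fin_cases j <;> simp [leftFour, plusFour, altMat, Matrix.mul_apply, Fin.sum_univ_four, e1, e2, e3]
    calc B * leftFour !![a, b; c, -a] * Bi = B * (leftFour !![a, b; c, -a] * K) * (K * Bi) := by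
          simp only [mul_assoc]; rw [← mul_assoc K K, hKK, one_mul]
      _ = μ⁻¹ • (altMat z * K) := by
          rw [hS, hKB, hzS, Matrix.mul_smul]; simp only [mul_assoc]
      _ = leftFour (μ⁻¹ • !![z 2, -z 0; z 5, -z 2]) := by
          rw [hY]
          ext i j
          fin_cases i <;> fin_cases j <;> simp [leftFour]
  obtain ⟨t, ht⟩ : ∃ t, t = (X 0 0 + X 1 1) / 2 := ⟨_, rfl⟩
  obtain ⟨Y, hY⟩ := key ((X 0 0 - X 1 1) / 2) (X 0 1) (X 1 0)
  refine ⟨Y + t • 1, ?_⟩
  have hX : leftFour X = leftFour !![(X 0 0 - X 1 1) / 2, X 0 1; X 1 0, -((X 0 0 - X 1 1) / 2)] +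
      t • (1 : Matrix (Fin 4) (Fin 4) F) := by
    subst ht
    ext i j
    fin_cases i <;> fin_cases j <;> simp [leftFour] <;> field_simp <;> ring
  rw [hX, Matrix.mul_add, Matrix.add_mul, Matrix.mul_smul, Matrix.smul_mul, mul_one, hBi, hY]
  ext i j
  fin_cases i <;> fin_cases j <;> simp [leftFour]

open CfsgLib.Classical22 Module in
/-- A plus four-space has two orthogonal hyperbolic pairs spanning it. -/
theorem exists_two_hyperbolic [Fintype F] {ι : Type} [Fintype ι] [DecidableEq ι] {q : QuadraticForm F (ι → F)}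
    (hQ : PolarNondeg q) (hn : Fintype.card ι = 4) (hp : Cfsg.Geo.IsPlusTypeOn ⇑q ⊤) :
    ∃ x y x' y' : ι → F, q x = 0 ∧ q y = 0 ∧ q x' = 0 ∧ q y' = 0 ∧ QuadraticMap.polar q x y = 1 ∧
      QuadraticMap.polar q x' y' = 1 ∧ QuadraticMap.polar q x x' = 0 ∧ QuadraticMap.polar q x y' = 0 ∧
      QuadraticMap.polar q y x' = 0 ∧ QuadraticMap.polar q y y' = 0 := by
  have hd : finrank F (ι → F) = 4 := (Module.finrank_pi F).trans hn
  have hsD := (plus_iff_sg hQ ⟨2, hn⟩).1 hp
  obtain ⟨U, -, hU, hUd⟩ := hp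
  obtain ⟨x, hx, hx0⟩ := Submodule.exists_mem_ne_zero_of_ne_bot (p := U) fun h => by
    rw [h, finrank_bot, finrank_top, hd] at hUd; omega
  have hqx : q x = 0 := hU x hx
  have hxx : QuadraticMap.polar q x x = 0 := by rw [quad_polar_self, hqx, mul_zero]
  obtain ⟨z, hxz⟩ : ∃ z, QuadraticMap.polar q x z ≠ 0 := by
    by_contra hno
    push Not at hno
    exact hx0 (hQ x hno)
  obtain ⟨z', hxz'⟩ : ∃ z', QuadraticMap.polar q x z' = 1 :=
    ⟨(QuadraticMap.polar q x z)⁻¹ • z, by rw [QuadraticMap.polar_smul_right, smul_eq_mul, inv_mul_cancel₀ hxz]⟩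
  obtain ⟨y, hy⟩ : ∃ y, y = z' - q z' • x := ⟨_, rfl⟩
  have hxy : QuadraticMap.polar q x y = 1 := by
    rw [hy, QuadraticMap.polar_sub_right, QuadraticMap.polar_smul_right, hxz', hxx, smul_zero, sub_zero]
  have hqy : q y = 0 := by
    have h := quad_add q y (q z' • x)
    rw [hy, sub_add_cancel, ← hy, quad_smul, hqx, QuadraticMap.polar_smul_right, QuadraticMap.polar_comm, hxy] at h
    simp at h
    exact h
  obtain ⟨A, hA⟩ : ∃ A : Submodule F (ι → F), A = Submodule.span F {x, y} := ⟨_, rfl⟩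
  have hAnd : NdOn q A := by
    rw [hA]
    intro v hv h
    obtain ⟨a, b, rfl⟩ := Submodule.mem_span_pair.1 hv
    have e1 := h x (Submodule.subset_span (by simp))
    have e2 := h y (Submodule.subset_span (by simp))
    simp [QuadraticMap.polar_add_left, QuadraticMap.polar_smul_left, hxx, quad_polar_self, hqy,
      QuadraticMap.polar_comm q y x, hxy] at e1 e2
    rw [e1, e2]; simp
  have hAd : finrank F A = 2 := by
    have hli : LinearIndependent F ![x, y] := (LinearIndependent.pair_iff' hx0).2 fun c h => by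
      rw [← h, QuadraticMap.polar_smul_right, hxx, smul_zero] at hxy
      exact zero_ne_one hxy
    have h := finrank_span_eq_card hli
    rwa [Fintype.card_fin, Matrix.range_cons_cons_empty, ← hA] at h
  have hBd : finrank F (qPerp q A) = 2 := by rw [finrank_qPerp q hQ, hd, hAd]
  have hBnd := ndOn_qPerp q hQ hAnd
  have hBp : Cfsg.Geo.IsPlusTypeOn ⇑q (qPerp q A) := by
    rw [plusTypeOn_iff hBnd ⟨1, hBd⟩]
    obtain ⟨ε, hε, hs⟩ := sgOn_cases hBnd ⟨1, hBd⟩
    have hs1 : SgOn q A 1 := (plusTypeOn_iff hAnd ⟨1, hAd⟩).1 ⟨Submodule.span F {x},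
      (Submodule.span_singleton_le_iff_mem _ _).2 (hA ▸ Submodule.subset_span (by simp)),
      fun u hu => by obtain ⟨c, rfl⟩ := Submodule.mem_span_singleton.1 hu; rw [quad_smul, hqx, mul_zero],
      by rw [finrank_span_singleton hx0, hAd]⟩
    have horth : ∀ a ∈ A, ∀ b ∈ qPerp q A, QuadraticMap.polar q a b = 0 := fun a ha b hb => (mem_qPerp q).1 hb a ha
    have h := SgOn.sup hAnd hBnd horth hs1 hs
    have htop : A ⊔ qPerp q A = ⊤ := Submodule.eq_top_of_finrank_eq (by
      rw [(sup_orth hAnd hBnd horth).2.1, hAd, hBd, hd])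
    rw [htop, one_mul, sgOn_top] at h
    exact OrthType.sg_unique h hsD ▸ hs
  obtain ⟨x', y', hx', hy', hqx', hqy', hxy', -, -⟩ := exists_hyperbolic hBnd hBd hBp
  have hm : x ∈ A ∧ y ∈ A := hA ▸ ⟨Submodule.subset_span (by simp), Submodule.subset_span (by simp)⟩
  exact ⟨x, y, x', y', hqx, hqy, hqx', hqy', hxy, hxy', (mem_qPerp q).1 hx' x hm.1, (mem_qPerp q).1 hy' x hm.1,
    (mem_qPerp q).1 hx' y hm.2, (mem_qPerp q).1 hy' y hm.2⟩

end CfsgLib.Techniques.AschEven
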