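/-
Refinements of block systems of small members: subfield structures, lines and planes.
-/
import Cfsg.Agent.Lib.Techniques.AschEven.Planes
import Cfsg.Agent.Lib.Techniques.AschOmega.ThreeField
import Cfsg.Agent.Lib.Techniques.AschOmega.Members
import Cfsg.Agent.Lib.Techniques.AschPrime.Subfield
import Cfsg.Agent.Lib.Aschbacher.Rational

set_option autoImplicit false

namespace CfsgLib.Techniques.AschEven

open Matrix Module CfsgLib.Classical CfsgLib.Classical22
open CfsgLib.Techniques.AschOmega (map_isometry polar_isometry lines_of_orth_basis)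
open scoped MatrixGroups

variable {F : Type*} [Field F] [Fintype F] {ι : Type} [Fintype ι] [DecidableEq ι] {q : QuadraticForm F (ι → F)}

theorem maps_mem {t : ℕ} {D : Fin t → Submodule F (ι → F)} {g : GL ι F}
    (hg : g ∈ Cfsg.Geo.decompositionStabilizer D) :
    ∃ σ : Equiv.Perm (Fin t), ∀ i, ∀ x ∈ D i, (g : Matrix ι ι F) *ᵥ x ∈ D (σ i) := by
  obtain ⟨σ, hσ⟩ := hg
  exact ⟨σ, fun i x hx => hσ i ▸ ⟨x, hx, Matrix.toLin'_apply _ _⟩⟩

/-- Columns over a subfield give a rational structure. -/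
theorem subfield_of_frame {w : ι → ι → F} (hli : LinearIndependent F w) {F₀ : Subfield F} {ζ : F}
    (hq : ∀ i, ζ * q (w i) ∈ F₀) (hp : ∀ i j, ζ * QuadraticMap.polar q (w i) (w j) ∈ F₀) {H : Subgroup (GL ι F)}
    (hg : ∀ h ∈ H, ∀ j, ∃ c : ι → F, (∀ i, c i ∈ F₀) ∧ (h : Matrix ι ι F) *ᵥ w j = ∑ i, c i • w i) :
    ∃ P : GL ι F, Cfsg.Geo.IsQuadFormRationalStructure (fun v => ζ * q v) F₀ P ∧
      H ≤ Cfsg.Geo.subfieldSubgroup F₀ P := by
  classical
  obtain ⟨M, hM⟩ : ∃ M : Matrix ι ι F, M = Matrix.of fun i j => w j i := ⟨_, rfl⟩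
  have hcol : M.col = w := by rw [hM]; rfl
  obtain ⟨P, hP⟩ := Matrix.linearIndependent_cols_iff_isUnit.1 (hcol.symm ▸ hli : LinearIndependent F M.col)
  have hPu : ∀ u : ι → F, (P : Matrix ι ι F) *ᵥ u = ∑ i, u i • w i := fun u => by
    rw [hP, hM]
    funext k
    simp [mulVec, dotProduct, Finset.sum_apply, mul_comm]
  refine ⟨P, fun u hu => ?_, fun h hh => CfsgLib.Aschbacher.mem_subfieldSubgroup one_ne_zero fun i j => ?_⟩
  · show ζ * q ((P : Matrix ι ι F) *ᵥ u) ∈ F₀
    rw [hPu]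
    refine (Finset.sum_induction (fun i => u i • w i) (fun x : ι → F => ζ * q x ∈ F₀ ∧ ∀ j, ζ * QuadraticMap.polar q x (w j) ∈ F₀ ∧
      ∃ c : ι → F, (∀ i, c i ∈ F₀) ∧ x = ∑ i, c i • w i) ?_ ?_ ?_ (s := Finset.univ)).1
    · intro x y hx hy
      have hxy : ζ * QuadraticMap.polar q x y ∈ F₀ := by
        rcases isEmpty_or_nonempty ι with he | ⟨⟨j₀⟩⟩
        · rw [Subsingleton.elim x 0, QuadraticMap.polar_zero_left, mul_zero]; exact F₀.zero_mem
        obtain ⟨c, hc, rfl⟩ := (hy.2 j₀).2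
        rw [← QuadraticMap.polarBilin_apply_apply, map_sum, Finset.mul_sum]
        refine sum_mem fun i _ => ?_
        rw [map_smul, QuadraticMap.polarBilin_apply_apply, smul_eq_mul, mul_left_comm]
        exact F₀.mul_mem (hc i) (hx.2 i).1
      refine ⟨?_, fun j => ⟨?_, ?_⟩⟩
      · rw [quad_add, mul_add, mul_add]
        exact F₀.add_mem (F₀.add_mem hx.1 hy.1) hxy
      · rw [QuadraticMap.polar_add_left, mul_add]
        exact F₀.add_mem (hx.2 j).1 (hy.2 j).1
      · obtain ⟨c, hc, hcx⟩ := (hx.2 j).2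
        obtain ⟨d, hd, hdy⟩ := (hy.2 j).2
        exact ⟨c + d, fun i => F₀.add_mem (hc i) (hd i),
          by rw [hcx, hdy, ← Finset.sum_add_distrib]; simp [add_smul]⟩
    · exact ⟨by simp, fun j => ⟨by simp, 0, fun _ => F₀.zero_mem, by simp⟩⟩
    · intro i _
      refine ⟨?_, fun j => ⟨?_, Pi.single i (u i), fun k => ?_, ?_⟩⟩
      · rw [quad_smul, mul_left_comm]
        exact F₀.mul_mem (F₀.mul_mem (hu i) (hu i)) (hq i)
      · rw [QuadraticMap.polar_smul_left, smul_eq_mul, mul_left_comm]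
        exact F₀.mul_mem (hu i) (hp i j)
      · by_cases hk : k = i
        · subst hk; simpa using hu k
        · simp [Pi.single_eq_of_ne hk]
      · rw [Finset.sum_eq_single i (fun k _ hk => by simp [Pi.single_eq_of_ne hk]) (by simp)]; simp
  · obtain ⟨c, hc, hcj⟩ := hg h hh j
    rw [one_mul]
    have e : ((P⁻¹ * h * P : GL ι F) : Matrix ι ι F) *ᵥ Pi.single j 1 = c := by
      rw [Units.val_mul, Units.val_mul, ← mulVec_mulVec, ← mulVec_mulVec,
        show (P : Matrix ι ι F) *ᵥ Pi.single j 1 = w j by rw [hP, mulVec_single_one, hcol], hcj, ← hPu, mulVec_mulVec,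
        Units.inv_mul, one_mulVec]
    rw [← e] at hc
    have := hc i
    rwa [mulVec_single_one] at this

/-- A field of non-prime order has a subfield of prime index. -/
theorem exists_subfield_of_not_prime (h : ¬ (Fintype.card F).Prime) :
    ∃ (F₀ : Subfield F) (r : ℕ), r.Prime ∧ Fintype.card F = Nat.card F₀ ^ r := by
  obtain ⟨p, _⟩ := CharP.exists F
  have hp : p.Prime := CharP.char_is_prime F p
  obtain ⟨e, -, he⟩ := FiniteField.card F p
  obtain ⟨S, hS, -⟩ := CfsgLib.Techniques.AschPrime.exists_subfield_pow hp he (one_dvd _) one_ne_zero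
  rw [pow_one] at hS
  obtain ⟨F₁, r, hr, hc, -⟩ := CfsgLib.Techniques.AschPrime.exists_prime_index S fun hS' => h (by
    rw [show Fintype.card F = p by
      rw [← hS, ← Nat.card_eq_fintype_card, hS']
      exact Nat.card_congr (Equiv.Set.univ F).symm]
    exact hp)
  exact ⟨F₁, r, hr, hc⟩

/-- Isometric lines over a field of non-prime order lie in a subfield group. -/
theorem lines_subfield (hnp : ¬ (Fintype.card F).Prime) (h2 : (2 : F) ≠ 0) {t : ℕ}
    {D : Fin t → Submodule F (ι → F)} (hD : Cfsg.Geo.IsOrthogonalMDecomposition ⇑q 1 D) {H : Subgroup (GL ι F)}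
    (hiso : H ≤ Cfsg.isometryGroup F ⇑q) (hle : H ≤ Cfsg.Geo.decompositionStabilizer D) :
    ∃ (F₀ : Subfield F) (r : ℕ) (P : GL ι F) (ζ : F), r.Prime ∧ Fintype.card F = Nat.card F₀ ^ r ∧ ζ ≠ 0 ∧
      Cfsg.Geo.IsQuadFormRationalStructure (fun v => ζ * q v) F₀ P ∧ H ≤ Cfsg.Geo.subfieldSubgroup F₀ P := by
  classical
  obtain ⟨F₀, r, hr, hc⟩ := exists_subfield_of_not_prime hnp
  have hd := OrthDecomp.data_of_decomp q hD
  have ht := hD.decomp.decomp.two_le
  obtain ⟨u₀, hu₀, hu₀0⟩ := Submodule.exists_mem_ne_zero_of_ne_bot (p := D ⟨0, by omega⟩) fun h => by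
    have h1 := hd.dim ⟨0, by omega⟩
    rw [h, finrank_bot] at h1
    exact zero_ne_one h1
  choose φ hφ using hD.isometric ⟨0, by omega⟩
  obtain ⟨u, hu⟩ : ∃ u : Fin t → ι → F, u = fun i => (φ i ⟨u₀, hu₀⟩ : ι → F) := ⟨_, rfl⟩
  have huD : ∀ i, u i ∈ D i := fun i => hu ▸ (φ i ⟨u₀, hu₀⟩).2
  have huq : ∀ i, q (u i) = q u₀ := fun i => hu ▸ hφ i ⟨u₀, hu₀⟩
  have hu0 : ∀ i, u i ≠ 0 := fun i h => by
    rw [hu] at h
    exact hu₀0 (congrArg Subtype.val ((φ i).map_eq_zero_iff.1 (Subtype.ext h)))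
  have hspan : ∀ i, ∀ x ∈ D i, ∃ c : F, c • u i = x := fun i x hx => by
    obtain ⟨c, hc⟩ := (finrank_eq_one_iff_of_nonzero' (⟨_, huD i⟩ : D i) fun h => hu0 i (congrArg Subtype.val h)).mp
      (hd.dim i) ⟨x, hx⟩
    exact ⟨c, congrArg Subtype.val hc⟩
  have ha : q u₀ ≠ 0 := fun h => hu₀0 (hd.nd _ u₀ hu₀ fun y hy => by
    obtain ⟨e, he⟩ := (finrank_eq_one_iff_of_nonzero' (⟨u₀, hu₀⟩ : D ⟨0, by omega⟩) fun h => hu₀0
      (congrArg Subtype.val h)).mp (hd.dim _) ⟨y, hy⟩
    obtain rfl : e • u₀ = y := congrArg Subtype.val he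
    show QuadraticMap.polar q u₀ (e • u₀) = 0
    rw [QuadraticMap.polar_smul_right, quad_polar_self, h, mul_zero, smul_zero])
  obtain ⟨E⟩ : Nonempty (ι ≃ Fin t) := Fintype.card_eq.1 (by
    rw [OrthDecomp.card_eq_mul hD.decomp.decomp, mul_one, Fintype.card_fin])
  have hpol : ∀ i j, QuadraticMap.polar q (u i) (u j) = if i = j then 2 * q u₀ else 0 := fun i j => by
    by_cases hij : i = j
    · subst hij; rw [if_pos rfl, quad_polar_self, huq]
    · rw [if_neg hij, hD.decomp.orthogonal i j hij _ (huD i) _ (huD j)]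
  have hli : LinearIndependent F fun i => u (E i) := by
    rw [Fintype.linearIndependent_iff]
    intro c hc' i
    have h1 := congrArg (fun x => QuadraticMap.polarBilin q x (u (E i))) hc'
    simp [map_sum, LinearMap.coe_sum, Finset.sum_apply, QuadraticMap.polar_smul_left, hpol, ha, h2] at h1
    exact h1
  refine Exists.elim (subfield_of_frame (q := q) (w := fun i => u (E i)) (F₀ := F₀) (ζ := (q u₀)⁻¹) (H := H) hli
    (fun i => by rw [huq, inv_mul_cancel₀ ha]; exact F₀.one_mem) (fun i j => ?_) (fun h hh j => ?_))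
    fun P hP => ⟨F₀, r, P, _, hr, hc, inv_ne_zero ha, hP.1, hP.2⟩
  · rw [hpol]
    split_ifs
    · rw [mul_left_comm, inv_mul_cancel₀ ha, mul_one]
      exact ofNat_mem F₀ 2
    · rw [mul_zero]; exact F₀.zero_mem
  · obtain ⟨σ, hσ⟩ := maps_mem (hle hh)
    obtain ⟨c, hcv⟩ := hspan _ _ (hσ _ _ (huD (E j)))
    refine ⟨Pi.single (E.symm (σ (E j))) c, fun i => ?_, ?_⟩
    · by_cases hi : i = E.symm (σ (E j))
      · subst hi
        have h1 := map_isometry (hiso hh) (u (E j))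
        rw [← hcv, quad_smul, huq, huq] at h1
        simp only [Pi.single_eq_same]
        rcases mul_eq_zero.1 (show (c - 1) * (c + 1) = 0 by
          linear_combination mul_right_cancel₀ ha (h1.trans (one_mul _).symm)) with h | h
        · rw [sub_eq_zero.1 h]; exact F₀.one_mem
        · rw [eq_neg_of_add_eq_zero_left h]; exact F₀.neg_mem F₀.one_mem
      · rw [Pi.single_eq_of_ne hi]; exact F₀.zero_mem
    · rw [← hcv, Finset.sum_eq_single (E.symm (σ (E j))) (fun k _ hk => by simp [Pi.single_eq_of_ne hk]) (by simp)]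
      simp

/-- Plus planes over at most three elements leave a proper subspace invariant. -/
theorem planes_plus_small (hq : Fintype.card F ≤ 3) {t : ℕ} {D : Fin t → Submodule F (ι → F)}
    (hD : Cfsg.Geo.IsOrthogonalMDecomposition ⇑q 2 D) (hp : ∀ i, Cfsg.Geo.IsPlusTypeOn ⇑q (D i))
    {H : Subgroup (GL ι F)} (hiso : H ≤ Cfsg.isometryGroup F ⇑q) (hle : H ≤ Cfsg.Geo.decompositionStabilizer D) :
    ¬ Cfsg.Geo.ActsIrreducibly (Cfsg.Geo.matrixSet H) := by
  intro hirr
  have hd := OrthDecomp.data_of_decomp q hD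
  choose a haD hqa hval using fun i => small_plus_value hq (hd.nd i) (hd.dim i) (hp i)
  obtain ⟨S, hS⟩ : ∃ S : Submodule F (ι → F), S = Submodule.span F (Set.range a) := ⟨_, rfl⟩
  have ht := hD.decomp.decomp.two_le
  rcases hirr S (by
      rintro _ ⟨g, hg, rfl⟩
      rw [hS, Submodule.map_span_le]
      rintro _ ⟨i, rfl⟩
      obtain ⟨σ, hσ⟩ := maps_mem (hle hg)
      obtain ⟨c, hc⟩ := hval _ _ (hσ i _ (haD i)) ((map_isometry (hiso hg) _).trans (hqa i))
      rw [Matrix.toLin'_apply, hc]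
      exact Submodule.smul_mem _ _ (Submodule.subset_span ⟨_, rfl⟩)) with h | h
  · have hmem : a ⟨0, by omega⟩ ∈ S := hS ▸ Submodule.subset_span ⟨_, rfl⟩
    rw [h, Submodule.mem_bot] at hmem
    exact zero_ne_one (α := F) (by rw [← hqa ⟨0, by omega⟩, hmem, map_zero])
  · have h1 : finrank F S ≤ t := by
      rw [hS]
      exact (finrank_range_le_card a).trans (by simp)
    rw [h, finrank_top, Module.finrank_pi, OrthDecomp.card_eq_mul hD.decomp.decomp] at h1
    omega

/-- Planes with orthogonal frames of value one are refined by lines. -/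
theorem planes_to_lines (h2 : (2 : F) ≠ 0) {t n : ℕ} (hn : Fintype.card ι = n) {D : Fin t → Submodule F (ι → F)}
    (hD : Cfsg.Geo.IsOrthogonalMDecomposition ⇑q 2 D)
    (hfr : ∀ i, ∃ e f, e ∈ D i ∧ f ∈ D i ∧ q e = 1 ∧ q f = 1 ∧ QuadraticMap.polar q e f = 0 ∧
      ∀ v ∈ D i, q v = 1 → ∃ c : F, v = c • e ∨ v = c • f) :
    ∃ D' : Fin n → Submodule F (ι → F), Cfsg.Geo.IsOrthogonalMDecomposition ⇑q 1 D' ∧
      Cfsg.Geo.decompositionStabilizer D ⊓ Cfsg.isometryGroup F ⇑q ≤ Cfsg.Geo.decompositionStabilizer D' := by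
  classical
  choose e f he hf hqe hqf hef hval using hfr
  have ht := hD.decomp.decomp.two_le
  have hnt : n = t * 2 := hn ▸ OrthDecomp.card_eq_mul hD.decomp.decomp
  obtain ⟨w, hw⟩ : ∃ w : Fin t × Fin 2 → ι → F, w = fun x => ![e x.1, f x.1] x.2 := ⟨_, rfl⟩
  have hwD : ∀ x, w x ∈ D x.1 := fun ⟨i, x⟩ => by subst hw; fin_cases x <;> simp [he, hf]
  have hwp : ∀ x y, QuadraticMap.polar q (w x) (w y) = if x = y then (2 : F) else 0 := by
    rintro ⟨i, x⟩ ⟨j, y⟩
    by_cases hij : i = j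
    · subst hij hw
      fin_cases x <;> fin_cases y <;> simp [quad_polar_self, hqe, hqf, hef, QuadraticMap.polar_comm q (f i) (e i)]
    · rw [if_neg fun h => hij (congrArg Prod.fst h), hD.decomp.orthogonal i j hij _ (hwD (i, x)) _ (hwD (j, y))]
  let E : Fin n ≃ Fin t × Fin 2 := (finCongr hnt).trans finProdFinEquiv.symm
  obtain ⟨D', -, hD', hst⟩ := lines_of_orth_basis h2 (by omega) hn (q := q) (w := fun x => w (E x)) h2
    (fun x y => by rw [hwp]; simp)
  refine ⟨D', hD', fun g hg => hst g fun x => ?_⟩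
  obtain ⟨σ, hσ⟩ := maps_mem hg.1
  have hqw : q (w (E x)) = 1 := by
    obtain ⟨i, b⟩ := E x
    subst hw
    fin_cases b <;> simp [hqe, hqf]
  obtain ⟨c, hc | hc⟩ := hval _ _ (hσ _ _ (hwD (E x))) ((map_isometry hg.2 _).trans hqw)
  · exact ⟨E.symm (σ (E x).1, 0), c, by rw [hc, Equiv.apply_symm_apply, hw]; rfl⟩
  · exact ⟨E.symm (σ (E x).1, 1), c, by rw [hc, Equiv.apply_symm_apply, hw]; rfl⟩

/-- Plus planes over four elements have a rational structure over two elements. -/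
theorem planes_four (hq : Fintype.card F = 4) {t : ℕ} {D : Fin t → Submodule F (ι → F)}
    (hD : Cfsg.Geo.IsOrthogonalMDecomposition ⇑q 2 D) (hp : ∀ i, Cfsg.Geo.IsPlusTypeOn ⇑q (D i))
    {H : Subgroup (GL ι F)} (hiso : H ≤ Cfsg.isometryGroup F ⇑q) (hle : H ≤ Cfsg.Geo.decompositionStabilizer D) :
    ∃ (F₀ : Subfield F) (r : ℕ) (P : GL ι F) (ζ : F), r.Prime ∧ Fintype.card F = Nat.card F₀ ^ r ∧ ζ ≠ 0 ∧
      Cfsg.Geo.IsQuadFormRationalStructure (fun v => ζ * q v) F₀ P ∧ H ≤ Cfsg.Geo.subfieldSubgroup F₀ P := by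
  classical
  obtain ⟨F₀, r, hr, hc⟩ := exists_subfield_of_not_prime (F := F) (by rw [hq]; decide)
  have hd := OrthDecomp.data_of_decomp q hD
  choose a b haD hbD hqa hqb hab h2' hspan hval using fun i => four_plus_frame hq (hd.nd i) (hd.dim i) (hp i)
  have ht := hD.decomp.decomp.two_le
  have h2 : (2 : F) = 0 := h2' ⟨0, by omega⟩
  obtain ⟨w, hw⟩ : ∃ w : Fin t × Fin 2 → ι → F, w = fun x => ![a x.1, b x.1] x.2 := ⟨_, rfl⟩
  have hwD : ∀ x, w x ∈ D x.1 := fun ⟨i, x⟩ => by subst hw; fin_cases x <;> simp [haD, hbD]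
  have hwp : ∀ x y, QuadraticMap.polar q (w x) (w y) = if x.1 = y.1 ∧ x.2 ≠ y.2 then (1 : F) else 0 := by
    rintro ⟨i, x⟩ ⟨j, y⟩
    by_cases hij : i = j
    · subst hij hw
      fin_cases x <;> fin_cases y <;> simp [quad_polar_self, h2, hqa, hqb, hab, QuadraticMap.polar_comm q (b i) (a i)]
    · rw [if_neg fun h => hij h.1, hD.decomp.orthogonal i j hij _ (hwD (i, x)) _ (hwD (j, y))]
  obtain ⟨E⟩ : Nonempty (ι ≃ Fin t × Fin 2) := Fintype.card_eq.1 (by
    rw [OrthDecomp.card_eq_mul hD.decomp.decomp, Fintype.card_prod, Fintype.card_fin, Fintype.card_fin])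
  have hli : LinearIndependent F fun i => w (E i) := by
    rw [Fintype.linearIndependent_iff]
    intro c hc' i
    obtain ⟨⟨l, x⟩, rfl⟩ := E.symm.surjective i
    have h1 := congrArg (fun z => QuadraticMap.polarBilin q z (w (l, 1 - x))) hc'
    simp only [map_sum, map_smul, LinearMap.coe_sum, Finset.sum_apply, LinearMap.smul_apply,
      QuadraticMap.polarBilin_apply_apply, smul_eq_mul, map_zero, LinearMap.zero_apply] at h1
    rw [← Equiv.sum_comp E.symm] at h1
    simp only [Equiv.apply_symm_apply, hwp] at h1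
    rw [Finset.sum_eq_single (l, x) (fun z _ hz => ?_) (by simp)] at h1
    · fin_cases x <;> simpa using h1
    · rw [if_neg, mul_zero]
      rintro ⟨h1', h2''⟩
      refine hz (Prod.ext h1' ?_)
      obtain ⟨z1, z2⟩ := z
      fin_cases x <;> fin_cases z2 <;> simp_all
  refine Exists.elim (subfield_of_frame (q := q) (w := fun i => w (E i)) (F₀ := F₀) (ζ := (1 : F)) (H := H) hli
    (fun i => ?_) (fun i j => ?_) (fun h hh j => ?_))
    fun P hP => ⟨F₀, r, P, 1, hr, hc, one_ne_zero, hP.1, hP.2⟩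
  · rw [one_mul]
    obtain ⟨l, x⟩ := E i
    subst hw
    fin_cases x <;> simp [hqa, hqb]
  · rw [one_mul, hwp]
    split_ifs
    · exact F₀.one_mem
    · exact F₀.zero_mem
  · obtain ⟨σ, hσ⟩ := maps_mem (hle hh)
    obtain ⟨m, hm⟩ : ∃ m, m = σ (E j).1 := ⟨_, rfl⟩
    have hqw : q (w (E j)) = 1 := by
      obtain ⟨l, x⟩ := E j
      subst hw
      fin_cases x <;> simp [hqa, hqb]
    have hv := hval _ _ (hm ▸ hσ _ _ (hwD (E j))) ((map_isometry (hiso hh) _).trans hqw)
    obtain ⟨s, s', hss, hs⟩ : ∃ s s' : F, (s ∈ F₀ ∧ s' ∈ F₀) ∧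
        (h : Matrix ι ι F) *ᵥ w (E j) = s • w (m, 0) + s' • w (m, 1) := by
      subst hw
      rcases hv with hv | hv | hv <;> simp only [hv]
      · exact ⟨1, 0, ⟨F₀.one_mem, F₀.zero_mem⟩, by simp⟩
      · exact ⟨0, 1, ⟨F₀.zero_mem, F₀.one_mem⟩, by simp⟩
      · exact ⟨1, 1, ⟨F₀.one_mem, F₀.one_mem⟩, by simp⟩
    refine ⟨Pi.single (E.symm (m, 0)) s + Pi.single (E.symm (m, 1)) s', fun i => ?_, ?_⟩
    · rw [Pi.add_apply, Pi.single_apply, Pi.single_apply]
      refine F₀.add_mem ?_ ?_ <;> split_ifs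
      exacts [hss.1, F₀.zero_mem, hss.2, F₀.zero_mem]
    · simp only [hs, Pi.add_apply, add_smul, Finset.sum_add_distrib]
      congr 1 <;> simp [Pi.single_apply, ite_smul]

/-- An orthogonal system of isometric anisotropic planes refines plus four-spaces over two elements. -/
theorem fours_to_planes (hq : Fintype.card F = 2) (hQ : PolarNondeg q) {t : ℕ} {D : Fin t → Submodule F (ι → F)}
    (hD : Cfsg.Geo.IsOrthogonalMDecomposition ⇑q 4 D) (hp : ∀ i, Cfsg.Geo.IsPlusTypeOn ⇑q (D i)) {s : ℕ}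
    (hs : s = t * 2) :
    ∃ D' : Fin s → Submodule F (ι → F), Cfsg.Geo.IsOrthogonalMDecomposition ⇑q 2 D' ∧
      (∀ i, ¬ Cfsg.Geo.IsPlusTypeOn ⇑q (D' i)) ∧
      Cfsg.Geo.decompositionStabilizer D ⊓ Cfsg.isometryGroup F ⇑q ≤ Cfsg.Geo.decompositionStabilizer D' := by
  classical
  have hd := OrthDecomp.data_of_decomp q hD
  choose A B hA hB hAd hBd hAs hBs horth hsup huniq using fun i => four_space_planes hq hQ (hd.nd i) (hd.dim i) (hp i)
  let E : Fin s ≃ Fin t × Fin 2 := (finCongr hs).trans finProdFinEquiv.symm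
  obtain ⟨N, hN⟩ : ∃ N : Fin t × Fin 2 → Submodule F (ι → F), N = fun x => ![A x.1, B x.1] x.2 := ⟨_, rfl⟩
  have hNnd : ∀ x, NdOn q (N x) := fun ⟨i, x⟩ => by subst hN; fin_cases x <;> simp [hA, hB]
  have hNd : ∀ x, finrank F (N x) = 2 := fun ⟨i, x⟩ => by subst hN; fin_cases x; exacts [hAd i, hBd i]
  have hNs : ∀ x, SgOn q (N x) (-1) := fun ⟨i, x⟩ => by subst hN; fin_cases x <;> simp [hAs, hBs]
  have hNle : ∀ x, N x ≤ D x.1 := fun ⟨i, x⟩ => by
    subst hN; rw [← hsup i]; fin_cases x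
    exacts [le_sup_left, le_sup_right]
  have hNmin : ∀ x, ¬ Cfsg.Geo.IsPlusTypeOn ⇑q (N x) := fun x => (not_plusTypeOn_iff (hNnd x) ⟨1, hNd x⟩).2 (hNs x)
  have hNorth : ∀ x y, x ≠ y → ∀ a ∈ N x, ∀ b ∈ N y, QuadraticMap.polar q a b = 0 := by
    rintro ⟨i, x⟩ ⟨j, y⟩ hxy a ha b hb
    by_cases hij : i = j
    · subst hij hN
      fin_cases x <;> fin_cases y <;> simp at hxy ha hb
      · exact horth i a ha b hb
      · exact (QuadraticMap.polar_comm q a b).trans (horth i b hb a ha)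
    · exact hD.decomp.orthogonal i j hij _ (hNle _ ha) _ (hNle _ hb)
  have hinj : Function.Injective N := by
    intro x y h
    by_contra hxy
    obtain ⟨v, hv, hv0⟩ := Submodule.exists_mem_ne_zero_of_ne_bot (p := N x) fun h0 => by
      have := hNd x
      rw [h0, finrank_bot] at this
      omega
    exact hv0 (hNnd x v hv fun u hu => hNorth x y hxy v hv u (h ▸ hu))
  refine ⟨fun i => N (E i), ⟨⟨⟨?_, two_pos, fun i => hNd _, ?_, ?_⟩, fun i => isNondegenerateOn_of_ndOn (hNnd _),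
    fun i j hij => hNorth _ _ (E.injective.ne hij)⟩, fun i j => isometric_iff.2 (OrthType.Sg.isom (hNs _) (hNs _)
      (polarNondeg_res (hNnd _)) (polarNondeg_res (hNnd _)) ((hNd _).trans (hNd _).symm))⟩, fun i => hNmin _, ?_⟩
  · have := hD.decomp.decomp.two_le; omega
  · intro i
    rw [disjoint_iff, eq_bot_iff]
    rintro v ⟨hv, hv'⟩
    refine (Submodule.mem_bot F).2 (hNnd _ v hv fun u hu => ?_)
    have hle : (⨆ (j : Fin s) (_ : j ≠ i), N (E j)) ≤ qPerp q (N (E i)) :=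
      iSup₂_le fun j hj z hz => (mem_qPerp q).2 fun u hu => hNorth _ _ (E.injective.ne hj.symm) u hu z hz
    exact (QuadraticMap.polar_comm q v u).trans ((mem_qPerp q).1 (hle hv') u hu)
  · rw [eq_top_iff, ← hd.sup]
    refine iSup_le fun i => (hsup i).ge.trans (sup_le ?_ ?_)
    · refine le_trans (le_of_eq ?_) (le_iSup (fun j => N (E j)) (E.symm (i, 0)))
      simp [hN]
    · refine le_trans (le_of_eq ?_) (le_iSup (fun j => N (E j)) (E.symm (i, 1)))
      simp [hN]
  · intro g hg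
    obtain ⟨σ, hσ⟩ := maps_mem hg.1
    have hmap : ∀ x, ∃ y, (N x).map (Matrix.toLin' (g : Matrix ι ι F)) = N y := by
      intro x
      have hinjg : Function.Injective (Matrix.toLin' (g : Matrix ι ι F)) := fun u v h => by
        simp only [Matrix.toLin'_apply] at h
        exact CfsgLib.Transvec.mulVec_injective g h
      rcases huniq (σ x.1) ((N x).map (Matrix.toLin' (g : Matrix ι ι F)))
        (by rintro _ ⟨v, hv, rfl⟩; exact Matrix.toLin'_apply (g : Matrix ι ι F) v ▸ hσ _ v (hNle x hv))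
        (by rw [← (Submodule.equivMapOfInjective _ hinjg _).finrank_eq, hNd])
        (by
          rintro _ ⟨v, hv, rfl⟩ h0
          rw [Matrix.toLin'_apply, map_isometry hg.2] at h0
          rw [minus_plane_aniso (hNd x) (hNmin x) hv h0, map_zero]) with h | h
      · exact ⟨(σ x.1, 0), by rw [h, hN]; rfl⟩
      · exact ⟨(σ x.1, 1), by rw [h, hN]; rfl⟩
    choose τ hτ using hmap
    have hτinj : Function.Injective τ := fun x y h => hinj
      (Submodule.map_injective_of_injective (f := Matrix.toLin' (g : Matrix ι ι F)) (fun u v h => by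
        simp only [Matrix.toLin'_apply] at h
        exact CfsgLib.Transvec.mulVec_injective g h) (by rw [hτ, hτ, h]))
    exact ⟨E.trans ((Equiv.ofBijective τ ⟨hτinj, Finite.injective_iff_surjective.1 hτinj⟩).trans E.symm),
      fun i => by rw [hτ]; simp; rfl⟩

end CfsgLib.Techniques.AschEven
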