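/-
A self-adjoint field of matrices of a quadratic form in characteristic two.
-/
import Cfsg.Agent.Lib.Techniques.AschEven.Planes

set_option autoImplicit false

namespace CfsgLib.Techniques.AschEven

open Matrix Module CfsgLib.Classical CfsgLib.Classical22

variable {F : Type*} [Field F] [Fintype F] {ι : Type} [Fintype ι] [DecidableEq ι] {q : QuadraticForm F (ι → F)}

/-- In characteristic two a self-adjoint field of degree `r` forces the dimension to be a multiple of `2 r`. -/
theorem dvd_of_selfAdjoint_two (hQ : PolarNondeg q) (h2 : (2 : F) = 0) {r : ℕ}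
    {K : Subalgebra F (Matrix ι ι F)} (hK : Cfsg.Geo.IsFieldSubalgebra r K)
    (hsa : Cfsg.Geo.IsSelfAdjointFor (QuadraticMap.polar ⇑q) K) : 2 * r ∣ Fintype.card ι := by
  classical
  have : Finite F := inferInstance
  have : CharP F 2 := CharTwo.of_one_ne_zero_of_two_eq_zero one_ne_zero h2
  have hfin : Finite K := by
    have : Finite (Matrix ι ι F) := Module.finite_of_finite F
    infer_instance
  suffices h : ∀ d, ∀ W : Submodule F (ι → F), NdOn q W → (∀ k ∈ K, ∀ x ∈ W, k *ᵥ x ∈ W) → finrank F W = d →
      2 * r ∣ d by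
    have := h _ ⊤ (ndOn_top hQ) (fun _ _ _ _ => Submodule.mem_top) rfl
    rwa [finrank_top, Module.finrank_pi] at this
  intro d
  induction d using Nat.strong_induction_on with
  | _ d ih =>
    intro W hW hWK hd
    rcases Nat.eq_zero_or_pos d with rfl | hpos
    · exact dvd_zero _
    -- every element of the field is a square, so lines over the field are totally singular for the polar form
    have hsq : ∀ k ∈ K, ∀ v, QuadraticMap.polar q (k *ᵥ v) v = 0 := by
      intro k hk v
      obtain ⟨⟨s, hs⟩, hss⟩ : ∃ s : K, (s : Matrix ι ι F) * s = k := by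
        have hinj : Function.Injective fun s : K => s * s := fun a b h => by
          have h' : ((a : Matrix ι ι F) - b) * ((a : Matrix ι ι F) - b) = 0 := by
            have hab : (a : Matrix ι ι F) * a = (b : Matrix ι ι F) * b := congrArg Subtype.val h
            have hc := hK.comm _ a.2 _ b.2
            have e : ∀ X Y : Matrix ι ι F, X - Y - (Y - X) = (2 : F) • (X - Y) := fun X Y => by module
            rw [sub_mul, mul_sub, mul_sub, hab, hc, e, h2, zero_smul]
          by_contra hne
          obtain ⟨y, -, hy⟩ := hK.inv _ (K.sub_mem a.2 b.2) (sub_ne_zero.2 fun e => hne (Subtype.ext e))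
          have h3 := congrArg (· * y) h'
          simp only [mul_assoc, hy, mul_one, zero_mul] at h3
          exact hne (Subtype.ext (sub_eq_zero.1 h3))
        obtain ⟨s, hs⟩ := (Finite.injective_iff_surjective.1 hinj) ⟨k, hk⟩
        exact ⟨s, congrArg Subtype.val hs⟩
      simp only at hss
      rw [← hss, ← mulVec_mulVec, hsa s hs, quad_polar_self, h2, zero_mul]
    obtain ⟨v, hv, hv0⟩ := Submodule.exists_mem_ne_zero_of_ne_bot (p := W) fun h => by
      rw [h, finrank_bot] at hd; omega
    obtain ⟨w, hw, hvw⟩ : ∃ w ∈ W, QuadraticMap.polar q v w ≠ 0 := by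
      by_contra hno
      push Not at hno
      exact hv0 (hW v hv hno)
    let φ : (K × K) →ₗ[F] (ι → F) :=
      { toFun := fun x => (x.1 : Matrix ι ι F) *ᵥ v + (x.2 : Matrix ι ι F) *ᵥ w
        map_add' := fun a b => by simp [add_mulVec]; abel
        map_smul' := fun c a => by simp [Matrix.smul_mulVec, smul_add] }
    have hker : ∀ x, (∀ y, QuadraticMap.polar q (φ x) (φ y) = 0) → x = 0 := by
      rintro ⟨⟨k, hk⟩, ⟨k', hk'⟩⟩ h
      have hk'0 : k' = 0 := by
        by_contra hne
        obtain ⟨y, hy, hyk⟩ := hK.inv k' hk' hne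
        have h1 := h (⟨y, hy⟩, 0)
        simp [φ, QuadraticMap.polar_add_left] at h1
        rw [hsa k hk, mulVec_mulVec, QuadraticMap.polar_comm q v, hsq _ (K.mul_mem hk hy), zero_add, hsa k' hk',
          mulVec_mulVec, hyk, one_mulVec, QuadraticMap.polar_comm] at h1
        exact hvw h1
      have hk0 : k = 0 := by
        by_contra hne
        obtain ⟨y, hy, hyk⟩ := hK.inv k hk hne
        have h1 := h (0, ⟨y, hy⟩)
        simp [φ, hk'0] at h1
        rw [hsa k hk, mulVec_mulVec, hyk, one_mulVec] at h1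
        exact hvw h1
      subst hk0 hk'0
      rfl
    have hinj : Function.Injective φ := (injective_iff_map_eq_zero φ).2 fun x hx => hker x fun y => by
      rw [hx, QuadraticMap.polar_zero_left]
    obtain ⟨L, hL⟩ : ∃ L, L = LinearMap.range φ := ⟨_, rfl⟩
    have hLd : finrank F L = 2 * r := by
      rw [hL, LinearMap.finrank_range_of_inj hinj, Module.finrank_prod, hK.finrank_eq]; omega
    have hLnd : NdOn q L := by
      rw [hL]
      rintro _ ⟨x, rfl⟩ h
      rw [hker x fun y => h _ ⟨y, rfl⟩, map_zero]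
    have hLW : L ≤ W := by
      rw [hL]
      rintro _ ⟨x, rfl⟩
      exact W.add_mem (hWK _ x.1.2 _ hv) (hWK _ x.2.2 _ hw)
    have hLK : ∀ k ∈ K, ∀ x ∈ L, k *ᵥ x ∈ L := by
      rw [hL]
      rintro k hk _ ⟨x, rfl⟩
      exact ⟨(⟨k, hk⟩ * x.1, ⟨k, hk⟩ * x.2), by simp [φ, mulVec_add]⟩
    obtain ⟨hnd, -, hdim⟩ := split_in hQ hLnd hW hLW
    rw [hLd, hd] at hdim
    have hrpos : 0 < r := by
      rcases Nat.eq_zero_or_pos r with rfl | h
      · have h0 : L = ⊥ := Submodule.finrank_eq_zero.1 (by simpa using hLd)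
        have hmem : φ ((1 : K), 0) ∈ L := hL ▸ ⟨_, rfl⟩
        rw [h0, Submodule.mem_bot] at hmem
        simp [φ] at hmem
        exact absurd hmem hv0
      · exact h
    have h := ih (finrank F ↥(qPerp q L ⊓ W)) (by omega) _ hnd (fun k hk x hx => ⟨(mem_qPerp q).2 fun l hl => by
      rw [← hsa k hk]; exact (mem_qPerp q).1 hx.1 _ (hLK k hk l hl), hWK k hk x hx.2⟩) rfl
    rw [← hdim]
    exact dvd_add dvd_rfl h

end CfsgLib.Techniques.AschEven
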