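/-
The group `omegaGL` in even dimension lies in no stabiliser of a two-term decomposition, of an orthogonal
decomposition, or of a tensor decomposition.
-/
import Cfsg.Agent.Lib.Techniques.AschOmega.NotLe
import Cfsg.Agent.Lib.Classical22.OrthDecompTwo

set_option autoImplicit false

namespace CfsgLib.Techniques.AschEven

open Matrix CfsgLib.Techniques.AschPrime CfsgLib.Classical CfsgLib.Classical22 CfsgLib.Classical22.OrthDecomp
open CfsgLib.Classical22.Asch CfsgLib.Techniques.AschOmega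
open scoped MatrixGroups commutatorElement Kronecker

variable {F : Type*} [Field F] [Fintype F] {ι : Type} [Fintype ι] [DecidableEq ι] (q : QuadraticForm F (ι → F))

/-- A perfect group fixes each member of a two-term decomposition it preserves. -/
theorem not_omega_le_two (hQ : PolarNondeg q) (hn : 5 ≤ Fintype.card ι) {k : ℕ}
    {D : Fin 2 → Submodule F (ι → F)} (hD : Cfsg.Geo.IsMDecomposition k D) :
    ¬ Cfsg.Geo.omegaGL ⇑q ≤ Cfsg.Geo.decompositionStabilizer D := by
  classical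
  intro hle
  have hV : 5 ≤ Module.finrank F (ι → F) := by rwa [Module.finrank_pi]
  have hne : ∀ i, D i ≠ ⊥ := fun i h => by
    have h1 := hD.finrank_eq i
    rw [h, finrank_bot] at h1
    exact absurd hD.pos (h1 ▸ lt_irrefl 0)
  have hinj : Function.Injective D := fun i j h => by
    by_contra hij
    have hd := hD.indep.pairwiseDisjoint hij
    rw [Function.onFun, h, disjoint_self] at hd
    exact hne j hd
  have h1top : D 0 ≠ ⊤ := fun h => hne 1 (by
    have hd := hD.indep.pairwiseDisjoint (show (0 : Fin 2) ≠ 1 by decide)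
    rw [Function.onFun, h] at hd
    exact top_disjoint.1 hd)
  refine not_omega_le_subspace q hQ hn (hne 0) h1top ?_
  let A := Cfsg.Geo.decompositionStabilizer D
  have key : ∀ a ∈ A, ∀ b ∈ A, ⁅a, b⁆ ∈ Cfsg.Geo.subspaceStabilizer (D 0) := by
    intro a ha b hb
    obtain ⟨σ, hσ⟩ := ha
    obtain ⟨τ, hτ⟩ := hb
    obtain ⟨σ', hσ'⟩ := A.inv_mem ⟨σ, hσ⟩
    obtain ⟨τ', hτ'⟩ := A.inv_mem ⟨τ, hτ⟩
    have hcomp : ∀ (x y : GL ι F) (s t : Equiv.Perm (Fin 2)),
        (∀ i, (D i).map (Matrix.toLin' (x : Matrix ι ι F)) = D (s i)) →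
        (∀ i, (D i).map (Matrix.toLin' (y : Matrix ι ι F)) = D (t i)) →
        ∀ i, (D i).map (Matrix.toLin' ((x * y : GL ι F) : Matrix ι ι F)) = D ((s * t) i) := by
      intro x y s t hx hy i
      rw [Units.val_mul, Matrix.toLin'_mul, Submodule.map_comp, hy, hx]
      rfl
    have hinv : ∀ (x y : GL ι F) (s t : Equiv.Perm (Fin 2)),
        (∀ i, (D i).map (Matrix.toLin' (x : Matrix ι ι F)) = D (s i)) →
        (∀ i, (D i).map (Matrix.toLin' (y : Matrix ι ι F)) = D (t i)) → x * y = 1 → s * t = 1 := by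
      intro x y s t hx hy h
      refine Equiv.ext fun i => hinj ?_
      rw [← hcomp x y s t hx hy i, h]
      simp
    have h := hcomp _ _ _ _ (hcomp _ _ _ _ (hcomp _ _ _ _ hσ hτ) hσ') hτ' 0
    have e1 : σ' = σ⁻¹ := eq_inv_of_mul_eq_one_right (hinv a a⁻¹ σ σ' hσ hσ' (mul_inv_cancel a))
    have e2 : τ' = τ⁻¹ := eq_inv_of_mul_eq_one_right (hinv b b⁻¹ τ τ' hτ hτ' (mul_inv_cancel b))
    have hc : ∀ s t : Equiv.Perm (Fin 2), (s * t * s⁻¹ * t⁻¹) 0 = 0 := by decide
    rw [e1, e2, hc, ← commutatorElement_def] at h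
    refine CfsgLib.Transvec.mem_subspaceStabilizer_of_maps fun w hw => ?_
    rw [← h, ← Matrix.toLin'_apply]
    exact Submodule.mem_map_of_mem hw
  intro x hx
  rw [omegaGL_eq_map q hQ hn] at hx
  obtain ⟨g, hg, rfl⟩ := hx
  rw [← eichGroup_perfect q hQ hV, Subgroup.commutator_def] at hg
  refine Subgroup.closure_induction (p := fun (g : qAut q) _ => qHom q g ∈ Cfsg.Geo.subspaceStabilizer (D 0)) ?_
    (by rw [map_one]; exact Subgroup.one_mem _) (fun x y _ _ hx hy => by rw [map_mul]; exact Subgroup.mul_mem _ hx hy)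
    (fun x _ hx => by rw [map_inv]; exact Subgroup.inv_mem _ hx) hg
  rintro _ ⟨a, ha, b, hb, rfl⟩
  rw [map_commutatorElement]
  exact key _ (hle (by rw [omegaGL_eq_map q hQ hn]; exact ⟨a, ha, rfl⟩)) _
    (hle (by rw [omegaGL_eq_map q hQ hn]; exact ⟨b, hb, rfl⟩))

theorem not_omega_le_orth (hQ : PolarNondeg q) (hn : 5 ≤ Fintype.card ι) {t k : ℕ}
    {D : Fin t → Submodule F (ι → F)} (hD : Cfsg.Geo.IsOrthogonalMDecomposition ⇑q k D) :
    ¬ Cfsg.Geo.omegaGL ⇑q ≤ Cfsg.Geo.decompositionStabilizer D := by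
  have hcard := card_eq_mul hD.decomp.decomp
  rcases (show k = 1 ∨ k = 2 ∨ 3 ≤ k by have := hD.decomp.decomp.pos; omega) with rfl | rfl | hk
  · exact not_omega_le_lines q hQ hn hD
  · rw [omegaGL_eq_map q hQ hn, Subgroup.map_le_iff_le_comap, comap_decompositionStabilizer]
    exact not_eichGroup_le_dStab_plane (data_of_decomp q hD) hQ (by omega)
  · exact not_omega_le_blocks q hQ hn hk hD

/-- A group containing `omegaGL` maps some singular pure tensor to a tensor of rank two. -/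
theorem not_omega_le_tensor (hQ : PolarNondeg q) (hn : 5 ≤ Fintype.card ι) {a b : ℕ} {e : ι ≃ Fin a × Fin b}
    {P : GL ι F} {x x' : Fin a → F} {y y' : Fin b → F} {i j : Fin a} {k l : Fin b}
    (hx : x i * x' j - x j * x' i ≠ 0) (hy : y k * y' l - y l * y' k ≠ 0)
    (h1 : q ((P : Matrix ι ι F) *ᵥ ((fun z : Fin a × Fin b => x z.1 * y z.2) ∘ e)) = 0)
    (h2 : q ((P : Matrix ι ι F) *ᵥ ((fun z : Fin a × Fin b => x' z.1 * y' z.2) ∘ e)) = 0)
    (h3 : QuadraticMap.polar q ((P : Matrix ι ι F) *ᵥ ((fun z : Fin a × Fin b => x z.1 * y z.2) ∘ e))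
      ((P : Matrix ι ι F) *ᵥ ((fun z : Fin a × Fin b => x' z.1 * y' z.2) ∘ e)) = 0) :
    ¬ Cfsg.Geo.omegaGL ⇑q ≤ Cfsg.Geo.tensorProductSubgroup a b e P := by
  intro hle
  obtain ⟨M, hM⟩ : ∃ M : Fin a × Fin b → F, M = fun z => x z.1 * y z.2 + x' z.1 * y' z.2 := ⟨_, rfl⟩
  have hsum : (P : Matrix ι ι F) *ᵥ (M ∘ e) = (P : Matrix ι ι F) *ᵥ ((fun z : Fin a × Fin b => x z.1 * y z.2) ∘ e) +
      (P : Matrix ι ι F) *ᵥ ((fun z : Fin a × Fin b => x' z.1 * y' z.2) ∘ e) := by
    rw [← mulVec_add, hM]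
    rfl
  have hQM : q ((P : Matrix ι ι F) *ᵥ (M ∘ e)) = 0 := by rw [hsum, quad_add, h1, h2, h3]; simp
  have hdet : (M (i, k) * M (j, l) - M (i, l) * M (j, k)) ≠ 0 := by
    rw [hM, show (x i * y k + x' i * y' k) * (x j * y l + x' j * y' l) - (x i * y l + x' i * y' l) *
      (x j * y k + x' j * y' k) = (x i * x' j - x j * x' i) * (y k * y' l - y l * y' k) by ring]
    exact mul_ne_zero hx hy
  have hne : ∀ f : Fin a × Fin b → F, f ≠ 0 → (P : Matrix ι ι F) *ᵥ (f ∘ e) ≠ 0 := fun f hf h0 => hf (by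
    funext z
    simpa using congrFun (mulVec_inj P (h0.trans (mulVec_zero _).symm)) (e.symm z))
  obtain ⟨g, hg, hgv⟩ := exists_move_eichGroup q hQ (by rw [Module.finrank_pi]; omega) h1 hQM
    (hne _ fun h0 => hx (by
      have e1 := fun r s => congrFun h0 (r, s)
      by_cases hyk : y k = 0
      · have hyl : y l ≠ 0 := fun hyl => hy (by rw [hyk, hyl]; ring)
        rw [(mul_eq_zero.1 (e1 i l)).resolve_right hyl, (mul_eq_zero.1 (e1 j l)).resolve_right hyl]; ring
      · rw [(mul_eq_zero.1 (e1 i k)).resolve_right hyk, (mul_eq_zero.1 (e1 j k)).resolve_right hyk]; ring))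
    (hne _ fun h0 => hdet (by rw [congrFun h0 (i, k), congrFun h0 (i, l)]; simp))
  rw [← qHom_mulVec] at hgv
  obtain ⟨z, ⟨A, B, hz⟩, hgz⟩ := exists_toCoord_of_mem (hle (by rw [omegaGL_eq_map q hQ hn]; exact ⟨g, hg, rfl⟩))
  rw [mulVec_mulVec, toCoord_eq_iff.mp (hgz.trans hz), ← mulVec_mulVec] at hgv
  have hval : ∀ w : Fin a × Fin b, M w =
      ((A : Matrix (Fin a) (Fin a) F) *ᵥ x) w.1 * ((B : Matrix (Fin b) (Fin b) F) *ᵥ y) w.2 := by
    intro w
    have h := congrFun (mulVec_inj P hgv) (e.symm w)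
    rw [Matrix.submatrix_mulVec_equiv, Function.comp_assoc, Equiv.self_comp_symm, Function.comp_id] at h
    simp only [Function.comp_apply, Equiv.apply_symm_apply] at h
    rw [← h]
    simp only [mulVec, dotProduct, Fintype.sum_prod_type, kronecker_apply, Finset.sum_mul_sum]
    exact Finset.sum_congr rfl fun r _ => Finset.sum_congr rfl fun s _ => by rw [Matrix.kroneckerMap_apply]; ring
  apply hdet
  rw [hval, hval, hval, hval]
  ring

end CfsgLib.Techniques.AschEven
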