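/-
The tensor stabilisers of an even-dimensional orthogonal space: properness, signs and refinements.
-/
import Cfsg.Agent.Lib.Techniques.AschEven.FourSpace
import Cfsg.Agent.Lib.Techniques.AschEven.Tensor
import Cfsg.Agent.Lib.Techniques.AschEven.NotLe
import Cfsg.Agent.Lib.Techniques.AschOmega.Refine

set_option autoImplicit false

namespace CfsgLib.Techniques.AschEven

open Matrix CfsgLib.Techniques.AschPrime CfsgLib.Techniques.AschOmega CfsgLib.Classical CfsgLib.Classical22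
open CfsgLib.Classical22.Asch
open scoped MatrixGroups Kronecker

variable {F : Type*} [Field F] [Fintype F] {ι : Type} [Fintype ι] [DecidableEq ι] {q : QuadraticForm F (ι → F)}

/-- A pure tensor in the coordinates `(e, P)`. -/
def tv {a b : ℕ} (e : ι ≃ Fin a × Fin b) (P : GL ι F) (x : Fin a → F) (y : Fin b → F) : ι → F :=
  (P : Matrix ι ι F) *ᵥ ((fun z : Fin a × Fin b => x z.1 * y z.2) ∘ e)

omit [Fintype F] in
theorem formOfGram_pure {a b : ℕ} (G₁ : Matrix (Fin a) (Fin a) F) (G₂ : Matrix (Fin b) (Fin b) F)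
    (x x' : Fin a → F) (y y' : Fin b → F) :
    Cfsg.Geo.formOfGram (id : F → F) (G₁ ⊗ₖ G₂) (fun z => x z.1 * y z.2) (fun z => x' z.1 * y' z.2) =
      Cfsg.Geo.formOfGram (id : F → F) G₁ x x' * Cfsg.Geo.formOfGram (id : F → F) G₂ y y' := by
  simp only [Cfsg.Geo.formOfGram, id, Fintype.sum_prod_type, Matrix.kroneckerMap_apply, Finset.sum_mul_sum]
  exact Finset.sum_congr rfl fun i _ => Finset.sum_congr rfl fun k _ => Finset.sum_congr rfl fun j _ =>
    Finset.sum_congr rfl fun l _ => by ring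

omit [Fintype F] [Fintype ι] [DecidableEq ι] in
/-- A vector perpendicular to the first coordinate vector and independent of it. -/
theorem exists_perp_indep {b : ℕ} (hb : 3 ≤ b) (G : Matrix (Fin b) (Fin b) F) :
    ∃ (y y' : Fin b → F) (k l : Fin b), Cfsg.Geo.formOfGram (id : F → F) G y y' = 0 ∧
      y k * y' l - y l * y' k ≠ 0 := by
  let i0 : Fin b := ⟨0, by omega⟩
  let i1 : Fin b := ⟨1, by omega⟩
  let i2 : Fin b := ⟨2, by omega⟩
  have h01 : i0 ≠ i1 := by simp [i0, i1, Fin.ext_iff]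
  have h02 : i0 ≠ i2 := by simp [i0, i2, Fin.ext_iff]
  have h12 : i1 ≠ i2 := by simp [i1, i2, Fin.ext_iff]
  have hform : ∀ y' : Fin b → F, Cfsg.Geo.formOfGram (id : F → F) G (Pi.single i0 1) y' = ∑ j, G i0 j * y' j := by
    intro y'
    simp [Cfsg.Geo.formOfGram, Pi.single_apply]
  by_cases h1 : G i0 i1 = 0
  · refine ⟨Pi.single i0 1, Pi.single i1 1, i0, i1, by rw [hform]; simp [Pi.single_apply, h1], ?_⟩
    simp [h01, h01.symm]
  · refine ⟨Pi.single i0 1, G i0 i2 • Pi.single i1 1 - G i0 i1 • Pi.single i2 1, i0, i2, ?_, ?_⟩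
    · rw [hform]
      simp [Pi.single_apply, mul_sub, Finset.sum_sub_distrib, h12]
      ring
    · simp [h02, h02.symm, h12, h12.symm, h01, h01.symm, h1]

omit [Fintype F] in
theorem polar_tv {a b : ℕ} {e : ι ≃ Fin a × Fin b} {P : GL ι F} {c : F} {G₁ : Matrix (Fin a) (Fin a) F}
    {G₂ : Matrix (Fin b) (Fin b) F}
    (hf : ∀ x y, QuadraticMap.polar ⇑q ((P : Matrix ι ι F) *ᵥ (x ∘ e)) ((P : Matrix ι ι F) *ᵥ (y ∘ e)) =
      c * Cfsg.Geo.formOfGram (id : F → F) (G₁ ⊗ₖ G₂) x y) (x x' : Fin a → F) (y y' : Fin b → F) :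
    QuadraticMap.polar q (tv e P x y) (tv e P x' y') =
      c * (Cfsg.Geo.formOfGram (id : F → F) G₁ x x' * Cfsg.Geo.formOfGram (id : F → F) G₂ y y') := by
  rw [← formOfGram_pure]
  exact hf _ _

omit [Fintype F] in
theorem tv_linear {a b : ℕ} (e : ι ≃ Fin a × Fin b) (P : GL ι F) (x : Fin a → F) :
    ∃ L : (Fin b → F) →ₗ[F] (ι → F), ∀ y, L y = tv e P x y := by
  refine ⟨(Matrix.toLin' (P : Matrix ι ι F)).comp
    (LinearMap.pi fun i => x (e i).1 • LinearMap.proj (e i).2), fun y => ?_⟩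
  rfl

omit [Fintype F] in
theorem tv_eq_zero {a b : ℕ} {e : ι ≃ Fin a × Fin b} {P : GL ι F} {x : Fin a → F} {y : Fin b → F}
    (hx : x ≠ 0) (h : tv e P x y = 0) : y = 0 := by
  funext j
  obtain ⟨i, hi⟩ := Function.ne_iff.1 hx
  have h1 := congrFun (mulVec_inj P (h.trans (mulVec_zero _).symm)) (e.symm (i, j))
  simp at h1
  exact h1.resolve_left hi

omit [Fintype F] in
/-- Data of an alternating tensor structure. -/
theorem alt_gram {b : ℕ} {e : ι ≃ Fin 2 × Fin b} {P : GL ι F} {f₁ : (Fin 2 → F) → (Fin 2 → F) → F}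
    {f₂ : (Fin b → F) → (Fin b → F) → F} (hs₂ : Cfsg.Geo.IsSymplecticForm f₂)
    (hf : Cfsg.Geo.IsTensorFormStructure id (QuadraticMap.polar ⇑q) f₁ f₂ e P) :
    Even b ∧ ∃ c : F, ∀ x y, QuadraticMap.polar ⇑q ((P : Matrix ι ι F) *ᵥ (x ∘ e)) ((P : Matrix ι ι F) *ᵥ (y ∘ e)) =
      c * Cfsg.Geo.formOfGram (id : F → F) (Cfsg.Geo.gramMatrix f₁ ⊗ₖ Cfsg.Geo.gramMatrix f₂) x y := by
  refine ⟨?_, hf.imp fun c h => h.2⟩
  have hsq : IsSesq (RingEquiv.refl F) f₂ := IsSesq.of_bilinear hs₂.bilinear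
  have h := even_card_of_alt (G := Cfsg.Geo.gramMatrix f₂) (hsq.gram_det_ne_zero hs₂.nondegenerate) fun v => by
    rw [← hs₂.alternating v, hsq.eq_gram v v]
    rfl
  simpa using h

/-- An alternating tensor structure makes the space of plus type, with an even second factor. -/
theorem tensorAlt_plus {b : ℕ} (hb : Fintype.card ι = 2 * b) {e : ι ≃ Fin 2 × Fin b} {P : GL ι F}
    (hz : ∀ (x₁ : Fin 2 → F) (x₂ : Fin b → F), q (tv e P x₁ x₂) = 0) :
    Cfsg.Geo.IsPlusTypeOn ⇑q ⊤ := by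
  obtain ⟨L, hL⟩ := tv_linear e P (Pi.single 0 1)
  refine ⟨LinearMap.range L, le_top, ?_, ?_⟩
  · rintro _ ⟨y, rfl⟩
    rw [hL]
    exact hz _ _
  · rw [LinearMap.finrank_range_of_inj, Module.finrank_pi, finrank_top, Module.finrank_pi, hb, Fintype.card_fin]
    exact (injective_iff_map_eq_zero L).2 fun y hy => tv_eq_zero (by simp) ((hL y).symm.trans hy)

theorem not_omega_le_tensorAlt (hQ : PolarNondeg q) {b : ℕ} (hb : 3 ≤ b) {e : ι ≃ Fin 2 × Fin b} {P : GL ι F}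
    {f₁ : (Fin 2 → F) → (Fin 2 → F) → F} {f₂ : (Fin b → F) → (Fin b → F) → F}
    (hs₂ : Cfsg.Geo.IsSymplecticForm f₂)
    (hf : Cfsg.Geo.IsTensorFormStructure id (QuadraticMap.polar ⇑q) f₁ f₂ e P)
    (hz : ∀ (x₁ : Fin 2 → F) (x₂ : Fin b → F), q (tv e P x₁ x₂) = 0) :
    ¬ Cfsg.Geo.omegaGL ⇑q ≤ Cfsg.Geo.tensorProductSubgroup 2 b e P := by
  obtain ⟨-, c, hc⟩ := alt_gram hs₂ hf
  obtain ⟨y, y', k, l, hyy, hmin⟩ := exists_perp_indep hb (Cfsg.Geo.gramMatrix f₂)
  have hn : 5 ≤ Fintype.card ι := by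
    rw [Fintype.card_congr e, Fintype.card_prod, Fintype.card_fin, Fintype.card_fin]; omega
  refine not_omega_le_tensor q hQ hn (x := Pi.single 0 1) (x' := Pi.single 1 1) (i := 0) (j := 1) (by simp) hmin
    (hz _ _) (hz _ _) ?_
  exact (polar_tv hc _ _ _ _).trans (by rw [hyy, mul_zero, mul_zero])

/-- Each member maps into a member: the group permutes the members. -/
theorem mem_dec_of_maps {t k : ℕ} {D : Fin t → Submodule F (ι → F)} (hD : Cfsg.Geo.IsMDecomposition k D) {g : GL ι F}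
    (h : ∀ i, ∃ j, ∀ v ∈ D i, (g : Matrix ι ι F) *ᵥ v ∈ D j) : g ∈ Cfsg.Geo.decompositionStabilizer D := by
  classical
  choose σ hσ using h
  have hinj : Function.Injective (Matrix.toLin' (g : Matrix ι ι F)) := fun u v huv => by
    simp only [Matrix.toLin'_apply] at huv
    exact CfsgLib.Transvec.mulVec_injective g huv
  have heq : ∀ i, (D i).map (Matrix.toLin' (g : Matrix ι ι F)) = D (σ i) := fun i =>
    Submodule.eq_of_le_of_finrank_le (by rintro _ ⟨v, hv, rfl⟩; rw [Matrix.toLin'_apply]; exact hσ i v hv)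
      (by rw [← (Submodule.equivMapOfInjective _ hinj _).finrank_eq, hD.finrank_eq, hD.finrank_eq])
  have hσi : Function.Injective σ := fun i j hij => by
    by_contra hne
    have hd := hD.indep.pairwiseDisjoint hne
    have he := Submodule.map_injective_of_injective hinj ((heq i).trans ((congrArg D hij).trans (heq j).symm))
    rw [Function.onFun, he, disjoint_self] at hd
    have h1 := hD.finrank_eq j
    rw [hd, finrank_bot] at h1
    exact absurd hD.pos (by omega)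
  exact ⟨Equiv.ofBijective σ ⟨hσi, Finite.injective_iff_surjective.1 hσi⟩, heq⟩

section Sym

variable {e : ι ≃ Fin 3 × Fin 4} {P : GL ι F} {G₁ : Matrix (Fin 3) (Fin 3) F} {G₂ : Matrix (Fin 4) (Fin 4) F}

omit [Fintype F] in
theorem sym_form (hG : fGram e P (QuadraticMap.polar ⇑q) = G₁ ⊗ₖ G₂) (x y : Fin 3 × Fin 4 → F) :
    QuadraticMap.polar ⇑q ((P : Matrix ι ι F) *ᵥ (x ∘ e)) ((P : Matrix ι ι F) *ᵥ (y ∘ e)) =
      1 * Cfsg.Geo.formOfGram (id : F → F) (G₁ ⊗ₖ G₂) x y := by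
  rw [coord_formula (σ := RingEquiv.refl F) (IsSesq.of_bilinear (polar_bilin q)), hG, one_mul]
  exact (formOfGram_apply (σ := RingEquiv.refl F) _ _ _).symm

theorem not_omega_le_tensorSym (hQ : PolarNondeg q) (h2 : (2 : F) ≠ 0) (hd₁ : G₁.det ≠ 0) (hs₁ : G₁ᵀ = G₁)
    (hG : fGram e P (QuadraticMap.polar ⇑q) = G₁ ⊗ₖ G₂) :
    ¬ Cfsg.Geo.omegaGL ⇑q ≤ Cfsg.Geo.tensorProductSubgroup 3 4 e P := by
  classical
  obtain ⟨c₀, A₀, hc₀, hA₀⟩ := exists_congr_scalar h2 (κ := Fin 3) (by decide) hs₁ hd₁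
  obtain ⟨s, s', i, j, hs, hs', hij⟩ := exists_two_isotropic (F := F) h2
  have hform : ∀ u v : Fin 3 → F, Cfsg.Geo.formOfGram (id : F → F) G₁ ((A₀ : Matrix (Fin 3) (Fin 3) F) *ᵥ u)
      ((A₀ : Matrix (Fin 3) (Fin 3) F) *ᵥ v) = c₀ * ∑ l, u l * v l := by
    intro u v
    refine (formOfGram_apply (σ := RingEquiv.refl F) _ _ _).trans ?_
    show ((A₀ : Matrix (Fin 3) (Fin 3) F) *ᵥ u) ⬝ᵥ (G₁ *ᵥ ((A₀ : Matrix (Fin 3) (Fin 3) F) *ᵥ v)) = _
    rw [mulVec_mulVec, dotProduct_comm, dotProduct_mulVec, ← mulVec_transpose, mulVec_mulVec, ← mul_assoc, hA₀,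
      smul_mulVec, one_mulVec, smul_dotProduct, smul_eq_mul, dotProduct]
    congr 1
    exact Finset.sum_congr rfl fun l _ => mul_comm _ _
  have hminor : ∃ i j, ((A₀ : Matrix (Fin 3) (Fin 3) F) *ᵥ s) i * ((A₀ : Matrix (Fin 3) (Fin 3) F) *ᵥ s') j -
      ((A₀ : Matrix (Fin 3) (Fin 3) F) *ᵥ s) j * ((A₀ : Matrix (Fin 3) (Fin 3) F) *ᵥ s') i ≠ 0 := by
    by_contra hno
    push Not at hno
    have hx : (A₀ : Matrix (Fin 3) (Fin 3) F) *ᵥ s ≠ 0 := fun h0 => hij (by
      have hs0 : s = 0 := CfsgLib.Transvec.mulVec_injective A₀ (h0.trans (mulVec_zero _).symm)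
      simp [hs0])
    obtain ⟨k, hk⟩ := Function.ne_iff.1 hx
    have hsm : (((A₀ : Matrix (Fin 3) (Fin 3) F) *ᵥ s') k) • s = (((A₀ : Matrix (Fin 3) (Fin 3) F) *ᵥ s) k) • s' := by
      refine CfsgLib.Transvec.mulVec_injective A₀ ?_
      simp only [mulVec_smul]
      funext l
      simp only [Pi.smul_apply, smul_eq_mul]
      linear_combination -hno k l
    apply hij
    have e1 := congrFun hsm i
    have e2 := congrFun hsm j
    simp only [Pi.smul_apply, smul_eq_mul] at e1 e2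
    refine (mul_eq_zero.1 (?_ : ((A₀ : Matrix (Fin 3) (Fin 3) F) *ᵥ s) k * (s i * s' j - s j * s' i) = 0)).resolve_left hk
    linear_combination s j * e1 - s i * e2
  obtain ⟨i', j', hmin'⟩ := hminor
  obtain ⟨y, y', k, l, hyy, hmin⟩ := exists_perp_indep (b := 4) (by norm_num) G₂
  have hsing : ∀ (x : Fin 3 → F) (y : Fin 4 → F), ∑ l, x l * x l = 0 →
      q (tv e P ((A₀ : Matrix (Fin 3) (Fin 3) F) *ᵥ x) y) = 0 := fun x y hx => by
    have h := polar_tv (sym_form hG) ((A₀ : Matrix (Fin 3) (Fin 3) F) *ᵥ x) ((A₀ : Matrix (Fin 3) (Fin 3) F) *ᵥ x) y y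
    rw [hform, hx, quad_polar_self, mul_zero, zero_mul, mul_zero] at h
    exact (mul_eq_zero.1 h).resolve_left h2
  refine not_omega_le_tensor q hQ ?_ hmin' hmin (hsing s y hs) (hsing s' y' hs') ?_
  · rw [Fintype.card_congr e]; simp
  · exact (polar_tv (sym_form hG) _ _ _ _).trans (by rw [hyy, mul_zero, mul_zero])

/-- Over an odd field the symmetric tensor structure gives three orthogonal four-spaces. -/
theorem tensorSym_blocks (h2 : (2 : F) ≠ 0) (hd₁ : G₁.det ≠ 0) (hd₂ : G₂.det ≠ 0) (hs₁ : G₁ᵀ = G₁)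
    (hG : fGram e P (QuadraticMap.polar ⇑q) = G₁ ⊗ₖ G₂) {H : Subgroup (GL ι F)}
    (hiso : H ≤ Cfsg.isometryGroup F ⇑q) (hle : H ≤ Cfsg.Geo.tensorProductSubgroup 3 4 e P) :
    ∃ D : Fin 3 → Submodule F (ι → F), Cfsg.Geo.IsOrthogonalMDecomposition ⇑q 4 D ∧
      (∀ i, Cfsg.Geo.IsPlusTypeOn ⇑q (D i) ↔
        Cfsg.Geo.IsPlusTypeOn (fun v => Cfsg.Geo.formOfGram (id : F → F) G₂ v v) ⊤) ∧
      (Fintype.card F = 3 → H ≤ Cfsg.Geo.decompositionStabilizer D) := by
  classical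
  obtain ⟨c₀, A₀, hc₀, hA₀⟩ := exists_congr_scalar h2 (κ := Fin 3) (by decide) hs₁ hd₁
  obtain ⟨y, hy⟩ : ∃ y : Fin 3 → Fin 3 → F, y = fun a i => (A₀ : Matrix (Fin 3) (Fin 3) F) i a := ⟨_, rfl⟩
  have hyy : ∀ a b, Cfsg.Geo.formOfGram (id : F → F) G₁ (y a) (y b) = if a = b then c₀ else 0 := by
    intro a b
    have h := congrFun (congrFun hA₀ a) b
    simp only [Matrix.mul_apply, transpose_apply, Matrix.smul_apply, Matrix.one_apply, smul_eq_mul, mul_ite, mul_one,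
      mul_zero, Finset.sum_mul] at h
    rw [← h, hy, Cfsg.Geo.formOfGram, Finset.sum_comm]
    exact Finset.sum_congr rfl fun i _ => Finset.sum_congr rfl fun j _ => by simp [mul_assoc]
  choose L hL using fun a => tv_linear e P (y a)
  have hpol : ∀ a b v w, QuadraticMap.polar q (L a v) (L b w) =
      if a = b then c₀ * Cfsg.Geo.formOfGram (id : F → F) G₂ v w else 0 := by
    intro a b v w
    rw [hL, hL, polar_tv (sym_form hG), hyy, one_mul]
    split_ifs <;> simp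
  have hq : ∀ a v, 2 * q (L a v) = c₀ * Cfsg.Geo.formOfGram (id : F → F) G₂ v v := fun a v => by
    rw [← quad_polar_self, hpol, if_pos rfl]
  have hnd : ∀ v, (∀ w, Cfsg.Geo.formOfGram (id : F → F) G₂ v w = 0) → v = 0 := fun v hv => by
    by_contra h0
    obtain ⟨w, hw⟩ := (formOfGram_nondegenerate (σ := RingEquiv.refl F) hd₂ v h0).2
    exact hw (hv w)
  have hinj : ∀ a, Function.Injective (L a) := fun a => (injective_iff_map_eq_zero _).2 fun v hv => hnd v fun w => by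
    have h := hpol a a v w
    rw [if_pos rfl, hv, QuadraticMap.polar_zero_left] at h
    exact (mul_eq_zero.1 h.symm).resolve_left hc₀
  obtain ⟨D, hD⟩ : ∃ D : Fin 3 → Submodule F (ι → F), D = fun a => LinearMap.range (L a) := ⟨_, rfl⟩
  have hndD : ∀ a, NdOn q (D a) := fun a => by
    rw [hD]
    rintro _ ⟨v, rfl⟩ h
    rw [hnd v fun w => by
      have h1 := h _ ⟨w, rfl⟩
      rw [hpol, if_pos rfl] at h1
      exact (mul_eq_zero.1 h1).resolve_left hc₀, map_zero]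
  have horth : ∀ a b, a ≠ b → ∀ u ∈ D a, ∀ w ∈ D b, QuadraticMap.polar q u w = 0 := fun a b hab => by
    rw [hD]
    rintro _ ⟨v, rfl⟩ _ ⟨w, rfl⟩
    rw [hpol, if_neg hab]
  have hdim : ∀ a, Module.finrank F (D a) = 4 := fun a => by
    rw [hD, LinearMap.finrank_range_of_inj (hinj a)]; simp
  have hdec : Cfsg.Geo.IsMDecomposition 4 D := by
    refine ⟨by norm_num, by norm_num, hdim, fun i => ?_, ?_⟩
    · rw [disjoint_iff, eq_bot_iff]
      rintro v ⟨hv, hv'⟩
      refine (Submodule.mem_bot F).2 (hndD i v hv fun u hu => ?_)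
      have hle : (⨆ (j : Fin 3) (_ : j ≠ i), D j) ≤ qPerp q (D i) :=
        iSup₂_le fun j hj z hz => (mem_qPerp q).2 fun u hu => horth _ _ hj.symm u hu z hz
      exact (QuadraticMap.polar_comm q v u).trans ((mem_qPerp q).1 (hle hv') u hu)
    · rw [eq_top_iff]
      intro u _
      obtain ⟨M, hM⟩ : ∃ M : Fin 3 × Fin 4 → F, (P : Matrix ι ι F) *ᵥ (M ∘ e) = u :=
        ⟨coordVec e P u, mulVec_coordVec u⟩
      obtain ⟨N, hN⟩ : ∃ N : Matrix (Fin 3) (Fin 4) F,
          N = ((A₀⁻¹ : GL (Fin 3) F) : Matrix (Fin 3) (Fin 3) F) * Matrix.of fun i j => M (i, j) := ⟨_, rfl⟩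
      have hu : u = ∑ a, L a (N a) := by
        simp only [hL, tv, ← mulVec_sum]
        rw [← hM]
        congr 1
        funext i
        rw [Finset.sum_apply]
        have h1 : ((A₀ : Matrix (Fin 3) (Fin 3) F) * N) (e i).1 (e i).2 = M (e i) := by
          rw [hN, ← Matrix.mul_assoc, Units.mul_inv, Matrix.one_mul]; rfl
        simp only [Function.comp_apply]
        rw [← h1, Matrix.mul_apply, hy]
      rw [hu]
      exact Submodule.sum_mem _ fun a _ => Submodule.mem_iSup_of_mem a (hD ▸ ⟨_, rfl⟩)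
  refine ⟨D, ⟨⟨hdec, fun i => isNondegenerateOn_of_ndOn (hndD i), fun i j h => horth i j h⟩, fun a b => ?_⟩,
    fun a => ?_, fun hq3 g hg => ?_⟩
  · let ea := (LinearEquiv.ofInjective (L a) (hinj a))
    let eb := (LinearEquiv.ofInjective (L b) (hinj b))
    have hDa : ∀ c, D c = LinearMap.range (L c) := fun c => by rw [hD]
    refine ⟨(LinearEquiv.ofEq _ _ (hDa a)).trans (ea.symm.trans (eb.trans (LinearEquiv.ofEq _ _ (hDa b).symm))),
      fun w => mul_left_cancel₀ h2 ?_⟩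
    obtain ⟨v, hv⟩ : ∃ v, L a v = (w : ι → F) := (hDa a).le w.2
    have e1 : ea.symm (LinearEquiv.ofEq _ _ (hDa a) w) = v := by
      rw [LinearEquiv.symm_apply_eq]; exact Subtype.ext hv.symm
    simp only [LinearEquiv.trans_apply, e1]
    show 2 * q (L b v) = 2 * q (w : ι → F)
    rw [← hv, hq, hq]
  · have hzero : ∀ v, q (L a v) = 0 ↔ Cfsg.Geo.formOfGram (id : F → F) G₂ v v = 0 := fun v =>
      ⟨fun h => (mul_eq_zero.1 (by rw [← hq a v, h, mul_zero] : c₀ * _ = (0 : F))).resolve_left hc₀,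
        fun h => (mul_eq_zero.1 (by rw [hq a v, h, mul_zero] : (2 : F) * _ = 0)).resolve_left h2⟩
    constructor
    · rintro ⟨U, hUD, hU, hUd⟩
      refine ⟨U.comap (L a), le_top, fun v hv => (hzero v).1 (hU _ hv), ?_⟩
      have : (U.comap (L a)).map (L a) = U := Submodule.map_comap_eq_self (by rw [hD] at hUD; exact hUD)
      rw [(Submodule.equivMapOfInjective _ (hinj a) _).finrank_eq, this, hUd, hdim, finrank_top, Module.finrank_pi]
      simp
    · rintro ⟨U, -, hU, hUd⟩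
      refine ⟨U.map (L a), by rw [hD]; exact LinearMap.map_le_range, ?_, ?_⟩
      · rintro _ ⟨v, hv, rfl⟩
        exact (hzero v).2 (hU v hv)
      · rw [← (Submodule.equivMapOfInjective _ (hinj a) _).finrank_eq, hdim, hUd, finrank_top, Module.finrank_pi]
        simp
  · obtain ⟨A, B, c, hc, hgc, hA, -⟩ := tensor_sim hiso (fun h => hd₁ (by rw [h]; simp))
      (fun h => hd₂ (by rw [h]; simp)) hG hle hg
    obtain ⟨A', hA'⟩ : ∃ A' : Matrix (Fin 3) (Fin 3) F,
        A' = ((A₀⁻¹ : GL (Fin 3) F) : Matrix (Fin 3) (Fin 3) F) * (A : Matrix (Fin 3) (Fin 3) F) * (A₀ : Matrix (Fin 3) (Fin 3) F) := ⟨_, rfl⟩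
    have hAA : (A₀ : Matrix (Fin 3) (Fin 3) F) * A' = (A : Matrix (Fin 3) (Fin 3) F) * (A₀ : Matrix (Fin 3) (Fin 3) F) := by
      rw [hA', ← mul_assoc, ← mul_assoc, Units.mul_inv, one_mul]
    have hA'o : A'ᵀ * A' = c⁻¹ • 1 := by
      have h1 : A'ᵀ * ((A₀ : Matrix (Fin 3) (Fin 3) F)ᵀ * G₁ * (A₀ : Matrix (Fin 3) (Fin 3) F)) * A' =
          c⁻¹ • ((A₀ : Matrix (Fin 3) (Fin 3) F)ᵀ * G₁ * (A₀ : Matrix (Fin 3) (Fin 3) F)) := by
        calc A'ᵀ * ((A₀ : Matrix (Fin 3) (Fin 3) F)ᵀ * G₁ * (A₀ : Matrix (Fin 3) (Fin 3) F)) * A'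
            = ((A₀ : Matrix (Fin 3) (Fin 3) F) * A')ᵀ * G₁ * ((A₀ : Matrix (Fin 3) (Fin 3) F) * A') := by
              rw [transpose_mul]; simp only [mul_assoc]
          _ = (A₀ : Matrix (Fin 3) (Fin 3) F)ᵀ * ((A : Matrix (Fin 3) (Fin 3) F)ᵀ * G₁ * (A : Matrix (Fin 3) (Fin 3) F)) * (A₀ : Matrix (Fin 3) (Fin 3) F) := by
              rw [hAA, transpose_mul]; simp only [mul_assoc]
          _ = _ := by rw [hA, Matrix.mul_smul, Matrix.smul_mul]
      rw [hA₀, Matrix.mul_smul, Matrix.smul_mul, mul_one, smul_comm] at h1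
      exact (smul_right_injective _ hc₀) h1
    have hcol : ∀ a, ∑ i, A' i a * A' i a = c⁻¹ := fun a => by
      have h := congrFun (congrFun hA'o a) a
      simpa [Matrix.mul_apply] using h
    have hc1 : c⁻¹ = 1 := by
      have hdd : A'.det * A'.det = c⁻¹ ^ 3 := by
        have h := congrArg Matrix.det hA'o
        simpa [det_mul] using h
      have hne : c⁻¹ ≠ 0 := inv_ne_zero hc
      have hsq : c⁻¹ = (c * A'.det) * (c * A'.det) := by
        rw [show (c * A'.det) * (c * A'.det) = c * c * (A'.det * A'.det) by ring, hdd]; field_simp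
      rw [hsq]
      exact unit_sq_one hq3.le fun h => hne (by rw [hsq, h, mul_zero])
    refine mem_dec_of_maps hdec fun a => ?_
    obtain ⟨b, -, hb⟩ := single_of_sum_sq hq3 (v := fun i => A' i a) ((hcol a).trans hc1)
    have hAy : (A : Matrix (Fin 3) (Fin 3) F) *ᵥ y a = A' b a • y b := by
      funext i
      have h := congrFun (congrFun hAA i) a
      simp only [Matrix.mul_apply] at h
      rw [Finset.sum_eq_single b (fun j _ hj => by rw [hb j hj, mul_zero]) (by simp)] at h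
      simp only [mulVec, dotProduct, hy, Pi.smul_apply, smul_eq_mul]
      rw [← h, mul_comm]
    refine ⟨b, fun v hv => ?_⟩
    rw [hD] at hv ⊢
    obtain ⟨v, rfl⟩ := hv
    refine ⟨A' b a • ((B : Matrix (Fin 4) (Fin 4) F) *ᵥ v), ?_⟩
    rw [hL, hL, tv, tv, mulVec_mulVec, toCoord_eq_iff.mp hgc, ← mulVec_mulVec, Matrix.submatrix_mulVec_equiv,
      Function.comp_assoc, Equiv.self_comp_symm, Function.comp_id]
    congr 1
    refine congrArg (· ∘ e) (funext fun z => ?_)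
    have hk : (((A : Matrix (Fin 3) (Fin 3) F) ⊗ₖ (B : Matrix (Fin 4) (Fin 4) F)) *ᵥ fun w => y a w.1 * v w.2) z =
        ((A : Matrix (Fin 3) (Fin 3) F) *ᵥ y a) z.1 * ((B : Matrix (Fin 4) (Fin 4) F) *ᵥ v) z.2 := by
      simp only [mulVec, dotProduct, Fintype.sum_prod_type, Matrix.kroneckerMap_apply, Finset.sum_mul_sum]
      exact Finset.sum_congr rfl fun r _ => Finset.sum_congr rfl fun s _ => by ring
    rw [hk, hAy]
    simp only [Pi.smul_apply, smul_eq_mul]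
    ring

end Sym

end CfsgLib.Techniques.AschEven
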