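/-
The stabiliser of a symmetric tensor structure `3 ⊗ 4` with plus second factor lies in the stabiliser of an
alternating structure `2 ⊗ 6`.
-/
import Cfsg.Agent.Lib.Techniques.AschEven.Tens

set_option autoImplicit false

namespace CfsgLib.Techniques.AschEven

open Matrix CfsgLib.Techniques.AschPrime CfsgLib.Techniques.AschOmega CfsgLib.Classical CfsgLib.Classical22
open CfsgLib.Classical22.Asch
open scoped MatrixGroups Kronecker

variable {F : Type*} [Field F]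

/-- The regrouping `3 × (2 × 2) → 2 × (3 × 2)`. -/
def regroup : Fin 3 × Fin 4 ≃ Fin 2 × Fin 6 :=
  ((Equiv.refl (Fin 3)).prodCongr (finProdFinEquiv (m := 2) (n := 2)).symm).trans
    (((Equiv.prodAssoc (Fin 3) (Fin 2) (Fin 2)).symm.trans ((Equiv.prodComm (Fin 3) (Fin 2)).prodCongr
      (Equiv.refl (Fin 2)))).trans ((Equiv.prodAssoc (Fin 2) (Fin 3) (Fin 2)).trans
        ((Equiv.refl (Fin 2)).prodCongr (finProdFinEquiv (m := 3) (n := 2)))))

theorem left_regroup (X : Matrix (Fin 2) (Fin 2) F) :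
    (X ⊗ₖ (1 : Matrix (Fin 6) (Fin 6) F)).submatrix regroup regroup = (1 : Matrix (Fin 3) (Fin 3) F) ⊗ₖ leftFour X := by
  rw [leftFour_eq]
  ext ⟨j, i⟩ ⟨j', i'⟩
  simp only [submatrix_apply, kroneckerMap_apply, regroup, Equiv.trans_apply, Equiv.prodCongr_apply, Prod.map,
    Equiv.refl_apply, Equiv.prodAssoc_symm_apply, Equiv.prodComm_apply, Prod.swap, Equiv.prodAssoc_apply,
    Matrix.one_apply, EmbeddingLike.apply_eq_iff_eq, Prod.mk.injEq, id_eq, ite_and]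
  split_ifs <;> simp_all

theorem plusFour_regroup (G : Matrix (Fin 3) (Fin 3) F) (κ : F) :
    ((!![0, 1; -1, 0] : Matrix (Fin 2) (Fin 2) F) ⊗ₖ
      ((κ • (G ⊗ₖ (!![0, 1; -1, 0] : Matrix (Fin 2) (Fin 2) F))).submatrix finProdFinEquiv.symm
        finProdFinEquiv.symm)).submatrix regroup regroup = G ⊗ₖ (κ • plusFour F) := by
  rw [plusFour_eq]
  ext ⟨j, i⟩ ⟨j', i'⟩
  simp only [submatrix_apply, kroneckerMap_apply, regroup, Equiv.trans_apply, Equiv.prodCongr_apply, Prod.map,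
    Equiv.refl_apply, Equiv.prodAssoc_symm_apply, Equiv.prodComm_apply, Prod.swap, Equiv.prodAssoc_apply,
    Equiv.symm_apply_apply, Matrix.smul_apply, smul_eq_mul, id_eq]
  ring

variable [Fintype F] {ι : Type} [Fintype ι] [DecidableEq ι] {q : QuadraticForm F (ι → F)}

/-- The symmetric structure with plus second factor yields an alternating structure. -/
theorem tensorSym_to_alt (h2 : (2 : F) ≠ 0) {e : ι ≃ Fin 3 × Fin 4} {P : GL ι F} {G₁ : Matrix (Fin 3) (Fin 3) F}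
    {G₂ : Matrix (Fin 4) (Fin 4) F} (hd₁ : G₁.det ≠ 0) (hd₂ : G₂.det ≠ 0) (hs₁ : G₁ᵀ = G₁) (hs₂ : G₂ᵀ = G₂)
    (hG : fGram e P (QuadraticMap.polar ⇑q) = G₁ ⊗ₖ G₂)
    (hplus : Cfsg.Geo.IsPlusTypeOn (fun v => Cfsg.Geo.formOfGram (id : F → F) G₂ v v) ⊤) {H : Subgroup (GL ι F)}
    (hiso : H ≤ Cfsg.isometryGroup F ⇑q) (hdet : H ≤ Cfsg.Geo.specialLinear ι F)
    (hle : H ≤ Cfsg.Geo.tensorProductSubgroup 3 4 e P) :
    ∃ (e' : ι ≃ Fin 2 × Fin 6) (P' : GL ι F) (f₁ : (Fin 2 → F) → (Fin 2 → F) → F)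
      (f₂ : (Fin 6 → F) → (Fin 6 → F) → F), Cfsg.Geo.IsSymplecticForm f₁ ∧ Cfsg.Geo.IsSymplecticForm f₂ ∧
      Cfsg.Geo.IsTensorFormStructure id (QuadraticMap.polar ⇑q) f₁ f₂ e' P' ∧
      (∀ (x₁ : Fin 2 → F) (x₂ : Fin 6 → F), q (tv e' P' x₁ x₂) = 0) ∧
      H ≤ Cfsg.Geo.tensorProductSubgroup 2 6 e' P' := by
  classical
  have hf : IsSesq (RingEquiv.refl F) (QuadraticMap.polar ⇑q) := IsSesq.of_bilinear (polar_bilin q)
  obtain ⟨Q₂, hQ₂⟩ : ∃ Q₂ : QuadraticForm F (Fin 4 → F), Q₂ = (Matrix.toBilin' G₂).toQuadraticMap := ⟨_, rfl⟩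
  have hfo : ∀ u v, Cfsg.Geo.formOfGram (id : F → F) G₂ u v = u ⬝ᵥ (G₂ *ᵥ v) :=
    fun u v => formOfGram_apply (σ := RingEquiv.refl F) G₂ u v
  have hQv : ∀ v, Q₂ v = v ⬝ᵥ (G₂ *ᵥ v) := fun v => by
    rw [hQ₂, LinearMap.BilinMap.toQuadraticMap_apply, Matrix.toBilin'_apply']
  have hpol : ∀ u v, QuadraticMap.polar Q₂ u v = 2 * (u ⬝ᵥ (G₂ *ᵥ v)) := by
    intro u v
    have hsym : v ⬝ᵥ (G₂ *ᵥ u) = u ⬝ᵥ (G₂ *ᵥ v) := by
      rw [dotProduct_mulVec, dotProduct_comm, ← mulVec_transpose, hs₂]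
    simp [QuadraticMap.polar, hQv, mulVec_add, dotProduct_add, add_dotProduct, hsym]
    ring
  have hQ2 : PolarNondeg Q₂ := fun v hv => by
    by_contra h0
    obtain ⟨w, hw⟩ := (formOfGram_nondegenerate (σ := RingEquiv.refl F) hd₂ v h0).2
    apply hw
    rw [show Cfsg.Geo.formOfGram (RingEquiv.refl F) G₂ v w = v ⬝ᵥ (G₂ *ᵥ w) from
      formOfGram_apply (σ := RingEquiv.refl F) G₂ v w]
    exact (mul_eq_zero.1 ((hpol v w).symm.trans (hv w))).resolve_left h2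
  obtain ⟨x, y, x', y', hqx, hqy, hqx', hqy', hxy, hxy', hxx', hxy'0, hyx', hyy'⟩ :=
    exists_two_hyperbolic hQ2 (by simp) (by
      obtain ⟨U, hU, hUs, hUd⟩ := hplus
      exact ⟨U, hU, fun u hu => by rw [hQv, ← hfo]; exact hUs u hu, hUd⟩)
  obtain ⟨cols, hcols⟩ : ∃ cols : Fin 4 → Fin 4 → F, cols = ![x, x', -y', y] := ⟨_, rfl⟩
  obtain ⟨R₀, hR₀⟩ : ∃ R₀ : Matrix (Fin 4) (Fin 4) F, R₀ = Matrix.of fun i j => cols j i := ⟨_, rfl⟩
  have hRG : R₀ᵀ * G₂ * R₀ = (1 / 2 : F) • plusFour F := by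
    ext a b
    have e1 : (R₀ᵀ * G₂ * R₀) a b = cols a ⬝ᵥ (G₂ *ᵥ cols b) := by
      rw [hR₀, mul_assoc, Matrix.mul_apply]
      rfl
    rw [e1, show cols a ⬝ᵥ (G₂ *ᵥ cols b) = (1 / 2) * QuadraticMap.polar Q₂ (cols a) (cols b) by rw [hpol]; field_simp,
      Matrix.smul_apply, smul_eq_mul]
    congr 1
    subst hcols
    fin_cases a <;> fin_cases b <;>
      simp [plusFour, QuadraticMap.polar_neg_left, QuadraticMap.polar_neg_right, quad_polar_self, hqx, hqy, hqx', hqy',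
        hxy, hxy', hxx', hxy'0, hyx', hyy', QuadraticMap.polar_comm Q₂ y x, QuadraticMap.polar_comm Q₂ y' x',
        QuadraticMap.polar_comm Q₂ x' x, QuadraticMap.polar_comm Q₂ y' x, QuadraticMap.polar_comm Q₂ x' y,
        QuadraticMap.polar_comm Q₂ y' y]
  have hRdet : R₀.det ≠ 0 := fun h => by
    have h1 := congrArg Matrix.det hRG
    rw [det_mul, det_mul, h, mul_zero, Matrix.det_smul] at h1
    have h4 : (plusFour F).det * (plusFour F).det = 1 := by rw [← det_mul, plusFour_sq, det_one]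
    rcases mul_eq_zero.1 h1.symm with h5 | h5
    · exact pow_ne_zero _ (one_div_ne_zero h2) h5
    · rw [h5, mul_zero] at h4; exact zero_ne_one h4
  obtain ⟨R, hR⟩ : ∃ R : GL (Fin 4) F, (R : Matrix (Fin 4) (Fin 4) F) = R₀ :=
    ⟨GeneralLinearGroup.mkOfDetNeZero R₀ hRdet, rfl⟩
  obtain ⟨T, hT⟩ : ∃ T : Matrix (Fin 3 × Fin 4) (Fin 3 × Fin 4) F, T = (1 : Matrix (Fin 3) (Fin 3) F) ⊗ₖ R₀ := ⟨_, rfl⟩
  obtain ⟨Ti, hTi⟩ : ∃ Ti : Matrix (Fin 3 × Fin 4) (Fin 3 × Fin 4) F,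
      Ti = (1 : Matrix (Fin 3) (Fin 3) F) ⊗ₖ ((R⁻¹ : GL (Fin 4) F) : Matrix (Fin 4) (Fin 4) F) := ⟨_, rfl⟩
  have hTT : T * Ti = 1 ∧ Ti * T = 1 := by
    rw [hT, hTi, ← mul_kronecker_mul, ← mul_kronecker_mul, ← hR, Units.mul_inv, Units.inv_mul, one_mul, one_kronecker_one]
    exact ⟨rfl, rfl⟩
  obtain ⟨U, hU⟩ : ∃ U : GL ι F, (U : Matrix ι ι F) = T.submatrix e e ∧
      ((U⁻¹ : GL ι F) : Matrix ι ι F) = Ti.submatrix e e :=
    ⟨⟨T.submatrix e e, Ti.submatrix e e, by rw [Matrix.submatrix_mul_equiv, hTT.1, submatrix_one_equiv],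
      by rw [Matrix.submatrix_mul_equiv, hTT.2, submatrix_one_equiv]⟩, rfl, rfl⟩
  obtain ⟨P', hP'⟩ : ∃ P' : GL ι F, P' = P * U := ⟨_, rfl⟩
  have hcoord : ∀ g : Matrix ι ι F, toCoord (e.trans regroup) P' g =
      (Ti * toCoord e P g * T).submatrix regroup.symm regroup.symm := by
    intro g
    rw [toCoord_trans, hP']
    congr 1
    rw [toCoord, toCoord, _root_.mul_inv_rev, Units.val_mul, Units.val_mul, hU.1, hU.2]
    have key : ∀ M : Matrix ι ι F, (Ti.submatrix e e * M * T.submatrix e e).submatrix e.symm e.symm =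
        Ti * M.submatrix e.symm e.symm * T := fun M => by
      rw [← Matrix.submatrix_mul_equiv _ _ _ e.symm, ← Matrix.submatrix_mul_equiv _ _ _ e.symm,
        submatrix_submatrix, submatrix_submatrix]
      simp [Equiv.self_comp_symm, submatrix_id_id]
    rw [← key]
    simp only [mul_assoc]
  have hgram' : fGram e P' (QuadraticMap.polar ⇑q) = Tᵀ * fGram e P (QuadraticMap.polar ⇑q) * T := by
    ext a b
    have hsingle : ∀ a, (P' : Matrix ι ι F) *ᵥ ((Pi.single a 1 : Fin 3 × Fin 4 → F) ∘ e) =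
        (P : Matrix ι ι F) *ᵥ ((fun i => T i a) ∘ e) := fun a => by
      rw [hP', Units.val_mul, ← mulVec_mulVec, hU.1, submatrix_mulVec_equiv, Function.comp_assoc, Equiv.self_comp_symm,
        Function.comp_id, mulVec_single_one]
      rfl
    show QuadraticMap.polar q _ _ = _
    rw [hsingle, hsingle, coord_formula (σ := RingEquiv.refl F) hf, mul_assoc, Matrix.mul_apply]
    rfl
  obtain ⟨G₆, hG₆⟩ : ∃ G₆ : Matrix (Fin 6) (Fin 6) F,
      G₆ = ((1 / 2 : F) • (G₁ ⊗ₖ (!![0, 1; -1, 0] : Matrix (Fin 2) (Fin 2) F))).submatrix finProdFinEquiv.symm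
        finProdFinEquiv.symm := ⟨_, rfl⟩
  obtain ⟨J, hJ⟩ : ∃ J : Matrix (Fin 2) (Fin 2) F, J = !![0, 1; -1, 0] := ⟨_, rfl⟩
  have hgram : fGram (e.trans regroup) P' (QuadraticMap.polar ⇑q) = (1 : F) • (J ⊗ₖ G₆) := by
    rw [fGram_trans, hgram', hG, hT, ← Matrix.kroneckerMap_transpose, ← mul_kronecker_mul, ← mul_kronecker_mul,
      transpose_one, one_mul, mul_one, hRG, ← plusFour_regroup, submatrix_submatrix, Equiv.self_comp_symm,
      submatrix_id_id, one_smul, hG₆, hJ]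
  have hJd : J.det ≠ 0 := by simp [hJ, det_fin_two]
  have hJs : Jᵀ = -J := by rw [hJ]; ext i j; fin_cases i <;> fin_cases j <;> simp
  have hG6d : G₆.det ≠ 0 := by
    rw [hG₆, det_submatrix_equiv_self, Matrix.det_smul, det_kronecker, ← hJ]
    exact mul_ne_zero (pow_ne_zero _ (one_div_ne_zero h2)) (mul_ne_zero (pow_ne_zero _ hd₁) (pow_ne_zero _ hJd))
  have hG6s : G₆ᵀ = -G₆ := by
    rw [hG₆, transpose_submatrix, transpose_smul, ← Matrix.kroneckerMap_transpose, hs₁, ← hJ, hJs]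
    ext a b
    simp [kroneckerMap_apply]
  have hs₁' := formOfGram_symplectic hJd hJs h2
  refine ⟨e.trans regroup, P', _, _, hs₁', formOfGram_symplectic hG6d hG6s h2,
    isTensorFormStructure hf one_ne_zero hgram, fun x₁ x₂ => ?_, ?_⟩
  · have h := polar_tv (q := q) (e := e.trans regroup) (P := P') (c := 1) (G₁ := J) (G₂ := G₆)
      (fun u v => by
        rw [coord_formula (σ := RingEquiv.refl F) hf, hgram, one_smul, one_mul]
        exact (formOfGram_apply (σ := RingEquiv.refl F) _ _ _).symm) x₁ x₁ x₂ x₂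
    rw [quad_polar_self, hs₁'.alternating, zero_mul, mul_zero] at h
    exact (mul_eq_zero.1 h).resolve_left h2
  obtain ⟨S, hS⟩ : ∃ S : Set (Matrix ι ι F), S = {g | ∃ X : Matrix (Fin 2) (Fin 2) F,
      toCoord (e.trans regroup) P' g = X ⊗ₖ (1 : Matrix (Fin 6) (Fin 6) F)} := ⟨_, rfl⟩
  have hρ : ∀ g : S, ∃ X : Matrix (Fin 2) (Fin 2) F,
      toCoord (e.trans regroup) P' (g : Matrix ι ι F) = X ⊗ₖ (1 : Matrix (Fin 6) (Fin 6) F) := fun g => by
    have h := g.2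
    simp only [hS] at h
    exact h
  choose ρ hρ using hρ
  have hsurj : ∀ X, X ∈ Set.range ρ := fun X => by
    obtain ⟨g, hg⟩ : ∃ g : Matrix ι ι F, toCoord (e.trans regroup) P' g = X ⊗ₖ (1 : Matrix (Fin 6) (Fin 6) F) :=
      ⟨(P' : Matrix ι ι F) * (X ⊗ₖ (1 : Matrix (Fin 6) (Fin 6) F)).submatrix (e.trans regroup) (e.trans regroup) *
        ((P'⁻¹ : GL ι F) : Matrix ι ι F), toCoord_eq_iff.mpr (by rw [mul_assoc, Units.inv_mul, mul_one])⟩
    refine ⟨⟨g, by rw [hS]; exact ⟨X, hg⟩⟩, ?_⟩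
    ext a b
    have h := congrFun (congrFun ((hρ ⟨g, by rw [hS]; exact ⟨X, hg⟩⟩).symm.trans hg) (a, 0)) (b, 0)
    simpa using h
  have habs : Cfsg.Geo.ActsAbsolutelyIrreducibly (Set.range ρ) := by
    refine ⟨fun W hW => or_iff_not_imp_left.2 fun h0 => ?_, fun M hM => ?_⟩
    · obtain ⟨v, hv, hv0⟩ := Submodule.exists_mem_ne_zero_of_ne_bot h0
      obtain ⟨i, hi⟩ := Function.ne_iff.1 hv0
      refine Submodule.eq_top_iff'.2 fun w => ?_
      have hw : vecMulVec w (Pi.single i (v i)⁻¹) *ᵥ v = w := by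
        rw [vecMulVec_mulVec, single_dotProduct, inv_mul_cancel₀ hi]; simp
      rw [← hw, ← Matrix.toLin'_apply]
      exact hW _ (hsurj _) (Submodule.mem_map_of_mem hv)
    · obtain ⟨c, hc⟩ := Matrix.mem_range_scalar_of_commute_single (M := M) fun i j _ => (hM _ (hsurj _)).symm
      exact ⟨c, by rw [← hc, Matrix.scalar_apply, Matrix.smul_one_eq_diagonal]⟩
  refine le_tensorProduct (S := S) (by norm_num) habs hρ (by norm_num) fun h hh g hg => ?_
  rw [hS] at hg ⊢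
  obtain ⟨X, hX⟩ := hg
  obtain ⟨A, B, c, hc, hhc, hA, hB⟩ := tensor_sim hiso (fun h => hd₁ (by rw [h]; simp))
    (fun h => hd₂ (by rw [h]; simp)) hG hle hh
  have hinv : toCoord e P ((h⁻¹ : GL ι F) : Matrix ι ι F) = ((A⁻¹ : GL (Fin 3) F) : Matrix (Fin 3) (Fin 3) F) ⊗ₖ
      ((B⁻¹ : GL (Fin 4) F) : Matrix (Fin 4) (Fin 4) F) := by
    refine (left_inv_eq_right_inv (a := (A : Matrix (Fin 3) (Fin 3) F) ⊗ₖ (B : Matrix (Fin 4) (Fin 4) F)) ?_ ?_).symm
    · rw [← mul_kronecker_mul, Units.inv_mul, Units.inv_mul, one_kronecker_one]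
    · rw [← hhc, ← toCoord_mul, Units.mul_inv, toCoord_one]
  -- the second component is a proper similitude
  have hdh : (A : Matrix (Fin 3) (Fin 3) F).det ^ 4 * (B : Matrix (Fin 4) (Fin 4) F).det ^ 3 = 1 := by
    have h1 : (h : Matrix ι ι F).det = 1 := congrArg Units.val (MonoidHom.mem_ker.1 (hdet hh))
    have h2 : (toCoord e P (h : Matrix ι ι F)).det = (h : Matrix ι ι F).det := by
      rw [toCoord, det_submatrix_equiv_self, det_units_conj']
    rw [hhc, det_kronecker, Fintype.card_fin, Fintype.card_fin, h1] at h2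
    exact h2
  have hdA : (A : Matrix (Fin 3) (Fin 3) F).det ^ 2 = c⁻¹ ^ 3 := by
    have h1 := congrArg Matrix.det hA
    rw [det_mul, det_mul, det_transpose, Matrix.det_smul, Fintype.card_fin] at h1
    exact mul_right_cancel₀ hd₁ (by linear_combination h1)
  have hdB : (B : Matrix (Fin 4) (Fin 4) F).det ^ 2 = c ^ 4 := by
    have h1 := congrArg Matrix.det hB
    rw [det_mul, det_mul, det_transpose, Matrix.det_smul, Fintype.card_fin] at h1
    exact mul_right_cancel₀ hd₂ (by linear_combination h1)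
  have hdB' : (B : Matrix (Fin 4) (Fin 4) F).det = c * c := by
    have h3 : (B : Matrix (Fin 4) (Fin 4) F).det ^ 3 = c ^ 6 := by
      have h4 : (A : Matrix (Fin 3) (Fin 3) F).det ^ 4 * c ^ 6 = 1 := by
        rw [show (A : Matrix (Fin 3) (Fin 3) F).det ^ 4 = ((A : Matrix (Fin 3) (Fin 3) F).det ^ 2) ^ 2 by ring, hdA]
        field_simp
      exact mul_left_cancel₀ (left_ne_zero_of_mul (h4.trans_ne one_ne_zero)) (hdh.trans h4.symm)
    refine mul_left_cancel₀ (pow_ne_zero 4 hc) ?_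
    rw [show c ^ 4 * (B : Matrix (Fin 4) (Fin 4) F).det = (B : Matrix (Fin 4) (Fin 4) F).det ^ 3 by
      rw [← hdB]; ring, h3]
    ring
  obtain ⟨B₀, hB₀⟩ : ∃ B₀ : Matrix (Fin 4) (Fin 4) F,
      B₀ = ((R⁻¹ : GL (Fin 4) F) : Matrix (Fin 4) (Fin 4) F) * (B : Matrix (Fin 4) (Fin 4) F) * R₀ := ⟨_, rfl⟩
  obtain ⟨B₁, hB₁⟩ : ∃ B₁ : Matrix (Fin 4) (Fin 4) F, B₁ = ((R⁻¹ : GL (Fin 4) F) : Matrix (Fin 4) (Fin 4) F) *
      ((B⁻¹ : GL (Fin 4) F) : Matrix (Fin 4) (Fin 4) F) * R₀ := ⟨_, rfl⟩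
  have hRi : R₀ * ((R⁻¹ : GL (Fin 4) F) : Matrix (Fin 4) (Fin 4) F) = 1 := by rw [← hR, Units.mul_inv]
  have hiR : ((R⁻¹ : GL (Fin 4) F) : Matrix (Fin 4) (Fin 4) F) * R₀ = 1 := by rw [← hR, Units.inv_mul]
  have hsim : B₀ᵀ * plusFour F * B₀ = c • plusFour F := by
    have h1 : R₀ * B₀ = (B : Matrix (Fin 4) (Fin 4) F) * R₀ := by rw [hB₀, ← mul_assoc, ← mul_assoc, hRi, one_mul]
    have h3 : B₀ᵀ * ((1 / 2 : F) • plusFour F) * B₀ = c • ((1 / 2 : F) • plusFour F) := by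
      calc B₀ᵀ * ((1 / 2 : F) • plusFour F) * B₀ = (R₀ * B₀)ᵀ * G₂ * (R₀ * B₀) := by
            rw [← hRG, transpose_mul]; simp only [mul_assoc]
        _ = R₀ᵀ * ((B : Matrix (Fin 4) (Fin 4) F)ᵀ * G₂ * (B : Matrix (Fin 4) (Fin 4) F)) * R₀ := by
            rw [h1, transpose_mul]; simp only [mul_assoc]
        _ = _ := by rw [hB, Matrix.mul_smul, Matrix.smul_mul, hRG]
    rw [Matrix.mul_smul, Matrix.smul_mul, smul_comm] at h3
    exact (smul_right_injective _ (one_div_ne_zero h2)) h3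
  have hdB0 : B₀.det = c * c := by
    rw [hB₀, det_mul, det_mul, mul_right_comm, ← det_mul, hiR, det_one, one_mul, hdB']
  have hBB : B₀ * B₁ = 1 := by
    rw [hB₀, hB₁]
    simp only [mul_assoc]
    rw [← mul_assoc R₀, hRi, one_mul, ← mul_assoc (B : Matrix (Fin 4) (Fin 4) F), Units.mul_inv, one_mul, hiR]
  obtain ⟨Y, hY⟩ := proper_similitude_normalises h2 hBB hc hsim hdB0 X
  refine ⟨Y, ?_⟩
  have hmid : (Ti * toCoord e P g * T) = (1 : Matrix (Fin 3) (Fin 3) F) ⊗ₖ leftFour X := by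
    rw [← left_regroup, ← hX, hcoord, submatrix_submatrix, Equiv.symm_comp_self, submatrix_id_id]
  rw [toCoord_mul, toCoord_mul, hcoord, hcoord, hcoord, hmid, Matrix.submatrix_mul_equiv, Matrix.submatrix_mul_equiv,
    hhc, hinv, hT, hTi]
  simp only [← mul_kronecker_mul, one_mul, mul_one]
  rw [← hB₀, ← hB₁, Units.mul_inv, hY, ← left_regroup, submatrix_submatrix, Equiv.self_comp_symm, submatrix_id_id]

end CfsgLib.Techniques.AschEven
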