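/-
Normalising the geometric members of even-dimensional orthogonal groups.
-/
import Cfsg.Agent.Lib.Techniques.AschEven.EvenClass
import Cfsg.Agent.Lib.Techniques.AschEven.SymAlt
import Cfsg.Agent.Lib.Techniques.AschEven.Frame
import Cfsg.Agent.Lib.Techniques.AschEven.Parity

set_option autoImplicit false

namespace CfsgLib.Techniques.AschEven

open Matrix Module CfsgLib.Techniques.AschPrime CfsgLib.Techniques.AschOmega CfsgLib.Classical CfsgLib.Classical22
open scoped MatrixGroups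

variable {F : Type*} [Field F] [Fintype F] {ι : Type} [Fintype ι] [DecidableEq ι] {q : QuadraticForm F (ι → F)}

omit [DecidableEq ι] in
theorem two_eq_zero_iff : (2 : F) = 0 ↔ ¬ Odd (Fintype.card F) := by
  constructor
  · exact fun h2 ho => CfsgLib.Classical22.OrthType.two_ne_zero_of_odd rfl ho h2
  · intro ho
    by_contra h2
    refine ho (Nat.odd_iff.2 (FiniteField.odd_card_of_char_ne_two fun h => h2 ?_))
    haveI := ringChar.charP F
    rw [h] at this
    exact CharP.cast_eq_zero F 2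

omit [DecidableEq ι] in
theorem odd_card_of_two (h2 : (2 : F) ≠ 0) : Odd (Fintype.card F) := by
  by_contra h
  exact h2 (two_eq_zero_iff.2 h)

theorem ts_ne_top (hQ : PolarNondeg q) (hn : 1 ≤ Fintype.card ι) {W : Submodule F (ι → F)}
    (hs : Cfsg.Geo.IsTotallySingularQuad ⇑q W) : W ≠ ⊤ := fun htop => by
  have h := two_mul_finrank_singular q hQ hs
  rw [htop, finrank_top, Module.finrank_pi] at h
  omega

/-- The plus space: a totally singular subspace of codimension one in a maximal one is fixed with it. -/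
theorem singular_extend (hQ : PolarNondeg q) {m : ℕ} (hm : 3 ≤ m) (hn : Fintype.card ι = 2 * m)
    (hplus : Cfsg.Geo.IsPlusTypeOn ⇑q ⊤) {W : Submodule F (ι → F)} (hs : Cfsg.Geo.IsTotallySingularQuad ⇑q W)
    (hd : finrank F W + 1 = m) {H : Subgroup (GL ι F)} (hΩ : H ≤ Cfsg.Geo.omegaGL ⇑q)
    (hle : H ≤ Cfsg.Geo.subspaceStabilizer W) :
    ∃ U : Submodule F (ι → F), U ≠ ⊥ ∧ Cfsg.Geo.IsTotallySingularQuad ⇑q U ∧ finrank F U = m ∧
      H ≤ Cfsg.Geo.subspaceStabilizer U := by
  obtain ⟨U, hWU, hU, hUd⟩ := exists_ts_max hQ hplus hs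
  refine ⟨U, fun h => ?_, hU, by omega, fun h hh => fixes_max hQ hm hn hU (by omega) hWU (by omega) (hΩ hh) (hle hh)⟩
  rw [h, finrank_bot] at hUd
  omega

/-- A non-degenerate member may be taken of dimension at most half, avoiding hyperbolic planes over small fields. -/
theorem nondeg_small (hQ : PolarNondeg q) {m : ℕ} (hm : 3 ≤ m) (hn : Fintype.card ι = 2 * m) {H : Subgroup (GL ι F)}
    (hiso : H ≤ Cfsg.isometryGroup F ⇑q) {W : Submodule F (ι → F)} (h0 : W ≠ ⊥) (h1 : W ≠ ⊤)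
    (hW : Cfsg.Geo.IsNondegenerateOn (QuadraticMap.polar ⇑q) W) (hle : H ≤ Cfsg.Geo.subspaceStabilizer W) :
    (∃ U : Submodule F (ι → F), U ≠ ⊥ ∧ U ≠ ⊤ ∧ NdOn q U ∧ finrank F U ≤ m ∧
      (finrank F U = 2 → Cfsg.Geo.IsPlusTypeOn ⇑q U → 4 ≤ Fintype.card F) ∧
      H ≤ Cfsg.Geo.subspaceStabilizer U) ∨
    (¬ Odd (Fintype.card F) ∧ ∃ v, q v ≠ 0 ∧ H ≤ Cfsg.Geo.subspaceStabilizer (Submodule.span F {v})) := by
  classical
  have hV : finrank F (ι → F) = 2 * m := (Module.finrank_pi F).trans hn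
  have hWnd : NdOn q W := ndOn_of_isNondegenerateOn q hW
  have hperp : H ≤ Cfsg.Geo.subspaceStabilizer (qPerp q W) := fun h hh => by
    refine CfsgLib.Transvec.mem_subspaceStabilizer_of_maps fun x hx => (mem_qPerp q).2 fun w hw => ?_
    have e := polar_isometry (hiso (H.inv_mem hh)) w ((h : Matrix ι ι F) *ᵥ x)
    rw [← CfsgLib.Transvec.mul_mulVec, inv_mul_cancel, Units.val_one, one_mulVec] at e
    rw [← e]
    exact (mem_qPerp q).1 hx _ (CfsgLib.Transvec.mulVec_mem_of_mem_subspaceStabilizer (hle (H.inv_mem hh)) hw)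
  obtain ⟨U, hU, hUd, hU0, hUle⟩ : ∃ U, NdOn q U ∧ finrank F U ≤ m ∧ 0 < finrank F U ∧
      H ≤ Cfsg.Geo.subspaceStabilizer U := by
    have hW0 : 0 < finrank F W := by
      by_contra h
      exact h0 (Submodule.finrank_eq_zero.1 (by omega))
    have hW1 : finrank F W < 2 * m := hV ▸ Submodule.finrank_lt h1
    by_cases hd : finrank F W ≤ m
    · exact ⟨W, hWnd, hd, hW0, hle⟩
    · exact ⟨qPerp q W, ndOn_qPerp q hQ hWnd, by rw [finrank_qPerp q hQ, hV]; omega,
        by rw [finrank_qPerp q hQ, hV]; omega, hperp⟩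
  have hbot : ∀ U : Submodule F (ι → F), 0 < finrank F U → U ≠ ⊥ := fun U h e => by
    rw [e, finrank_bot] at h; omega
  have htop : ∀ U : Submodule F (ι → F), finrank F U ≤ m → U ≠ ⊤ := fun U h e => by
    rw [e, finrank_top, hV] at h; omega
  by_cases hexc : finrank F U = 2 ∧ Cfsg.Geo.IsPlusTypeOn ⇑q U ∧ Fintype.card F ≤ 3
  swap
  · exact Or.inl ⟨U, hbot U hU0, htop U hUd, hU, hUd, fun a b => by by_contra h; exact hexc ⟨a, b, by omega⟩, hUle⟩
  obtain ⟨a, ha, hqa, hval⟩ := small_plus_value hexc.2.2 hU hexc.1 hexc.2.1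
  have ha0 : a ≠ 0 := fun h => zero_ne_one (α := F) (by rw [← hqa, h, map_zero])
  have hAle : H ≤ Cfsg.Geo.subspaceStabilizer (Submodule.span F {a}) := fun h hh => by
    refine CfsgLib.Transvec.mem_subspaceStabilizer_of_maps fun x hx => ?_
    obtain ⟨s, rfl⟩ := Submodule.mem_span_singleton.1 hx
    obtain ⟨c, hc⟩ := hval _ (CfsgLib.Transvec.mulVec_mem_of_mem_subspaceStabilizer (hUle hh) ha)
      ((map_isometry (hiso hh) a).trans hqa)
    rw [mulVec_smul, hc, smul_smul]
    exact Submodule.smul_mem _ _ (Submodule.mem_span_singleton_self a)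
  by_cases h2 : (2 : F) = 0
  · exact Or.inr ⟨two_eq_zero_iff.1 h2, a, by rw [hqa]; exact one_ne_zero, hAle⟩
  refine Or.inl ⟨Submodule.span F {a}, hbot _ (by rw [finrank_span_singleton ha0]; omega),
    htop _ (by rw [finrank_span_singleton ha0]; omega), fun x hx h => ?_, by rw [finrank_span_singleton ha0]; omega,
    fun h => ?_, hAle⟩
  · obtain ⟨c, rfl⟩ := Submodule.mem_span_singleton.1 hx
    have e := h a (Submodule.mem_span_singleton_self a)
    rw [QuadraticMap.polar_smul_left, quad_polar_self, hqa, mul_one, smul_eq_mul, mul_eq_zero] at e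
    rw [e.resolve_right h2, zero_smul]
  · rw [finrank_span_singleton ha0] at h
    omega

/-- A quadratic field of similarities, not self-adjoint, excludes plus type in dimension twice an odd number. -/
theorem fieldU_plus_false (hQ : PolarNondeg q) {m : ℕ} (hodd : Odd m) (hn : Fintype.card ι = 2 * m)
    (hplus : Cfsg.Geo.IsPlusTypeOn ⇑q ⊤) {K : Subalgebra F (Matrix ι ι F)} (hK : Cfsg.Geo.IsFieldSubalgebra 2 K)
    (hac : Cfsg.Geo.IsAdjointClosedFor (QuadraticMap.polar ⇑q) K)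
    (hsim : ∀ k ∈ K, ∃ c : F, ∀ v, q (k *ᵥ v) = c * q v) : False := by
  classical
  have : Nonempty ι := Fintype.card_pos_iff.mp (by have := hodd.pos; omega)
  obtain ⟨x, hx, hxs⟩ : ∃ x ∈ K, ∀ c : F, x ≠ c • (1 : Matrix ι ι F) := by
    by_contra hno
    push Not at hno
    have h1 : finrank F K ≤ 1 := finrank_le_one (1 : K) fun k => by
      obtain ⟨c, hc⟩ := hno k k.2
      exact ⟨c, Subtype.ext hc.symm⟩
    rw [hK.finrank_eq] at h1
    omega
  have hli : LinearIndependent F ![(1 : K), ⟨x, hx⟩] :=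
    (LinearIndependent.pair_iff' fun h => one_ne_zero (α := Matrix ι ι F) (congrArg Subtype.val h)).2
      fun c h => hxs c (congrArg Subtype.val h).symm
  have hspan : ∀ y ∈ K, ∃ a b : F, y = a • (1 : Matrix ι ι F) + b • x := by
    intro y hy
    have htop : Submodule.span F (Set.range ![(1 : K), ⟨x, hx⟩]) = ⊤ :=
      Submodule.eq_top_of_finrank_eq (by rw [finrank_span_eq_card hli, hK.finrank_eq, Fintype.card_fin])
    have h : (⟨y, hy⟩ : K) ∈ Submodule.span F (Set.range ![(1 : K), ⟨x, hx⟩]) := htop ▸ Submodule.mem_top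
    rw [Matrix.range_cons_cons_empty, Submodule.mem_span_pair] at h
    obtain ⟨a, b, hab⟩ := h
    exact ⟨a, b, (congrArg Subtype.val hab).symm⟩
  obtain ⟨adj, hadj, had⟩ := hac x hx
  obtain ⟨b, a, hba⟩ := hspan _ (K.mul_mem hx hx)
  obtain ⟨a₁, b₁, hab⟩ := hspan adj hadj
  have hnot : ∀ v : ι → F, ∀ c : F, v ≠ 0 → x *ᵥ v ≠ c • v := by
    intro v c hv h
    obtain ⟨y, hy, hxy⟩ := hK.inv _ (K.sub_mem hx (K.smul_mem K.one_mem c)) (sub_ne_zero.2 (hxs c))
    rw [hK.comm _ (K.sub_mem hx (K.smul_mem K.one_mem c)) y hy] at hxy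
    exact hv (by rw [← one_mulVec v, ← hxy, ← mulVec_mulVec, sub_mulVec, Matrix.smul_mulVec, one_mulVec, h, sub_self,
      mulVec_zero])
  have hsing : ∀ v, q v = 0 → q (x *ᵥ v) = 0 ∧ QuadraticMap.polar q v (x *ᵥ v) = 0 := by
    intro v hv
    obtain ⟨c, hc⟩ := hsim x hx
    obtain ⟨c', hc'⟩ := hsim (1 + x) (K.add_mem K.one_mem hx)
    have h1 := hc' v
    rw [add_mulVec, one_mulVec, quad_add, hv, mul_zero, zero_add, hc v, hv, mul_zero, zero_add] at h1
    exact ⟨by rw [hc v, hv, mul_zero], h1⟩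
  -- the adjoint is an involution
  have hflip : ∀ u v, QuadraticMap.polar q (adj *ᵥ u) v = QuadraticMap.polar q u (x *ᵥ v) := fun u v => by
    rw [QuadraticMap.polar_comm, ← had, QuadraticMap.polar_comm]
  have hb : b₁ * b₁ = 1 := by
    by_contra hne
    have h2 : ∀ u v, QuadraticMap.polar q u (x *ᵥ v) =
        QuadraticMap.polar q u ((a₁ + b₁ * a₁) • v + (b₁ * b₁) • (x *ᵥ v)) := by
      intro u v
      rw [← hflip, hab, add_mulVec, Matrix.smul_mulVec, Matrix.smul_mulVec, one_mulVec]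
      simp only [QuadraticMap.polar_add_left, QuadraticMap.polar_smul_left, QuadraticMap.polar_add_right,
        QuadraticMap.polar_smul_right, had, hab, add_mulVec, Matrix.smul_mulVec, one_mulVec, smul_eq_mul]
      ring
    obtain ⟨i⟩ := ‹Nonempty ι›
    have hv : x *ᵥ Pi.single i 1 - ((a₁ + b₁ * a₁) • Pi.single i 1 + (b₁ * b₁) • (x *ᵥ Pi.single i 1)) = 0 := by
      refine hQ _ fun y => ?_
      rw [QuadraticMap.polar_comm, QuadraticMap.polar_sub_right, h2 y, sub_self]
    refine hnot (Pi.single i 1) ((a₁ + b₁ * a₁) / (1 - b₁ * b₁)) (by simp) ?_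
    have h1 : (1 - b₁ * b₁) • (x *ᵥ (Pi.single i 1 : ι → F)) = (a₁ + b₁ * a₁) • Pi.single i 1 := by
      rw [sub_smul, one_smul, ← sub_eq_zero, ← hv]; abel
    rw [div_eq_inv_mul, ← smul_smul, ← h1, smul_smul, inv_mul_cancel₀ (sub_ne_zero.2 (Ne.symm hne)), one_smul]
  refine Nat.not_even_iff_odd.2 hodd (even_of_similarity_field hQ hplus hn hnot (a := a) (b := b)
    (by rw [hba, add_comm]) hsing (adj := adj) (fun u v => had u v) ⟨a₁, ?_⟩)
  rcases mul_self_eq_one_iff.1 hb with h | h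
  · exact Or.inr (by rw [hab, h, one_smul])
  · exact Or.inl (by rw [hab, h, neg_smul, one_smul, sub_eq_add_neg])

/-- `omegaGL` lies in no subfield group carrying a multiple of the form. -/
theorem not_omega_le_subfield_scaled (hQ : PolarNondeg q) (hn : 7 ≤ Fintype.card ι) {F₀ : Subfield F} {r : ℕ}
    (hr : r.Prime) (hc : Fintype.card F = Nat.card F₀ ^ r) {P : GL ι F} {ζ : F} (hζ : ζ ≠ 0)
    (hP : Cfsg.Geo.IsQuadFormRationalStructure (fun v => ζ * q v) F₀ P) :
    ¬ Cfsg.Geo.omegaGL ⇑q ≤ Cfsg.Geo.subfieldSubgroup F₀ P := by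
  rw [← CfsgLib.Classical22.OrthSubfield.omegaGL_smul (⇑q) hζ]
  exact not_omega_le_subfield (ζ • q) (CfsgLib.Classical22.OrthType.polarNondeg_smul hQ hζ) hn
    (CfsgLib.Classical22.OrthSubfield.eq_top_of_prime_degree F₀ hr hc).1 hP

/-- The degree of a self-adjoint field is at most half, in characteristic two with a further factor two. -/
theorem sa_degree (hn5 : 5 ≤ Fintype.card ι) {r : ℕ} (hr : r.Prime) {K : Subalgebra F (Matrix ι ι F)}
    (hK : Cfsg.Geo.IsFieldSubalgebra r K) : r ∣ Fintype.card ι ∧ 1 < r := by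
  have : Nonempty ι := Fintype.card_pos_iff.mp (by omega)
  exact ⟨field_dvd hK, hr.one_lt⟩

/-- Lines in dimension twice an odd number: the sign decides the residue of the field order modulo four. -/
theorem sq_neg_one_iff (h2 : (2 : F) ≠ 0) : (IsSquare (-1 : F) ↔ Fintype.card F % 4 = 1) ∧
    (¬ IsSquare (-1 : F) ↔ Fintype.card F % 4 = 3) := by
  have h := Nat.odd_iff.1 (odd_card_of_two h2)
  rw [FiniteField.isSquare_neg_one_iff]
  constructor <;> omega

/-- The perp of an invariant subspace is invariant. -/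
theorem perp_le {H : Subgroup (GL ι F)} (hiso : H ≤ Cfsg.isometryGroup F ⇑q) {W : Submodule F (ι → F)}
    (hle : H ≤ Cfsg.Geo.subspaceStabilizer W) : H ≤ Cfsg.Geo.subspaceStabilizer (qPerp q W) := fun h hh => by
  refine CfsgLib.Transvec.mem_subspaceStabilizer_of_maps fun x hx => (mem_qPerp q).2 fun w hw => ?_
  have e := polar_isometry (hiso (H.inv_mem hh)) w ((h : Matrix ι ι F) *ᵥ x)
  rw [← CfsgLib.Transvec.mul_mulVec, inv_mul_cancel, Units.val_one, one_mulVec] at e
  rw [← e]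
  exact (mem_qPerp q).1 hx _ (CfsgLib.Transvec.mulVec_mem_of_mem_subspaceStabilizer (hle (H.inv_mem hh)) hw)

/-- An invariant subspace and its perp form an invariant decomposition. -/
theorem pair_le {H : Subgroup (GL ι F)} (hiso : H ≤ Cfsg.isometryGroup F ⇑q) {W : Submodule F (ι → F)} {k : ℕ}
    (hD : Cfsg.Geo.IsMDecomposition k ![W, qPerp q W]) (hle : H ≤ Cfsg.Geo.subspaceStabilizer W) :
    H ≤ Cfsg.Geo.decompositionStabilizer ![W, qPerp q W] := fun h hh => mem_dec_of_maps hD fun i => ⟨i, fun v hv => by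
  fin_cases i
  exacts [CfsgLib.Transvec.mulVec_mem_of_mem_subspaceStabilizer (hle hh) hv,
    CfsgLib.Transvec.mulVec_mem_of_mem_subspaceStabilizer (perp_le hiso hle hh) hv]⟩

omit [DecidableEq ι] in
theorem card_ne_six : Fintype.card F ≠ 6 := by
  intro h6
  obtain ⟨p, hp⟩ := CharP.exists F
  obtain ⟨n, hpp, hn⟩ := FiniteField.card F p
  rw [h6] at hn
  have hp6 : p ∣ 6 := hn ▸ dvd_pow_self p n.ne_zero
  have hn3 : (n : ℕ) < 3 := by
    by_contra h
    have := (Nat.pow_le_pow_left hpp.two_le 3).trans (Nat.pow_le_pow_right hpp.pos (show 3 ≤ (n : ℕ) by omega))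
    omega
  have := n.pos
  rcases (show (n : ℕ) = 1 ∨ (n : ℕ) = 2 by omega) with h | h <;> rw [h] at hn
  · rw [pow_one] at hn; subst hn; norm_num at hpp
  · have := Nat.le_of_dvd (by norm_num) hp6
    interval_cases p <;> norm_num at hn

/-- A swap between complementary singular halves is impossible in dimension twice an odd number. -/
theorem pair_false (hQ : PolarNondeg q) {m : ℕ} (hm : 3 ≤ m) (hodd : Odd m) (hn : Fintype.card ι = 2 * m)
    {D : Fin 2 → Submodule F (ι → F)} (hD : Cfsg.Geo.IsMDecomposition m D)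
    (hs : ∀ i, Cfsg.Geo.IsTotallySingularQuad ⇑q (D i)) {H : Subgroup (GL ι F)} (hΩ : H ≤ Cfsg.Geo.omegaGL ⇑q)
    (hirr : Cfsg.Geo.ActsIrreducibly (Cfsg.Geo.matrixSet H)) (hle : H ≤ Cfsg.Geo.decompositionStabilizer D) : False := by
  have hdisj : D 0 ⊓ D 1 = ⊥ := disjoint_iff.1 (hD.indep.pairwiseDisjoint (show (0 : Fin 2) ≠ 1 by decide))
  rcases hirr (D 0) (by
    rintro _ ⟨h, hh, rfl⟩
    obtain ⟨σ, hσ⟩ := hle hh
    rcases (show σ 0 = 0 ∨ σ 0 = 1 by omega) with e | e
    · exact ((hσ 0).trans (by rw [e])).le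
    · exact absurd ((hσ 0).trans (by rw [e])) (not_swap hQ hm hodd hn (hs 0) (hD.finrank_eq 0) hdisj (hΩ hh))) with h | h
  · have h1 := hD.finrank_eq 0
    rw [h, finrank_bot] at h1
    exact absurd hD.pos (by omega)
  · exact ts_ne_top hQ (by omega) (hs 0) h

theorem point_proper (hQ : PolarNondeg q) (hn : 5 ≤ Fintype.card ι) {v : ι → F} (hv : q v ≠ 0) :
    ¬ Cfsg.Geo.omegaGL ⇑q ≤ Cfsg.Geo.subspaceStabilizer (Submodule.span F {v}) := by
  have hv0 : v ≠ 0 := fun h => hv (by rw [h, map_zero])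
  refine not_omega_le_subspace q hQ hn (by simpa using hv0) fun h => ?_
  have h1 : finrank F (Submodule.span F {v}) = 1 := finrank_span_singleton hv0
  rw [h, finrank_top, Module.finrank_pi] at h1
  omega

end CfsgLib.Techniques.AschEven
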